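import Cfsg.Agent.H39.F24SU
import Cfsg.Agent.H39.F24Stab

/-! Subgroups of `SU₆(2)` of order `|3·U₄(3)|` are conjugate to `M0` in `GU₆(2)`. -/

set_option autoImplicit false
set_option maxRecDepth 1000000
set_option Elab.async false

namespace H39.F24

open H49 H72 MulAction

/-- table of the orbits of `S0` on singular vectors -/
def clsT : ℕ := nat_lit 0x6879876976899995876976896879999576896879876999959995999599955559876976896879999576896879876999956879876976899995999599959995555976896879876999956879876976899995876976896879999599959995999555599994999499944449999499949994444999949994999444494449444944499993876976896879999576896879876999956879876976899995999599959995555976896879876999956879876976899995876976896879999599959995999555596879876976899995876976896879999576896879876999959995999599955559999499949994444999949994999444499994999499944449444944494449999376896879876999956879876976899995876976896879999599959995999555596879876976899995876976896879999576896879876999959995999599955559876976896879999576896879876999956879876976899995999599959995555999949994999444499994999499944449999499949994444944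494449444999939994999499944449999499949994444999949994999444494449444944499993999499949994444999949994999444499994999499944449444944494449999399949994999444499994999499944449999499949994444944494449444999932229222922299991222922292229999122292229222999919991999199911119876976896879999576896879876999956879876976899995999599959995555976896879876999956879876976899995876976896879999599959995999555596879876976899995876976896879999576896879876999959995999599955559999499949994444999949994999444499994999499944449444944494449999376896879876999956879876976899995876976896879999599959995999555596879876976899995876976896879999576896879876999959995999599955559876976896879999576896879876999956879876976899995999599959995555999949994999444499994999499944449999499949994444944494449444999936879876976899995876976896879999576896879876999959995999599955559876976896879999576896879876999956879876976899995999599959995555976896879876999956879876976899995876976896879999599959995999555599994999499944449999499949994444999949994999444494449444944499993999499949994444999949994999444499994999499944449444944494449999399949994999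444499994999499944449999499949994444944494449444999939994999499944449999499949994444999949994999444494449444944499993222922292229999122292229222999912229222922299991999199919991111976896879876999956879876976899995876976896879999599959995999555596879876976899995876976896879999576896879876999959995999599955559876976896879999576896879876999956879876976899995999599959995555999949994999444499994999499944449999499949994444944494449444999936879876976899995876976896879999576896879876999959995999599955559876976896879999576896879876999956879876976899995999599959995555976896879876999956879876976899995876976896879999599959995999555599994999499944449999499949994444999949994999444494449444944499993876976896879999576896879876999956879876976899995999599959995555976896879876999956879876976899995876976896879999599959995999555596879876976899995876976896879999576896879876999959995999599955559999499949994444999949994999444499994999499944449444944494449999399949994999444499994999499944449999499949994444944494449444999939994999499944449999499949994444999949994999444494449444944499993999499949994444999949994999444499994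999499944449444944494449999322292229222999912229222922299991222922292229999199919991999111199994999499944449999499949994444999949994999444494449444944499993999499949994444999949994999444499994999499944449444944494449999399949994999444499994999499944449999499949994444944494449444999932229222922299991222922292229999122292229222999919991999199911119999499949994444999949994999444499994999499944449444944494449999399949994999444499994999499944449999499949994444944494449444999939994999499944449999499949994444999949994999444494449444944499993222922292229999122292229222999912229222922299991999199919991111999949994999444499994999499944449999499949994444944494449444999939994999499944449999499949994444999949994999444494449444944499993999499949994444999949994999444499994999499944449444944494449999322292229222999912229222922299991222922292229999199919991999111192229222922299991222922292229999122292229222999919991999199911119222922292229999122292229222999912229222922299991999199919991111922292229222999912229222922299991222922292229999199919991999111199990999099900009999099909990000999909990999000090009000900099999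

/-- number of the orbit of `S0` (9 for zero and the non-singular vectors) -/
def clsN (n : ℕ) : ℕ := Nat.land (Nat.shiftRight clsT (Nat.mul 4 n)) 15

/-- representatives -/
def repS : Fin 9 → ℕ := ![5, 65, 85, 320, 325, 1345, 1365, 1366, 1367]

/-- lengths -/
def lenS : Fin 9 → ℕ := ![27, 81, 243, 27, 729, 243, 243, 243, 243]

/-- numbers of orthogonal vectors -/
def ortS : Fin 9 → Fin 9 → ℕ :=
  ![![3, 27, 81, 27, 81, 81, 81, 81, 81], ![9, 39, 27, 9, 189, 27, 81, 81, 81],
    ![9, 9, 57, 9, 189, 81, 63, 63, 63], ![27, 27, 81, 3, 81, 81, 81, 81, 81],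
    ![3, 21, 63, 3, 201, 63, 63, 63, 63], ![9, 9, 81, 9, 189, 57, 63, 63, 63],
    ![9, 27, 63, 9, 189, 63, 93, 45, 45], ![9, 27, 63, 9, 189, 63, 45, 93, 45],
    ![9, 27, 63, 9, 189, 63, 45, 45, 93]]

theorem orb_S0 : ∀ k : Fin 9, orbB gS (repS k) (fun n => Nat.beq (clsN n) k) = true := by
  decide +kernel

theorem repS_lt : ∀ k, repS k < 4096 := by decide

theorem cls_facts {n : ℕ} (hn : n < 4096) : clsN n < 9 ∨ n = 0 ∨ qN n = true := by
  have : allV (fun n => Nat.blt (clsN n) 9 || Nat.beq n 0 || qN n) 4096 = true := by decide +kernel
  simpa [or_assoc, Nat.blt_eq] using allV_iff.1 this n hn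

theorem len_eq : ∀ k : Fin 9, cntV (fun n => andB (Nat.beq (clsN n) k) true) = lenS k := by
  decide +kernel

/-- orthogonality to a representative -/
noncomputable def ortB (a b n : ℕ) : Bool := andB (!qN (Nat.xor a n)) (!qN (Nat.xor b n))

theorem ort_eq : ∀ i k : Fin 9, (frc (repS i) fun a => frc (ap w0.c a) fun b =>
    cntV fun n => andB (Nat.beq (clsN n) k) (ortB a b n)) = ortS i k := by
  decide +kernel

theorem key_subsets : ∀ J : Fin 9 → Bool, J 0 = true →
    7 ∣ (∑ k, if J k then lenS k else 0) → (∑ k, if J k then lenS k else 0) ∣ 9797760 →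
    (∀ i, J i = true → (∑ k, if J k then ortS i k else 0) = ∑ k, if J k then ortS 0 k else 0) →
    J = ![true, true, false, true, false, false, true, false, false] ∨
    J = ![true, true, false, true, false, false, false, true, false] ∨
    J = ![true, true, false, true, false, false, false, false, true] := by
  decide +kernel

theorem ncard_sum {O : Set V} {J : Fin 9 → Bool}
    (hO : ∀ n < 4096, dv n ∈ O ↔ ∃ k : Fin 9, clsN n = k ∧ J k = true) (p : ℕ → Bool) :
    {v | v ∈ O ∧ p (enc v) = true}.ncard =
      ∑ k, if J k then cntV (fun n => andB (Nat.beq (clsN n) k) (p n)) else 0 := by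
  classical
  rw [ncard_eq_cntV (f := fun n => decide (dv n ∈ O) && p n) (fun n hn => by simp [enc_dv hn])]
  simp only [cntV, cntA_eq, zero_add, Finset.card_filter]
  rw [Finset.sum_congr rfl (g := fun n => ∑ k : Fin 9,
    if J k then (if andB (Nat.beq (clsN n) k) (p n) = true then 1 else 0) else 0)]
  · rw [Finset.sum_comm]
    refine Finset.sum_congr rfl fun k _ => ?_
    split_ifs <;> simp
  · intro n hn
    have hn' := Finset.mem_range.1 hn
    simp only [andB_iff, Nat.beq_eq, Bool.and_eq_true, decide_eq_true_eq, hO n hn']
    by_cases h : ∃ k : Fin 9, clsN n = k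
    · obtain ⟨k, hk⟩ := h
      rw [Finset.sum_eq_single k]
      · simp only [hk, Fin.val_inj, exists_eq_left', true_and]
        cases J k <;> simp
      · intro j _ hj
        have : ¬ clsN n = j := fun e => hj (Fin.ext (e.symm.trans hk))
        simp [this]
      · simp
    · push Not at h
      simp [h]

/-- `diag(ω, 1, 1, 1, 1, 1)` -/
noncomputable def dd : X := UG.mk' CT 11151733894906779683522195341810241573498882
  11151733894906779683522195341810241573490691

theorem dd_mem : dd ∈ GU := ⟨mem_Oq_of (by decide +kernel), mem_Lin.2 (by decide +kernel)⟩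

theorem mem_St_of_ty2 {g : X} (hg : g ∈ Oq) (h : ∀ v, ty (g • v) = 2 ↔ ty v = 2) : g ∈ St := by
  intro v
  have h0 : ty (g • v) = 0 ↔ ty v = 0 := by rw [ty_eq_zero, ty_eq_zero, smul_eq_zero_iff_eq]
  have h1 : ty (g • v) = 1 ↔ ty v = 1 := by rw [ty_eq_one, ty_eq_one, q_smul hg]
  have h2 := h v
  have h3 := ty_lt v
  have h4 := ty_lt (g • v)
  omega

theorem card_map_conj (K : Subgroup X) (g : X) :
    Nat.card (K.map (MulAut.conj g).toMonoidHom) = Nat.card K :=
  Subgroup.card_map_of_injective (MulAut.conj g).injective

theorem eq_M0_of_le {K : Subgroup X} (hK : K ≤ K0) (hc : Nat.card K = 9797760) : K = M0 := by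
  refine (Subgroup.eq_of_le_of_card_ge ?_ (by rw [hc, card_M0])).symm
  have h1 := (K.subgroupOf K0).index_mul_card
  rw [Nat.card_congr (Subgroup.subgroupOfEquivOfLe hK).toEquiv, hc] at h1
  have h2 := card_K0_le
  have h3 : (K.subgroupOf K0).index ≠ 0 := Subgroup.index_ne_zero_of_finite
  rw [M0_eq]
  refine closure_le_of_all fun x hx => ?_
  have hx0 : x ∈ K0 := M0_le_K0 (M0_eq ▸ Subgroup.subset_closure hx)
  have hx3 : x * x * (x * x) = x := of_decide_eq_true (allB_iff.1
    (show allB (fun x : X => decide (x * x * (x * x) = x)) gM = true by decide +kernel) x hx)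
  obtain h | h : (K.subgroupOf K0).index = 1 ∨ (K.subgroupOf K0).index = 2 := by omega
  · exact Subgroup.subgroupOf_eq_top.1 (Subgroup.index_eq_one.1 h) hx0
  · have : x * x ∈ K := Subgroup.mul_self_mem_of_index_two h ⟨x, hx0⟩
    exact hx3 ▸ K.mul_mem this this

theorem core_M1 {K : Subgroup X} (hS : S0 ≤ K) (hK : K ≤ SU0) (hc : Nat.card K = 9797760) :
    ∃ g ∈ GU, K.map (MulAut.conj g).toMonoidHom = M0 := by
  classical
  have hKG := hK.trans SU0_le_GU
  let O := orbit K (dv 5)
  let J : Fin 9 → Bool := fun k => decide (dv (repS k) ∈ O)
  have hinv : ∀ g ∈ K, ∀ v, g • v ∈ O ↔ v ∈ O := fun g hg v => by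
    simp only [O, mem_orbit_sub]
    constructor
    · rintro ⟨a, ha, e⟩
      exact ⟨g⁻¹ * a, K.mul_mem (K.inv_mem hg) ha, by rw [mul_smul, e, inv_smul_smul]⟩
    · rintro ⟨a, ha, rfl⟩
      exact ⟨g * a, K.mul_mem hg ha, mul_smul _ _ _⟩
  have hsing : ∀ v ∈ O, v ≠ 0 ∧ q v = 0 := fun v hv => by
    obtain ⟨g, hg, rfl⟩ := mem_orbit_sub.1 hv
    rw [q_smul (hKG hg).1, Ne, smul_eq_zero_iff_eq]
    exact q_of_ty (Or.inl ty_t0)
  have hO : ∀ n < 4096, dv n ∈ O ↔ ∃ k : Fin 9, clsN n = k ∧ J k = true := fun n hn => by
    have key : ∀ k : Fin 9, clsN n = k → (dv n ∈ O ↔ J k = true) := fun k hk => by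
      obtain ⟨g, hg, e⟩ := exists_smul_of_orbB (orb_S0 k) hn (by rw [Nat.beq_eq]; exact hk)
      rw [← e, hinv g (hS (S0_eq ▸ hg))]
      simp [J]
    constructor
    · intro h
      have h1 := hsing _ h
      rcases cls_facts hn with a | a | a
      · exact ⟨⟨_, a⟩, rfl, (key ⟨_, a⟩ rfl).1 h⟩
      · exact absurd (by rw [a, dv_zero]) h1.1
      · rw [(q_dv_eq_zero hn).1 h1.2] at a; exact absurd a (by simp)
    · rintro ⟨k, hk, h⟩; exact (key k hk).2 h
  have c1 : O.ncard = ∑ k, if J k then lenS k else 0 := by
    have := ncard_sum hO fun _ => true
    simp only [and_true, Set.ofPred_mem_eq, len_eq] at this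
    exact this
  have c2 := card_eq_orbit_mul K (dv 5)
  have c3 : Nat.card ↥(K ⊓ stabilizer X (dv 5)) ∣ 13271040 :=
    card_stab_SU0 ▸ Subgroup.card_dvd_of_le (inf_le_inf_right _ hK)
  rw [hc] at c2
  have c4 : 7 ∣ O.ncard := by
    refine ((Nat.Prime.dvd_mul (by norm_num)).1 (c2 ▸ (by norm_num : 7 ∣ 9797760))).resolve_right
      fun h => ?_
    exact absurd (h.trans c3) (by norm_num)
  have cnt : ∀ i, J i = true → {v | v ∈ O ∧ bf (dv (repS i)) v = 0 ∧
      bf (w0 • dv (repS i)) v = 0}.ncard = ∑ k, if J k then ortS i k else 0 := fun i hi => by
    have h1 := ncard_sum hO (ortB (repS i) (ap w0.c (repS i)))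
    have h2 := ort_eq i
    simp only [frc_eq] at h2
    simp only [h2] at h1
    rw [← h1]
    congr 1
    ext v
    obtain ⟨n, hn, rfl⟩ := exists_dv v
    simp only [Set.mem_ofPred_eq, enc_dv hn, ortB, andB_iff]
    refine and_congr_right fun hv => ?_
    have q1 := (hsing _ hv).2
    have q2 := (hsing _ (of_decide_eq_true hi)).2
    have q3 := (q_smul w0_mem_Oq _).trans q2
    rw [bf_eq, bf_eq, q1, q2, q3, smul_dv, ← dv_xor', ← dv_xor']
    simp only [add_zero, q_dv_eq_zero (xor_lt (repS_lt i) hn),
      q_dv_eq_zero (xor_lt (ap_lt _ (repS_lt i)) hn), Bool.not_eq_true']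
  have J0 : J 0 = true := decide_eq_true (mem_orbit_self _)
  have c5 : ∀ i, J i = true →
      (∑ k, if J k then ortS i k else 0) = ∑ k, if J k then ortS 0 k else 0 := fun i hi => by
    rw [← cnt i hi, ← cnt 0 J0]
    obtain ⟨g, hg, e⟩ := mem_orbit_sub.1 (of_decide_eq_true hi)
    refine (Set.ncard_congr (fun v _ => g • v) ?_ (fun _ _ _ _ e => smul_left_cancel g e) ?_).symm
    · rintro v ⟨h1, h2, h3⟩
      refine ⟨(hinv g hg v).2 h1, ?_, ?_⟩
      · rw [← e, bf_smul (hKG hg).1]; exact h2
      · rw [← e, ← smul_w0 (hKG hg).2, bf_smul (hKG hg).1]; exact h3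
    · rintro v ⟨h1, h2, h3⟩
      refine ⟨g⁻¹ • v, ⟨(hinv _ (K.inv_mem hg) v).2 h1, ?_, ?_⟩, smul_inv_smul _ _⟩
      · rw [← e] at h2
        rw [← bf_smul (hKG hg).1, smul_inv_smul]; exact h2
      · rw [← e] at h3
        rw [← bf_smul (hKG hg).1, smul_inv_smul, smul_w0 (hKG hg).2]; exact h3
  have fin : ∀ d ∈ GU, (∀ n < 4096, tyN (ap d.c n) = 2 ↔ ∃ k : Fin 9, clsN n = k ∧ J k = true) →
      ∃ g ∈ GU, K.map (MulAut.conj g).toMonoidHom = M0 := fun d hd h => by
    have h1 : ∀ v, ty (d • v) = 2 ↔ v ∈ O := forall_V fun n hn => by
      rw [smul_dv, ty_dv (ap_lt _ hn), h n hn, hO n hn]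
    refine ⟨d, hd, eq_M0_of_le ?_ (by rw [card_map_conj, hc])⟩
    rintro y ⟨x, hx, e⟩
    have e' : y = d * x * d⁻¹ := e.symm
    have hm : y ∈ GU := e' ▸ GU.mul_mem (GU.mul_mem hd (hKG hx)) (GU.inv_mem hd)
    refine mem_K0.2 ⟨mem_St_of_ty2 hm.1 fun v => ?_, hm.2⟩
    rw [e', mul_smul, mul_smul, h1, hinv x hx, ← h1, smul_inv_smul]
  rcases key_subsets J J0 (c1 ▸ c4) (c1 ▸ Dvd.intro _ c2.symm) c5 with e | e | e
  · refine fin 1 GU.one_mem fun n hn => ?_
    rw [e]
    exact of_decide_eq_true (allV_iff.1 (show allV (fun n => decide (tyN (ap (1 : X).c n) = 2 ↔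
      ∃ k : Fin 9, clsN n = k ∧ ![true, true, false, true, false, false, true, false, false] k
        = true)) 4096 = true by decide +kernel) n hn)
  · refine fin dd⁻¹ (GU.inv_mem dd_mem) fun n hn => ?_
    rw [e]
    exact of_decide_eq_true (allV_iff.1 (show allV (fun n => decide (tyN (ap (dd⁻¹ : X).c n) = 2 ↔
      ∃ k : Fin 9, clsN n = k ∧ ![true, true, false, true, false, false, false, true, false] k
        = true)) 4096 = true by decide +kernel) n hn)
  · refine fin dd dd_mem fun n hn => ?_
    rw [e]
    exact of_decide_eq_true (allV_iff.1 (show allV (fun n => decide (tyN (ap dd.c n) = 2 ↔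
      ∃ k : Fin 9, clsN n = k ∧ ![true, true, false, true, false, false, false, false, true] k
        = true)) 4096 = true by decide +kernel) n hn)

/-- Subgroups of `SU₆(2)` of order `|3·U₄(3)|` are conjugate to `M0` in `GU₆(2)`. -/
theorem core_M {K : Subgroup X} (hK : K ≤ SU0) (hc : Nat.card K = 9797760) :
    ∃ g ∈ GU, K.map (MulAut.conj g).toMonoidHom = M0 := by
  have : Fact (Nat.Prime 3) := ⟨by norm_num⟩
  obtain ⟨P⟩ : Nonempty (Sylow 3 K) := inferInstance
  have c1 : Nat.card ((P : Subgroup K).map K.subtype) = 3 ^ 7 := by
    rw [Subgroup.card_map_of_injective K.subtype_injective, P.card_eq_multiplicity, hc]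
    congr 1
    rw [show 9797760 = 3 ^ 7 * 4480 by norm_num, Nat.factorization_mul (by norm_num) (by norm_num),
      Nat.Prime.factorization_pow (by norm_num)]
    simp [Nat.factorization_eq_zero_of_not_dvd]
  obtain ⟨g, hg, h⟩ := exists_conj_mem (p := 3) S0_le_SU0 card_S0 (m := 12615680)
    (by rw [card_SU0]; norm_num) (by norm_num) (P.isPGroup'.map K.subtype)
    ((Subgroup.map_subtype_le _).trans hK)
  have e : ((P : Subgroup K).map K.subtype).map (MulAut.conj g).toMonoidHom = S0 :=
    Subgroup.eq_of_le_of_card_ge (by rintro _ ⟨x, hx, rfl⟩; exact h x hx)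
      (by rw [card_map_conj, c1, card_S0])
  obtain ⟨d, hd, e2⟩ := core_M1 (K := K.map (MulAut.conj g).toMonoidHom)
    (e ▸ Subgroup.map_mono (Subgroup.map_subtype_le _))
    (by rintro _ ⟨x, hx, rfl⟩; exact SU0.mul_mem (SU0.mul_mem hg (hK hx)) (SU0.inv_mem hg))
    (by rw [card_map_conj, hc])
  refine ⟨d * g, GU.mul_mem hd (SU0_le_GU hg), ?_⟩
  rw [← e2, Subgroup.map_map]
  congr 1
  ext x
  simp [mul_assoc]

end H39.F24
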