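/- Centric Brauer pairs and characters of defect zero modulo the centre. -/
import Cfsg.Agent.H39.NilDict
import Cfsg.Agent.H41.CenDef
import Cfsg.Agent.H38.CoverS

set_option autoImplicit false
set_option linter.unusedSectionVars false
open scoped MonoidAlgebra
open Cfsg H28 H35
open H34 (eB lam omega redA fC IntC)

namespace H39

open H36

variable {G : Type*} [Group G] [Finite G] {M : Ideal AlgInt} [M.IsMaximal] {p : ℕ}
  {Q : Subgroup G}

theorem center_subgroupOf_le (Q : Subgroup G) :
    (Q ⊓ Cen Q).subgroupOf (Cen Q) ≤ Subgroup.center (Cen Q) := fun z hz =>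
  Subgroup.mem_center_iff.2 fun c => Subtype.ext (c.2 z hz.1).symm

theorem card_center_subgroupOf (Q : Subgroup G) :
    Nat.card ((Q ⊓ Cen Q).subgroupOf (Cen Q)) = Nat.card ↥(Q ⊓ Cen Q) :=
  Nat.card_congr (Subgroup.subgroupOfEquivOfLe inf_le_right).toEquiv

theorem factorization_index_add {H : Type*} [Group H] [Finite H] (D : Subgroup H) (p : ℕ) :
    D.index.factorization p + (Nat.card D).factorization p = (Nat.card H).factorization p := by
  rw [← D.index_mul_card, Nat.factorization_mul D.index_ne_zero_of_finite Nat.card_pos.ne',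
    Finsupp.add_apply]

/-- `Z(Q)` is a defect group of `e` iff `e` has a member of defect zero modulo `Z(Q)`. -/
theorem isDef_center_iff_exists (hM : IsPModular p M) (hQ : IsPGroup p Q)
    {e : Set (IrrCharacter (Cen Q))} (he : IsPBlock M e) :
    IsDef p (Cen Q) (eS M _ e) (Q ⊓ Cen Q) ↔ ∃ θ ∈ e,
      (∀ z : Cen Q, (z : G) ∈ Q → (θ : Cen Q → ℂ) z = (θ : Cen Q → ℂ) 1) ∧
      (charDegree (θ : Cen Q → ℂ)).factorization p + (Nat.card ↥(Q ⊓ Cen Q)).factorization p =
        (Nat.card (Cen Q)).factorization p := by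
  have hZ := center_subgroupOf_le Q
  have hp : IsPGroup p ((Q ⊓ Cen Q).subgroupOf (Cen Q)) :=
    (hQ.to_le inf_le_left).comap_subtype
  have h1 := factorization_index_add ((Q ⊓ Cen Q).subgroupOf (Cen Q)) p
  rw [card_center_subgroupOf] at h1
  rw [← isDefectGroup_subgroupOf_iff hM he inf_le_right]
  refine ⟨fun hD => ?_, fun ⟨θ, hθ, _, h⟩ => H41.isDefectGroup_of_nu_eq hM hp hZ he hθ (by omega)⟩
  have : ((Q ⊓ Cen Q).subgroupOf (Cen Q)).Normal := ⟨fun n hn g => by
    rwa [(Subgroup.mem_center_iff.1 (hZ hn) g), mul_inv_cancel_right]⟩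
  have h := H41.pcq_of_le_center hp hZ
  obtain ⟨η, hη⟩ := h.exists_infl_mem hM he
  have hk := H41.ker_le_charKer_infl h.surj η
  refine ⟨_, hη, fun z hz => apply_of_mem_charKer (hk ?_), ?_⟩
  · rw [QuotientGroup.ker_mk']; exact ⟨hz, z.2⟩
  · rw [h.nu_of_ker_le hM he (by rwa [QuotientGroup.ker_mk']) hη hk]; exact h1

/-- A character below a character of defect zero has defect zero. -/
theorem nu_eq_of_over (hM : IsPModular p M) {N : Subgroup G} [N.Normal] [Fintype N]
    {χ : IrrCharacter G} {θ : IrrCharacter N} (h : H38.Over N.subtype χ.1 θ.1)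
    (h0 : (charDegree χ.1).factorization p = (Nat.card G).factorization p) :
    (charDegree θ.1).factorization p = (Nat.card N).factorization p := by
  have := Fact.mk hM.1
  have := charP_F hM
  have := Fintype.ofFinite G
  have hB := H34.isPBlock_blockOf (M := M) χ
  have hb := H34.isPBlock_blockOf (M := M) θ
  have hc := (H38.covers_iff_eS hB hb).1 ⟨χ, H34.self_mem_blockOf χ, θ, H34.self_mem_blockOf θ, h⟩
  obtain ⟨R, hR⟩ := (blk_eS hb).exists_isDef p le_rfl
  obtain ⟨P, hP, hPR⟩ := H38.knorr le_top (H38.nor_of_normal N ⊤) (blk_eB hB) (blk_eS hb) hc hR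
  have h1 := defect_zero_of_vanish hM hB (H34.self_mem_blockOf χ) (vanish_of_nu_eq hM.1 h0)
  rw [blockDefect_eq_zero_iff hM hB ((isDefectGroup_iff hM hB).2 hP)] at h1
  rw [h1, bot_inf_eq] at hPR
  refine nu_eq_of_defect_zero ((isDefectGroup_bot_iff hM hb).1 ?_) (H34.self_mem_blockOf θ)
  rw [isDefectGroup_iff_eS hM hb, Subgroup.map_bot, hPR]
  exact hR

/-- A group with a character of defect zero has no nontrivial normal `p`-subgroup. -/
theorem eq_bot_of_nu_eq (hM : IsPModular p M) {N : Subgroup G} [N.Normal] (hN : IsPGroup p N)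
    {χ : IrrCharacter G} (h0 : (charDegree χ.1).factorization p = (Nat.card G).factorization p) :
    N = ⊥ := by
  have := Fact.mk hM.1
  have := charP_F hM
  have := Fintype.ofFinite G
  have hB := H34.isPBlock_blockOf (M := M) χ
  have h1 := defect_zero_of_vanish hM hB (H34.self_mem_blockOf χ) (vanish_of_nu_eq hM.1 h0)
  exact le_bot_iff.1 (((isDefectGroup_iff hM hB).1 ((isDefectGroup_bot_iff hM hB).2 h1)).ge_of_normal
    hN le_rfl le_top (H38.nor_of_normal N ⊤) (blk_eB hB))

end H39
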