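import Cfsg.Agent.H1.SfM5
import Cfsg.Agent.H64.RGDLevi

/-! STD-F4, slot M9: an element `y τ` with square `β z₀` is inverted by an involution. -/

set_option autoImplicit false
set_option linter.unusedSectionVars false

namespace H39.SF

open H64.SG (Ns Cs)

section Abs

variable {G : Type*} [Group G]

/-- the conclusion of `M9`, inside `P` -/
def Gl (P : Subgroup G) (g : MulAut G) (y z : G) : Prop :=
  ∃ j ∈ P, j * j = 1 ∧ j * z = z * j ∧ j * (y * g j * y⁻¹) = z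

theorem Gl.tw {P : Subgroup G} {g : MulAut G} {y z a : G} (ha : a ∈ P)
    (h : Gl P g (a⁻¹ * y * g a) (a⁻¹ * z * a)) : Gl P g y z := by
  obtain ⟨j, h0, h1, h2, h3⟩ := h
  refine ⟨a * j * a⁻¹, mul_mem (mul_mem ha h0) (inv_mem ha), ?_, ?_, ?_⟩
  · calc _ = a * (j * j) * a⁻¹ := by group
      _ = 1 := by rw [h1]; group
  · calc _ = a * (j * (a⁻¹ * z * a)) * a⁻¹ := by group
      _ = _ := by rw [h2]; group
  · calc _ = a * (j * (a⁻¹ * y * g a * g j * (a⁻¹ * y * g a)⁻¹)) * a⁻¹ := by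
          rw [map_mul, map_mul, map_inv]; group
      _ = _ := by rw [h3]; group

theorem cj_mem {A : Subgroup G} {n a : G} (hn : n ∈ Ns A) (ha : a ∈ A) : n * a * n⁻¹ ∈ A :=
  (Subgroup.mem_normalizer_iff.1 hn a).1 ha

theorem mem_sup_Ns {A B : Subgroup G} (h : B ≤ Ns A) {w : G} (hw : w ∈ A ⊔ B) :
    ∃ a ∈ A, ∃ b ∈ B, w = a * b := by
  have h1 : w ∈ (↑(A ⊔ B) : Set G) := hw
  rw [Subgroup.coe_mul_of_right_le_normalizer_left A B h] at h1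
  obtain ⟨a, ha, b, hb, e⟩ := h1
  exact ⟨a, ha, b, hb, e.symm⟩

/-- `A B L` is a group with normal elementary abelian subgroups `A`, `B` exchanged by `g`. -/
structure Lv (g : MulAut G) (A B L : Subgroup G) : Prop where
  gg : ∀ y, g (g y) = y
  sqA : ∀ a ∈ A, a * a = 1
  sqB : ∀ a ∈ B, a * a = 1
  nA : A ⊔ B ⊔ L ≤ Ns A
  nB : A ⊔ B ⊔ L ≤ Ns B
  nQ : L ≤ Ns (A ⊔ B)
  inf : (A ⊔ B) ⊓ L = ⊥
  gA : ∀ a ∈ A, g a ∈ B
  gB : ∀ b ∈ B, g b ∈ A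
  gL : ∀ l ∈ L, g l ∈ L

theorem inv_of_sq {A : Subgroup G} (h : ∀ a ∈ A, a * a = 1) {a : G} (ha : a ∈ A) : a⁻¹ = a :=
  inv_eq_of_mul_eq_one_right (h a ha)

theorem comm_of_sq {A : Subgroup G} (h : ∀ a ∈ A, a * a = 1) {a b : G} (ha : a ∈ A) (hb : b ∈ A) :
    a * b = b * a := by
  rw [← inv_of_sq h (mul_mem ha hb), mul_inv_rev, inv_of_sq h ha, inv_of_sq h hb]

namespace Lv

variable {g : MulAut G} {A B L : Subgroup G} (h : Lv g A B L)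
include h

theorem split {w : G} (hw : w ∈ A ⊔ B) : ∃ a ∈ A, ∃ b ∈ B, w = a * b :=
  mem_sup_Ns ((le_sup_right.trans le_sup_left).trans h.nA) hw

theorem gQ {w : G} (hw : w ∈ A ⊔ B) : g w ∈ A ⊔ B := by
  obtain ⟨a, ha, b, hb, rfl⟩ := h.split hw
  rw [map_mul]
  exact mul_mem (Subgroup.mem_sup_right (h.gA a ha)) (Subgroup.mem_sup_left (h.gB b hb))

theorem cen {v w : G} (hv : v ∈ A ⊓ B) (hw : w ∈ A ⊔ B) : v * w = w * v := by
  obtain ⟨a, ha, b, hb, rfl⟩ := h.split hw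
  rw [← mul_assoc, comm_of_sq h.sqA hv.1 ha, mul_assoc, comm_of_sq h.sqB hv.2 hb, mul_assoc]

theorem dA {l a : G} (hl : l ∈ L) (ha : a ∈ A) : l * g a * l⁻¹ ∈ B :=
  cj_mem (h.nB (Subgroup.mem_sup_right hl)) (h.gA a ha)

theorem dB {l a : G} (hl : l ∈ L) (ha : a ∈ B) : l * g a * l⁻¹ ∈ A :=
  cj_mem (h.nA (Subgroup.mem_sup_right hl)) (h.gB a ha)

theorem uniq {w l w' l' : G} (hw : w ∈ A ⊔ B) (hl : l ∈ L) (hw' : w' ∈ A ⊔ B) (hl' : l' ∈ L)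
    (e : w * l = w' * l') : w = w' ∧ l = l' := by
  have h1 : w'⁻¹ * w = l' * l⁻¹ := by rw [inv_mul_eq_iff_eq_mul, ← mul_assoc, ← e]; group
  have h2 : w'⁻¹ * w ∈ (A ⊔ B) ⊓ L :=
    Subgroup.mem_inf.2 ⟨mul_mem (inv_mem hw') hw, h1 ▸ mul_mem hl' (inv_mem hl)⟩
  rw [h.inf, Subgroup.mem_bot, inv_mul_eq_one] at h2
  subst h2
  exact ⟨rfl, mul_left_cancel e⟩

theorem sq_eq {w l z : G} (hw : w ∈ A ⊔ B) (hl : l ∈ L) (hz : z ∈ A ⊓ B)
    (e : w * l * g (w * l) = z) : w * (l * g w * l⁻¹) = z := by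
  refine (h.uniq (l := l * g l) (l' := 1) (mul_mem hw (cj_mem (h.nQ hl) (h.gQ hw)))
    (mul_mem hl (h.gL l hl)) (Subgroup.mem_sup_left hz.1) (one_mem _) ?_).1
  rw [mul_one, ← e, map_mul]; group

theorem fin {P : Subgroup G} {w l z : G} (hP : w ∈ P) (hw : w ∈ A ⊓ B) (hl : l ∈ L) (hz : z ∈ A ⊓ B)
    (e : w * l * g (w * l) = z) : Gl P g (w * l) z := by
  have hw' : w ∈ A ⊔ B := Subgroup.mem_sup_left hw.1
  refine ⟨w, hP, h.sqA w hw.1, comm_of_sq h.sqA hw.1 hz.1, ?_⟩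
  have h1 := h.sq_eq hw' hl hz e
  calc _ = w * (w * (l * g w * l⁻¹)) * w⁻¹ := by group
    _ = z := by rw [h1, comm_of_sq h.sqA hw.1 hz.1]; group

theorem tw_sq {a y z : G} (ha : a ∈ A ⊔ B) (hz : z ∈ A ⊓ B) (e : y * g y = z) :
    a⁻¹ * z * a = z ∧ a⁻¹ * y * g a * g (a⁻¹ * y * g a) = z := by
  have h1 : a⁻¹ * z * a = z := by rw [mul_assoc, h.cen hz ha]; group
  refine ⟨h1, ?_⟩
  rw [map_mul, map_mul, map_inv, h.gg, ← h1, ← e]; group

/-- the untwisted case -/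
theorem caseE {y z : G} (hy : y ∈ A ⊔ B ⊔ L) (hz : z ∈ A ⊓ B) (e : y * g y = z) : Gl ⊤ g y z := by
  obtain ⟨w, hw, l, hl, rfl⟩ := mem_sup_Ns h.nQ hy
  obtain ⟨a, ha, b, hb, rfl⟩ := h.split hw
  obtain ⟨h1, h2⟩ := h.tw_sq (Subgroup.mem_sup_left ha) hz e
  refine Gl.tw (Subgroup.mem_top a) ?_
  have h3 : a⁻¹ * (a * b * l) * g a = b * (l * g a * l⁻¹) * l := by group
  have h4 := mul_mem hb (h.dA hl ha)
  rw [h3] at h2
  rw [h1, h3]
  refine h.fin (Subgroup.mem_top _) ⟨?_, h4⟩ hl hz h2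
  have h5 := h.sq_eq (Subgroup.mem_sup_right h4) hl hz h2
  rw [← eq_mul_inv_iff_mul_eq] at h5
  rw [h5]
  exact A.mul_mem hz.1 (A.inv_mem (h.dB hl h4))

/-- the twisted case -/
theorem caseT {θ : G →* G} {D D' : MulAut G} (hQ : ∀ w ∈ A ⊔ B, θ w ∈ A ⊔ B) (hL : ∀ l ∈ L, θ l ∈ L)
    (tD : ∀ u, θ (D u) = D (θ u)) (gD : ∀ u, g (D u) = D' (g u)) (dL : ∀ l ∈ L, D' l = l)
    (sA : ∀ a ∈ A, D a ∈ A ∧ D' a ∈ A ∧ D a * a * D' a ∈ B)
    (sB : ∀ a ∈ B, D a ∈ B ∧ D' a ∈ B ∧ D a * a * D' a ∈ A)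
    {y z : G} (hy : y ∈ A ⊔ B ⊔ L) (ht : θ y = y) (hz : z ∈ A ⊓ B) (e : y * g y = z)
    (tg : ∀ u, θ u = u → θ (g u) = g u) : Gl (θ.eqLocus (MonoidHom.id G)) g y z := by
  obtain ⟨w, hw, l, hl, rfl⟩ := mem_sup_Ns h.nQ hy
  obtain ⟨t1, t2⟩ := h.uniq (hQ w hw) (hL l hl) hw hl ((map_mul θ w l).symm.trans ht)
  have t3 : θ (D w) = D w := by rw [tD, t1]
  have h0 := h.sq_eq hw hl hz e
  obtain ⟨a, ha, b, hb, e'⟩ := h.split hw
  obtain ⟨a1, a2, a3⟩ := sA a ha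
  obtain ⟨b1, b2, b3⟩ := sB b hb
  have hD : D w ∈ A ⊔ B := by
    rw [e', map_mul]; exact mul_mem (Subgroup.mem_sup_left a1) (Subgroup.mem_sup_right b1)
  obtain ⟨h1, h2⟩ := h.tw_sq hD hz e
  refine Gl.tw (a := D w) t3 ?_
  have h3 : (D w)⁻¹ * (w * l) * g (D w) = (D w)⁻¹ * w * (D' w)⁻¹ * D' z * l := by
    rw [gD, ← h0, map_mul, map_mul, map_mul, map_inv, dL l hl]; group
  have h4 : (D w)⁻¹ * w * (D' w)⁻¹ = D b * (D a * a * D' a) * (D' a * (b * D' b) * D' a) := by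
    rw [e', map_mul, map_mul, mul_inv_rev, mul_inv_rev, inv_of_sq h.sqA a1, inv_of_sq h.sqA a2,
      inv_of_sq h.sqB b1, inv_of_sq h.sqB b2]
    calc _ = D b * (D a * a) * (D' a * D' a) * (b * D' b) * D' a := by rw [h.sqA _ a2]; group
      _ = _ := by group
  have h5 : (D w)⁻¹ * w * (D' w)⁻¹ = D b * (D a * a) * (D b)⁻¹ * (D b * b * D' b) * D' a := by
    rw [e', map_mul, map_mul, mul_inv_rev, mul_inv_rev, inv_of_sq h.sqA a1, inv_of_sq h.sqA a2,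
      inv_of_sq h.sqB b1, inv_of_sq h.sqB b2]
    calc _ = D b * (D a * a) * (D b * D b) * (b * D' b) * D' a := by rw [h.sqB _ b1]; group
      _ = _ := by group
  have h6 : (D w)⁻¹ * w * (D' w)⁻¹ * D' z ∈ A ⊓ B := by
    refine mul_mem ⟨?_, ?_⟩ ⟨(sA z hz.1).2.1, (sB z hz.2).2.1⟩
    · rw [h5]
      exact mul_mem (mul_mem (cj_mem (h.nA (Subgroup.mem_sup_left (Subgroup.mem_sup_right b1)))
        (mul_mem a1 ha)) b3) a2
    · rw [h4]
      refine mul_mem (mul_mem b1 a3) ?_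
      have := cj_mem (h.nB (Subgroup.mem_sup_left (Subgroup.mem_sup_left a2))) (mul_mem hb b2)
      rwa [inv_of_sq h.sqA a2] at this
  have h7 : (D w)⁻¹ * w * (D' w)⁻¹ * D' z ∈ θ.eqLocus (MonoidHom.id G) := by
    rw [← mul_inv_cancel_right (_ * D' z) l, ← h3]
    exact mul_mem (mul_mem (mul_mem (inv_mem t3) ht) (tg _ t3)) (inv_mem t2)
  rw [h3] at h2
  rw [h1, h3]
  exact h.fin h7 h6 hl hz h2

end Lv

end Abs

open Cfsg.Lie H63 H65 H64 H64.SF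
open H64.SG (UJ x_mem_gen mem_Cs_gen)
open H86.WR (XF)
open H46.SF H1.SF5
open H68 (rhoE6)

/-- the roots of the two abelian radicals -/
def ra (k s : ℕ) : Prop := s < 72 ∧ certE6.rtc s k = 1

instance (k s : ℕ) : Decidable (ra k s) := by unfold ra; infer_instance

/-- the roots of the Levi subgroup -/
def rl (s : ℕ) : Prop := s < 72 ∧ certE6.rtc s 0 = 0 ∧ certE6.rtc s 5 = 0

instance (s : ℕ) : Decidable (rl s) := by unfold rl; infer_instance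

theorem ra_iff {k : ℕ} (hk : k = 0 ∨ k = 5) (r : H63.Rt chevE6) :
    (Pos r ∧ r ∉ (H64.wdata chevE6).PhiJ {i | (i : ℕ) ≠ k}) ↔ ra k r := by
  rw [H64.mem_PhiJ_iff]
  revert r
  simp only [Pos, rt_E6, Set.mem_ofPred_eq]
  rcases hk with rfl | rfl <;> decide +kernel

theorem rl_iff (r : H63.Rt chevE6) :
    r ∈ (H64.wdata chevE6).PhiJ {i | (i : ℕ) ≠ 0 ∧ (i : ℕ) ≠ 5} ↔ rl r := by
  rw [H64.mem_PhiJ_iff]
  revert r
  simp only [rt_E6, Set.mem_ofPred_eq]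
  decide +kernel

theorem r_facts : ∀ s < 72, certE6.rtc (rhoE6 s) 0 = certE6.rtc s 5 ∧
    certE6.rtc (rhoE6 s) 5 = certE6.rtc s 0 ∧ rhoE6 (chevE6.neg s) = chevE6.neg (rhoE6 s) ∧
    chevE6.neg s < 72 ∧ (qe s ↔ ra 0 s ∨ ra 5 s) ∧ (ra 0 s → ra 5 s ∨ certE6.rtc s 5 = 0) ∧
    (ra 5 s → ra 0 s ∨ certE6.rtc s 0 = 0) := by decide +kernel

theorem r_comm : ∀ r < 72, ra 0 r → ∀ s < 72, ra 0 s → 0 ≤ chevE6.pairing r s := by decide +kernel

theorem r_44 : ra 0 (o1 44) ∧ ra 0 (o2 44) ∧ ra 5 (o1 44) ∧ ra 5 (o2 44) := by decide +kernel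

variable (K : Type) [Field K] [Finite K] [CharP K 2]

/-- the abelian radicals -/
noncomputable abbrev QA (k : ℕ) : Subgroup (chevE6.group K) :=
  UJ chevE6 (xG chevE6 K) {i | (i : ℕ) ≠ k}

/-- the root group datum -/
noncomputable abbrev RE := (H64.SG.ad chevE6 K).toStB.rgd

/-- the Levi subgroup -/
noncomputable abbrev LE : Subgroup (chevE6.group K) := (RE K).LJ {i | (i : ℕ) ≠ 0 ∧ (i : ℕ) ≠ 5}

variable {K}

theorem x_QA {k s : ℕ} (hk : k = 0 ∨ k = 5) (h : ra k s) (a : K) : xG chevE6 K s a ∈ QA K k :=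
  x_mem_gen (r := ⟨s, h.1⟩) ((ra_iff hk _).2 h) a

theorem QA_le {k : ℕ} (hk : k = 0 ∨ k = 5) {A : Subgroup (chevE6.group K)}
    (h : ∀ s, ra k s → ∀ a, xG chevE6 K s a ∈ A) : QA K k ≤ A :=
  H64.SG.gen_le_iff.2 fun r hr a => h r ((ra_iff hk r).1 hr) a

theorem QE_eq : QA K 0 ⊔ QA K 5 = QE K := by
  refine le_antisymm (sup_le (QA_le (Or.inl rfl) fun s hs a => x_QE ?_ a)
    (QA_le (Or.inr rfl) fun s hs a => x_QE ?_ a)) (QE_le fun s hs a => ?_)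
  · exact (r_facts s hs.1).2.2.2.2.1.2 (Or.inl hs)
  · exact (r_facts s hs.1).2.2.2.2.1.2 (Or.inr hs)
  · rcases (r_facts s hs.1).2.2.2.2.1.1 hs with h | h
    exacts [Subgroup.mem_sup_left (x_QA (Or.inl rfl) h a), Subgroup.mem_sup_right (x_QA (Or.inr rfl) h a)]

theorem LE_le {A : Subgroup (chevE6.group K)} (h1 : HH chevE6 (xG chevE6 K) ≤ A)
    (h : ∀ s, rl s → ∀ a, xG chevE6 K s a ∈ A) : LE K ≤ A :=
  sup_le h1 (H64.SG.gen_le_iff.2 fun r hr a => h r ((rl_iff r).1 hr) a)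

theorem x_LE {s : ℕ} (h : rl s) (a : K) : xG chevE6 K s a ∈ LE K :=
  Subgroup.mem_sup_right (x_mem_gen (r := ⟨s, h.1⟩) ((rl_iff _).2 h) a)

theorem PE_eq : QA K 0 ⊔ QA K 5 ⊔ LE K = (RE K).PJ {i | (i : ℕ) ≠ 0 ∧ (i : ℕ) ≠ 5} := by
  rw [QE_eq]; exact (RE K).UJ_sup_LJ _

theorem PE_le {k : ℕ} (hk : k = 0 ∨ k = 5) : QA K 0 ⊔ QA K 5 ⊔ LE K ≤ Ns (QA K k) := by
  rw [PE_eq]
  refine le_trans (sup_le_sup_left (Subgroup.closure_mono (Set.image_mono fun i hi => ?_)) _)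
    ((RE K).PJ_le_normalizer_UJ {i | (i : ℕ) ≠ k})
  rcases hk with rfl | rfl
  exacts [hi.1, hi.2]

theorem QA_sq : ∀ a ∈ QA K 0, a * a = 1 := by
  have h1 : QA K 0 ≤ Cs (QA K 0) := QA_le (Or.inl rfl) fun s hs a => mem_Cs_gen.2 fun r hr b =>
    etE6.comm_of_nonneg (stE K) (r := r) (s := ⟨s, hs.1⟩)
      (r_comm r r.2 ((ra_iff (Or.inl rfl) r).1 hr) s hs.1 hs) b a
  intro a ha
  refine gen_induction_right (p := fun a => a * a = 1) (mul_one 1) ?_ ha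
  intro u hu r hr y hy ih
  have h2 := Subgroup.mem_centralizer_iff.1 (h1 hu) y (le_gen (XR chevE6 (xG chevE6 K)) hr hy)
  obtain ⟨t, rfl⟩ := (stE K).mem_XR.1 hy
  calc _ = u * (xG chevE6 K r t * u) * xG chevE6 K r t := by group
    _ = u * u * (xG chevE6 K r t * xG chevE6 K r t) := by rw [h2]; group
    _ = 1 := by rw [ih, H64.SG.x_sq (stE K), mul_one]

/-- `s` exchanges the ends of the diagram and acts on the field by `f` -/
def Sw (s : chevE6.group K →* chevE6.group K) (f : K →+* K) : Prop :=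
  ∀ r < 72, ∀ t, s (xG chevE6 K r t) = xG chevE6 K (rhoE6 r) (f t)

namespace Sw

variable {s : chevE6.group K →* chevE6.group K} {f : K →+* K} (h : Sw s f)
include h

theorem qa0 : ∀ a ∈ QA K 0, s a ∈ QA K 5 := QA_le (A := (QA K 5).comap s) (Or.inl rfl) fun r hr a => by
  rw [Subgroup.mem_comap, h r hr.1]
  exact x_QA (Or.inr rfl) ⟨(rho_facts r hr.1).1, (r_facts r hr.1).2.1.trans hr.2⟩ _

theorem qa5 : ∀ a ∈ QA K 5, s a ∈ QA K 0 := QA_le (A := (QA K 0).comap s) (Or.inr rfl) fun r hr a => by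
  rw [Subgroup.mem_comap, h r hr.1]
  exact x_QA (Or.inl rfl) ⟨(rho_facts r hr.1).1, (r_facts r hr.1).1.trans hr.2⟩ _

theorem qe : ∀ a ∈ QA K 0 ⊔ QA K 5, s a ∈ QA K 0 ⊔ QA K 5 :=
  sup_le (c := (QA K 0 ⊔ QA K 5).comap s) (fun a ha => Subgroup.mem_sup_right (h.qa0 a ha))
    fun a ha => Subgroup.mem_sup_left (h.qa5 a ha)

theorem nn {r : ℕ} (hr : r < 72) (t : K) :
    s (nn chevE6 (xG chevE6 K) r t) = nn chevE6 (xG chevE6 K) (rhoE6 r) (f t) := by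
  obtain ⟨-, -, h1, h2, -⟩ := r_facts r hr
  rw [nn_eq, nn_eq, map_mul, map_mul, h r hr, h _ h2, h1, map_neg, map_inv₀]

theorem le : ∀ a ∈ LE K, s a ∈ LE K := by
  refine LE_le (A := (LE K).comap s) ((Subgroup.closure_le _).2 ?_) fun r hr a => ?_
  · rintro _ ⟨r, t, ht, rfl⟩
    rw [SetLike.mem_coe, Subgroup.mem_comap, hh_eq, map_mul, h.nn r.2, h.nn r.2, map_neg, map_one,
      ← hh_eq]
    exact Subgroup.mem_sup_left (hh_mem_HH chevE6 _ ⟨_, (rho_facts r r.2).1⟩ ((map_ne_zero f).2 ht))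
  · rw [Subgroup.mem_comap, h r hr.1]
    exact x_LE ⟨(rho_facts r hr.1).1, (r_facts r hr.1).1.trans hr.2.2,
      (r_facts r hr.1).2.1.trans hr.2.1⟩ _

end Sw

theorem sw_g : Sw (gE K).toMonoidHom (RingHom.id K) := fun _ hr t => gE_x hr t

theorem lvE : Lv (gE K) (QA K 0) (QA K 5) (LE K) where
  gg := gE_gE
  sqA := QA_sq
  sqB a ha := by rw [← gE_gE a, ← map_mul, QA_sq (gE K a) (sw_g.qa5 a ha), map_one]
  nA := PE_le (Or.inl rfl)
  nB := PE_le (Or.inr rfl)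
  nQ := by rw [QE_eq]; exact (RE K).LJ_le_normalizer_UJ _
  inf := by rw [QE_eq]; exact (RE K).UJ_inf_LJ _
  gA := sw_g.qa0
  gB := sw_g.qa5
  gL := sw_g.le

theorem y_mem (a b : K) : yE K 44 a b ∈ QA K 0 ⊓ QA K 5 := by
  obtain ⟨h1, h2, h3, h4⟩ := r_44
  rw [yE_short sh44]
  exact Subgroup.mem_inf.2 ⟨mul_mem (x_QA (Or.inl rfl) h1 a) (x_QA (Or.inl rfl) h2 b),
    mul_mem (x_QA (Or.inr rfl) h3 a) (x_QA (Or.inr rfl) h4 b)⟩

theorem mem_PE (S : Sup K) {y : chevE6.group K} {a b : K} (hab : a * b ≠ 0)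
    (e : y * gE K y = yE K 44 a b) : y ∈ QA K 0 ⊔ QA K 5 ⊔ LE K := by
  have h1 : y * yE K 44 b a * y⁻¹ = yE K 44 a b := by
    rw [← gE_short (by decide) sh44, ← e, map_mul, gE_gE]; group
  rw [PE_eq, ← RGD.normalizer_UJ_inf, (H64.SG.ad chevE6 K).Gp_eq, inf_top_eq]
  exact (S.par y b a a b (mul_comm a b ▸ hab) h1).2

/-- the diagonal automorphism with `u`, `v` at the ends of the diagram -/
noncomputable def dE (u v : Kˣ) : MulAut (chevE6.group K) :=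
  diagAut chevE6 fun i => if (i : ℕ) = 0 then u else if (i : ℕ) = 5 then v else 1

theorem dE_x (u v : Kˣ) {r : ℕ} (hr : r < 72) (t : K) : dE u v (xG chevE6 K r t) =
    xG chevE6 K r ((u : K) ^ certE6.rtc r 0 * (v : K) ^ certE6.rtc r 5 * t) := by
  rw [dE, diagAut_xG, chr_val _ ⟨r, hr⟩,
    Fintype.prod_eq_mul (⟨0, by decide⟩ : Fin chevE6.rank) ⟨5, by decide⟩ (by decide)]
  · simp [rt_E6]
  · intro i hi
    rw [if_neg fun e => hi.1 (Fin.ext e), if_neg fun e => hi.2 (Fin.ext e), one_zpow]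

theorem Sw.dE {s : chevE6.group K →* chevE6.group K} {f : K →+* K} (h : Sw s f) {u v u' v' : Kˣ}
    (h1 : f u = v') (h2 : f v = u') (y : chevE6.group K) : s (dE u v y) = dE u' v' (s y) :=
  DFunLike.congr_fun (hom_ext_xG (φ := s.comp (SF.dE u v).toMonoidHom)
    (ψ := (SF.dE u' v').toMonoidHom.comp s) fun r hr t => by
      change s (SF.dE u v _) = SF.dE u' v' (s _)
      rw [dE_x u v hr, h r hr, h r hr, dE_x u' v' (rho_facts r hr).1, (r_facts r hr).1,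
        (r_facts r hr).2.1, map_mul, map_mul, map_zpow₀, map_zpow₀, h1, h2, mul_comm ((v' : K) ^ _)]) y

theorem dE_LE (u v : Kˣ) : ∀ l ∈ LE K, dE u v l = l := by
  refine LE_le (A := (dE u v).toMonoidHom.eqLocus (MonoidHom.id _)) (fun g hg => ?_) fun r hr a => ?_
  · have key : ∀ r : H63.Rt chevE6, ∀ t, g⁻¹ * dE u v g * xG chevE6 K r t =
        xG chevE6 K r t * (g⁻¹ * dE u v g) := fun r t => by
      obtain ⟨c, -, hc⟩ := (H64.SG.ad chevE6 K).toStB.toStN.HH_conj hg r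
      have h0 : (u : K) ^ certE6.rtc r 0 * (v : K) ^ certE6.rtc r 5 ≠ 0 :=
        mul_ne_zero (zpow_ne_zero _ u.ne_zero) (zpow_ne_zero _ v.ne_zero)
      have h1 := congrArg (dE u v) (hc (((u : K) ^ certE6.rtc r 0 * (v : K) ^ certE6.rtc r 5)⁻¹ * t)).1
      rw [map_mul, map_mul, map_inv, dE_x u v r.2, dE_x u v r.2, mul_inv_cancel_left₀ h0,
        mul_left_comm, mul_inv_cancel_left₀ h0, ← (hc t).1] at h1
      calc _ = g⁻¹ * (dE u v g * xG chevE6 K r t * (dE u v g)⁻¹) * dE u v g := by group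
        _ = _ := by rw [h1]; group
    exact (inv_mul_eq_one.1 ((H64.SG.ad chevE6 K).eq_one_of_comm fun i =>
      ⟨key (simpleR i) 1, key (negR (simpleR i)) 1⟩)).symm
  · change dE u v _ = _
    rw [dE_x u v hr.1, hr.2.1, hr.2.2, zpow_zero, zpow_zero, one_mul, one_mul]; rfl

theorem dE_QA (u v : Kˣ) {k : ℕ} (hk : k = 0 ∨ k = 5) : ∀ a ∈ QA K k, dE u v a ∈ QA K k :=
  QA_le (A := (QA K k).comap (dE u v).toMonoidHom) hk fun r hr a => by
    change dE u v _ ∈ QA K k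
    rw [dE_x u v hr.1]; exact x_QA hk hr _

theorem dE_scal {u v : Kˣ} (huv : (u : K) + 1 + v = 0) {k k' : ℕ} (hk : k = 0 ∧ k' = 5 ∨ k = 5 ∧ k' = 0) :
    ∀ a ∈ QA K k, dE u v a ∈ QA K k ∧ dE v u a ∈ QA K k ∧ dE u v a * a * dE v u a ∈ QA K k' := by
  have h1 : k = 0 ∨ k = 5 := by omega
  have h2 : k' = 0 ∨ k' = 5 := by omega
  have h3 : ∀ a ∈ QA K k, a * a = 1 := by
    rcases h1 with rfl | rfl
    exacts [lvE.sqA, lvE.sqB]
  refine fun a ha => ⟨dE_QA u v h1 a ha, dE_QA v u h1 a ha, ?_⟩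
  refine gen_induction_right (p := fun a => dE u v a * a * dE v u a ∈ QA K k') (by simp) ?_ ha
  intro w hw r hr y hy ih
  have hy' : y ∈ QA K k := le_gen (XR chevE6 (xG chevE6 K)) hr hy
  have c1 := comm_of_sq h3 (dE_QA u v h1 y hy') (mul_mem hw (dE_QA v u h1 w hw))
  have c2 := comm_of_sq h3 hy' (dE_QA v u h1 w hw)
  have e : dE u v (w * y) * (w * y) * dE v u (w * y) =
      dE u v w * w * dE v u w * (dE u v y * y * dE v u y) := by
    rw [map_mul, map_mul]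
    calc _ = dE u v w * (dE u v y * (w * (y * dE v u w))) * dE v u y := by group
      _ = dE u v w * (dE u v y * (w * dE v u w)) * (y * dE v u y) := by rw [c2]; group
      _ = _ := by rw [c1]; group
  rw [e]
  refine mul_mem ih ?_
  obtain ⟨t, rfl⟩ := (stE K).mem_XR.1 hy
  have hr' := (ra_iff h1 r).1 hr
  rw [dE_x u v r.2, dE_x v u r.2, ← xE_add, ← xE_add]
  obtain ⟨-, -, -, -, -, k1, k2⟩ := r_facts r r.2
  rcases hk with ⟨rfl, rfl⟩ | ⟨rfl, rfl⟩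
  · rcases k1 hr' with k3 | k3
    · exact x_QA h2 k3 _
    · rw [hr'.2, k3, show (u : K) ^ (1 : ℤ) * (v : K) ^ (0 : ℤ) * t + t + (v : K) ^ (1 : ℤ) * (u : K) ^ (0 : ℤ) * t =
        ((u : K) + 1 + v) * t by simp; ring, huv, zero_mul, xE_zero]
      exact one_mem _
  · rcases k2 hr' with k3 | k3
    · exact x_QA h2 k3 _
    · rw [hr'.2, k3, show (u : K) ^ (0 : ℤ) * (v : K) ^ (1 : ℤ) * t + t + (v : K) ^ (0 : ℤ) * (u : K) ^ (1 : ℤ) * t =
        ((u : K) + 1 + v) * t by simp; ring, huv, zero_mul, xE_zero]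
      exact one_mem _

theorem coreT (S : Sup K) {f : K →+* K} {η : K} (hη : f η = η + 1) (hf : f (η + 1) = η)
    {y : chevE6.group K} {a b : K} (hab : a * b ≠ 0) (e : y * gE K y = yE K 44 a b)
    (ht : gE K (mapG chevE6 f y) = y) :
    Gl (((gE K).toMonoidHom.comp (mapG chevE6 f)).eqLocus (MonoidHom.id _)) (gE K) y (yE K 44 a b) := by
  have h0 : η ≠ 0 := by rintro rfl; simp at hη
  have h1 : η + 1 ≠ 0 := fun k => h0 (by rw [← hf, k, map_zero])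
  have h2 : Sw ((gE K).toMonoidHom.comp (mapG chevE6 f)) f := fun r hr t => by
    change gE K (mapG chevE6 f _) = _
    rw [mapG_xG, gE_x hr]
  have h3 : ((Units.mk0 η h0 : Kˣ) : K) + 1 + (Units.mk0 (η + 1) h1 : Kˣ) = 0 :=
    CharTwo.add_self_eq_zero _
  refine lvE.caseT (D := dE (Units.mk0 η h0) (Units.mk0 _ h1)) (D' := dE (Units.mk0 _ h1) (Units.mk0 η h0))
    h2.qe h2.le (h2.dE hη hf) (sw_g.dE rfl rfl) (dE_LE _ _) (dE_scal h3 (Or.inl ⟨rfl, rfl⟩))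
    (dE_scal h3 (Or.inr ⟨rfl, rfl⟩)) (mem_PE S hab e) ht (y_mem a b) e fun u hu => ?_
  change gE K (mapG chevE6 f (gE K u)) = gE K u
  rw [← gE_mapG]
  exact congrArg (gE K) hu

theorem jobM9 (hS : JobSup) (hE : JobXE) (hT : JobXT) : JobM9 := by
  refine ⟨fun F _ _ _ b i T hD y z β hz e => ?_, fun F K _ _ _ _ _ _ X b i T hD y z β hz e => ?_⟩
  · obtain ⟨⟨rfl, -⟩, hT, -⟩ := hD
    obtain ⟨g, β', φ, ε, h1, rfl⟩ := hE F β
    obtain ⟨a, b, hab, h2⟩ := sd_y h1 hT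
    have h3 : g⁻¹ * z * g = yE F 44 a b := by
      rw [hz, iE_x (by decide), MulAut.mul_apply, h2, MulAut.conj_apply]; group
    have h4 : g⁻¹ * y * gE F g * gE F (g⁻¹ * y * gE F g) = yE F 44 a b := by
      rw [map_mul, map_mul, map_inv, gE_gE, ← h3, ← e]; group
    have h5 := lvE.caseE (mem_PE (hS F) hab h4) (y_mem a b) h4
    rw [← h3] at h5
    obtain ⟨j, -, h6⟩ := h5.tw (Subgroup.mem_top g)
    exact ⟨j, h6⟩
  · obtain ⟨⟨rfl, -⟩, hT', -⟩ := hD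
    obtain ⟨g, β', φ, h1, h0⟩ := hT F K X β
    obtain ⟨a, b, hab, h2⟩ := sd_y h1 ((map_ne_zero X.φ).2 hT')
    obtain ⟨η, hη⟩ := exists_eta X
    have h3 : (jT X g)⁻¹ * jT X z * jT X g = yE K 44 a b := by
      rw [hz, h0, jT_x X (by decide), iE_x (by decide), h2]; group
    have e' : jT X y * gE K (jT X y) = jT X z := by rw [← e, map_mul, inc_tT]
    have h4 : (jT X g)⁻¹ * jT X y * gE K (jT X g) * gE K ((jT X g)⁻¹ * jT X y * gE K (jT X g)) =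
        yE K 44 a b := by
      rw [map_mul, map_mul, map_inv, gE_gE, ← h3, ← e']; group
    have h5 := coreT (hS K) (f := (X.σ : K →+* K)) hη (by rw [← hη]; exact ss X η) hab h4
      ((mem_range_inc X.hq X.hK X.hf).1 ⟨g⁻¹ * y * X.τT g, by rw [map_mul, map_mul, map_inv, inc_tT]⟩)
    rw [← h3] at h5
    obtain ⟨j, hj, k1, k2, k3⟩ := h5.tw ((mem_range_inc X.hq X.hK X.hf).1 ⟨g, rfl⟩)
    obtain ⟨j, rfl⟩ := (mem_range_inc X.hq X.hK X.hf).2 hj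
    refine ⟨j, jT_inj X ?_, jT_inj X ?_, jT_inj X ?_⟩
    · rw [map_mul, k1, map_one]
    · rw [map_mul, map_mul, k2]
    · rw [map_mul, map_mul, map_mul, map_inv, inc_tT, k3]

end H39.SF
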