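/- Tower FS: slot Par (parity of invariant sections). -/
import Cfsg.Agent.H82.FSSpec3
import Cfsg.Agent.H2.CoreFree

set_option autoImplicit false
set_option linter.unusedSectionVars false
set_option linter.unusedVariables false

open Cfsg Subgroup H82.FS Polynomial
open scoped commutatorElement

universe u

namespace H39.FSP

section Mod
variable {V : Type*} [AddCommGroup V] [Module (ZMod 2) V] {T : Module.End (ZMod 2) V}

theorem aeval_mem {M : Submodule (ZMod 2) V} (hM : ∀ v ∈ M, T v ∈ M) (f : (ZMod 2)[X]) {v : V} (hv : v ∈ M) :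
    aeval T f v ∈ M := by
  induction f using Polynomial.induction_on' with
  | add f g a b => rw [map_add]; exact add_mem a b
  | monomial n a =>
    rw [aeval_monomial, Module.End.mul_apply, Module.algebraMap_end_apply]
    refine M.smul_mem _ ?_
    induction n with
    | zero => exact hv
    | succ n ih => rw [pow_succ', Module.End.mul_apply]; exact hM _ ih

/-- `u` lies in the submodule generated by `w` -/
def Le (T : Module.End (ZMod 2) V) (u w : V) : Prop :=
  ∀ M : Submodule (ZMod 2) V, (∀ v ∈ M, T v ∈ M) → w ∈ M → u ∈ M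

theorem inj_of (irr : ∀ u w, w ≠ 0 → Le T w u → Le T u w) {f : (ZMod 2)[X]} (hf : aeval T f ≠ 0) :
    Function.Injective (aeval T f) := (injective_iff_map_eq_zero _).2 fun w hw => by_contra fun w0 => by
  obtain ⟨u, hu⟩ : ∃ u, aeval T f u ≠ 0 := by_contra fun k => hf (LinearMap.ext fun u => by simpa using not_exists.1 k u)
  have a := irr (u + w) (aeval T f u) hu fun M hM h => by simpa [hw] using aeval_mem hM f h
  refine hu (irr u w w0 (fun M hM h => ?_) (LinearMap.ker (aeval T f)) (fun v hv => ?_) hw)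
  · simpa using sub_mem (a M hM (aeval_mem hM f h)) h
  · have e : aeval T f * T = T * aeval T f := by
      simpa using congrArg (aeval T) (mul_comm f X)
    rw [LinearMap.mem_ker, ← Module.End.mul_apply, e, Module.End.mul_apply, LinearMap.mem_ker.1 hv, map_zero]

theorem adj {C : Type*} [Group C] {β : V → V → C} (b1 : ∀ u u' v, β (u + u') v = β u' v * β u v)
    (b2 : ∀ u v v', β u (v + v') = β u v * β u v') {S : Module.End (ZMod 2) V}
    (b3 : ∀ u v, β (T u) v = β u (S v)) (f : (ZMod 2)[X]) (u v : V) :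
    β (aeval T f u) v = β u (aeval S f v) := by
  induction f using Polynomial.induction_on' with
  | add f g a b => rw [map_add, map_add, LinearMap.add_apply, LinearMap.add_apply, b1, a, b, ← b2, add_comm]
  | monomial n a =>
    rw [aeval_monomial, aeval_monomial]
    obtain rfl | rfl : a = 0 ∨ a = 1 := by revert a; decide
    · have e1 := b1 0 0 v
      have e2 := b2 u 0 0
      rw [add_zero] at e1 e2
      simp [left_eq_mul.1 e1, left_eq_mul.1 e2]
    · rw [map_one, one_mul, one_mul]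
      induction n generalizing u with
      | zero => rfl
      | succ n ih => rw [pow_succ, Module.End.mul_apply, ih, b3, pow_succ', Module.End.mul_apply]

theorem core [Finite V] {p : ℕ} (hp : p.Prime) (hT : T ^ p = 1) (h1 : T ≠ 1)
    (irr : ∀ u w, w ≠ 0 → Le T w u → Le T u w) {C : Type*} [Group C] {β : V → V → C}
    (b1 : ∀ u u' v, β (u + u') v = β u' v * β u v) (b2 : ∀ u v v', β u (v + v') = β u v * β u v')
    (b3 : ∀ u v, β (T u) (T v) = β u v) (b0 : ∃ u v, β u v ≠ 1) : ∃ i, p ∣ 2 ^ i + 1 := by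
  have := Fact.mk hp
  have : Nontrivial (Module.End (ZMod 2) V) := ⟨_, _, h1⟩
  have e : ∀ g, minpoly (ZMod 2) T ∣ g ↔ aeval T g = 0 := fun g => minpoly.dvd_iff
  have hf : Prime (minpoly (ZMod 2) T) := ⟨minpoly.ne_zero_of_finite _ _, minpoly.not_isUnit _ _, fun g h k => by
    simp only [e, map_mul] at k ⊢
    by_contra! c
    exact c.2 (LinearMap.ext fun v => inj_of irr c.1 (by
      rw [← Module.End.mul_apply, k, LinearMap.zero_apply, map_zero]))⟩
  set f := minpoly (ZMod 2) T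
  have := Fact.mk hf.irreducible
  have := (AdjoinRoot.powerBasis hf.ne_zero).finite
  have : Finite (AdjoinRoot f) := Module.finite_of_finite (ZMod 2)
  have p1 : p - 1 + 1 = p := Nat.sub_add_cancel hp.pos
  have hc : f ∣ f.comp (X ^ (p - 1)) := (e _).2 (by_contra fun k => by
    obtain ⟨u, v, h⟩ := b0
    obtain ⟨w, rfl⟩ := Finite.surjective_of_injective (inj_of irr k) v
    rw [aeval_comp, map_pow, aeval_X, ← adj b1 b2 (T := T) (fun u v => by
      rw [← b3 u, ← Module.End.mul_apply T (T ^ (p - 1)), ← pow_succ', p1, hT, Module.End.one_apply]),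
      minpoly.aeval] at h
    have e1 := b1 0 0 w
    rw [add_zero] at e1
    exact h (left_eq_mul.1 e1))
  obtain ⟨i, hi⟩ := (FiniteField.bijective_frobeniusAlgHom_pow (ZMod 2) (AdjoinRoot f)).2
    (AdjoinRoot.liftAlgHom f (Algebra.ofId _ _) (AdjoinRoot.root f ^ (p - 1)) (by
      have := AdjoinRoot.mk_eq_zero.2 hc
      rwa [← AdjoinRoot.aeval_eq, aeval_comp, map_pow, aeval_X] at this))
  have k := (DFunLike.congr_fun hi (AdjoinRoot.root f)).trans (AdjoinRoot.liftAlgHom_root ..)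
  rw [AlgHom.coe_pow, FiniteField.coe_frobeniusAlgHom, pow_iterate, ZMod.card] at k
  have k2 : f ∣ X ^ 2 ^ i.1 - X ^ (p - 1) := AdjoinRoot.mk_eq_zero.1 (by
    rw [map_sub, map_pow, map_pow, AdjoinRoot.mk_X]; exact sub_eq_zero.2 k)
  rw [e, map_sub, map_pow, map_pow, aeval_X, sub_eq_zero] at k2
  exact ⟨i, orderOf_eq_prime hT h1 ▸ orderOf_dvd_of_pow_eq_one (by rw [pow_succ, k2, ← pow_succ, p1, hT])⟩

end Mod

variable {G : Type u} [Group G] [Finite G] {p : ℕ} {A N X : Subgroup G}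

theorem mem_K (h : Geo p 2 A N) (hX : Sp 2 A X) {u : G} (hu : u ∈ X) : u ∈ kl A u ⊔ ⁅X, X⁆ := by
  obtain ⟨k, hk, e⟩ := h.lin.exists_kl u
  have a : k⁻¹ * u ∈ X := mul_mem (inv_mem (h.lin.kl_le' hX.2.1 hu hk)) hu
  have b : k⁻¹ * u ∈ ⁅X, X⁆ := (h.cls X hX).1.ge ⟨a, h.lin.norm_cen (h.lin.cop hX.1) hX.2.1 a
    (cj_eq_iff.1 (by rw [cj_mul, e, cj_inv_cj]))⟩
  simpa using mul_mem (mem_sup_left hk) (mem_sup_right b)

theorem irrK (h : Geo p 2 A N) (hX : Sp 2 A X) {u w : G} (hu : u ∈ X) (hw : w ∈ kl A u ⊔ ⁅X, X⁆)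
    (h0 : w ∉ ⁅X, X⁆) : u ∈ kl A w ⊔ ⁅X, X⁆ := by
  have kX := h.lin.kl_le' hX.2.1 hu
  have c := h.cls X hX
  have wX : w ∈ X := sup_le kX (c.1.le.trans inf_le_left) hw
  obtain ⟨k, hk, z, hz, rfl⟩ := mem_sup_norm (c.2.1.trans
    ((centralizer_le kX).trans (centralizer_le_normalizer _))) hw
  have := h.lr u (k * z) (fun e => h0 (c.1.ge ⟨wX, h.lin.norm_cen (h.lin.cop hX.1) hX.2.1 wX (cj_eq_iff.1 e)⟩))
    (by rw [cj_mul, cj_eq_of_cen (h.Z_cen hX hz)]; exact cj_le_of le_sup_left (kl_le_ln A u hk))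
  rw [h.lin.ln_eq] at this
  exact sup_le_sup_right (h.lin.kl_le (A_le_norm_kl A _) this) _ (mem_K h hX hu)

theorem exists_i (h : Geo p 2 A N) (hX : Sp 2 A X) (h0 : ⁅X, X⁆ ≠ ⊥) : ∃ i, p ∣ 2 ^ i + 1 := by
  have c := h.cls X hX
  have zX : ⁅X, X⁆ ≤ X := c.1.le.trans inf_le_left
  let π : X → Additive (Abelianization X) := fun y => Additive.ofMul (Abelianization.of y)
  have πm : ∀ a b, π (a * b) = π a + π b := fun a b => congrArg Additive.ofMul (map_mul _ a b)
  have π0 : ∀ a, π a = 0 ↔ (a : G) ∈ ⁅X, X⁆ := fun a => by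
    rw [← map_subtype_commutator]
    exact (QuotientGroup.eq_one_iff a).trans (mem_map_iff_mem X.subtype_injective).symm
  have πe : ∀ a b, π a = π b → (a : G)⁻¹ * b ∈ ⁅X, X⁆ := fun a b e => (π0 (a⁻¹ * b)).1 (by
    have := πm a (a⁻¹ * b)
    rw [mul_inv_cancel_left, e] at this
    exact left_eq_add.1 this)
  have πs : Function.Surjective π := fun v => QuotientGroup.mk_surjective v.toMul
  let _ : Module (ZMod 2) (Additive (Abelianization X)) := AddCommGroup.zmodModule fun v => by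
    obtain ⟨a, rfl⟩ := πs v
    rw [two_nsmul, ← πm, π0, Subgroup.coe_mul, ← pow_two]
    exact c.2.2 _ a.2
  obtain ⟨x, hx, y, hy, hxy⟩ : ∃ x ∈ A, ∃ y ∈ X, ⁅y, x⁆ ∉ ⁅X, X⁆ := by
    by_contra! k
    exact h0 (commutator_eq_bot_iff_le_centralizer.2
      ((hX.2.2.ge.trans (commutator_le.2 fun y hy x hx => k x hx y hy)).trans c.2.1))
  have xA : A ≤ zpowers x := (h.lin.le_or _).resolve_left fun e => hxy (by
    rw [mem_bot.1 (e.le ⟨hx, mem_zpowers x⟩), commutatorElement_one_right]; exact one_mem _)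
  let φ : X →* X := (X.normalizerMonoidHom ⟨x, hX.2.1 hx⟩).toMonoidHom
  have φe : ∀ a : X, (φ a : G) = x * a * x⁻¹ := fun _ => rfl
  let T : Module.End (ZMod 2) (Additive (Abelianization X)) :=
    (MonoidHom.toAdditive (Abelianization.map φ)).toZModLinearMap 2
  have Tπ : ∀ a, T (π a) = π (φ a) := fun a => rfl
  choose s hs using fun v => πs v
  have cz : ∀ z ∈ ⁅X, X⁆, ∀ a ∈ X, a * z = z * a := fun z hz a ha => c.2.1 hz a ha
  have βπ : ∀ a b, ⁅(s (π a) : G), (s (π b) : G)⁆ = ⁅(a : G), (b : G)⁆ := fun a b => by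
    have e1 := cz _ (πe _ _ (hs (π a)).symm)
    have e2 := cz _ (πe _ _ (hs (π b)).symm)
    rw [← mul_inv_cancel_left (a : G) (s (π a)), ← mul_inv_cancel_left (b : G) (s (π b))]
    generalize (a : G)⁻¹ * s (π a) = z at e1 e2 ⊢
    have hz' : (b : G)⁻¹ * s (π b) ∈ X := mul_mem (inv_mem b.2) (s _).2
    generalize (b : G)⁻¹ * s (π b) = z' at e2 hz' ⊢
    rw [commutatorElement_def, commutatorElement_def, mul_assoc (a : G) z, ← e1 _ (mul_mem b.2 hz'),
      show (a : G) * (b * z' * z) * (a * z)⁻¹ * (b * z')⁻¹ = a * b * (z' * (a : G)⁻¹) * z'⁻¹ * (b : G)⁻¹ by group,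
      ← e2 _ (inv_mem a.2)]
    group
  refine core (T := T) h.lin.hp (LinearMap.ext fun v => ?_) (fun e => hxy ?_) (fun u w w0 k M hM hw => ?_)
    (β := fun u v => ⁅(s u : G), (s v : G)⁆) (fun u u' v => ?_) (fun u v v' => ?_) (fun u v => ?_) ?_
  · have k : ∀ (n : ℕ) (a : X), ∃ b : X, (T ^ n) (π a) = π b ∧ (b : G) = x ^ n * a * (x ^ n)⁻¹ := fun n a => by
      induction n with
      | zero => exact ⟨a, rfl, by simp⟩
      | succ n ih =>
        obtain ⟨b, e1, e2⟩ := ih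
        exact ⟨φ b, by rw [pow_succ', Module.End.mul_apply, e1, Tπ], by rw [φe, e2, pow_succ']; group⟩
    obtain ⟨b, e1, e2⟩ := k p (s v)
    have e3 : x ^ p = 1 := by simpa [h.lin.card] using congrArg Subtype.val (pow_card_eq_one' (x := (⟨x, hx⟩ : A)))
    rw [e3, one_mul, inv_one, mul_one] at e2
    rw [hs, Subtype.ext e2, hs] at e1
    exact e1
  · have := πe _ _ ((Tπ ⟨y⁻¹, inv_mem hy⟩).symm.trans (by rw [e]; rfl)).symm
    simpa [φe, commutatorElement_def, mul_assoc] using this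
  · let Y : Subgroup G := (M.toAddSubgroup.toSubgroup'.comap Abelianization.of).map X.subtype
    have mY : ∀ a : X, (a : G) ∈ Y ↔ π a ∈ M := fun a => mem_map_iff_mem X.subtype_injective
    have aY : A ≤ normalizer (Y : Set G) := xA.trans (zpowers_le.2 (norm_of_cj_le (by
      rintro _ ⟨_, ⟨a, ha, rfl⟩, rfl⟩
      exact (mY (φ a)).2 (hM _ ha))))
    have zY : ⁅X, X⁆ ≤ Y := fun z hz => (mY ⟨z, zX hz⟩).2 ((π0 ⟨z, zX hz⟩).2 hz ▸ M.zero_mem)
    have kX : kl A (s u) ⊔ ⁅X, X⁆ ≤ X := sup_le (h.lin.kl_le' hX.2.1 (s u).2) zX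
    have nK : A ≤ normalizer ((kl A (s u) ⊔ ⁅X, X⁆ : Subgroup G) : Set G) :=
      le_norm_sup (A_le_norm_kl A _) (le_norm_comm hX.2.1 hX.2.1)
    let M' : Submodule (ZMod 2) (Additive (Abelianization X)) := AddSubgroup.toZModSubmodule 2
      (Subgroup.toAddSubgroup (((kl A (s u) ⊔ ⁅X, X⁆).subgroupOf X).map Abelianization.of))
    obtain ⟨a, ha, e⟩ := k M' (by
      rintro _ ⟨a, ha, rfl⟩
      exact ⟨φ a, (mem_normalizer_iff.1 (nK hx) _).1 ha, rfl⟩) ⟨s u, mem_K h hX (s u).2, hs u⟩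
    have e' : π a = w := e
    rw [← hs u, ← mY]
    exact sup_le (h.lin.kl_le' aY ((mY a).2 (e' ▸ hw))) zY
      (irrK h hX (s u).2 ha fun k => w0 (e' ▸ (π0 a).2 k))
  · rw [← hs u, ← hs u', ← hs v, ← πm, βπ, βπ, βπ, Subgroup.coe_mul,
      show ⁅(s u : G) * s u', (s v : G)⁆ = s u * ⁅(s u' : G), (s v : G)⁆ * (s u : G)⁻¹ * ⁅(s u : G), (s v : G)⁆ by
        simp only [commutatorElement_def]; group,
      cz _ (commutator_mem_commutator (s u').2 (s v).2) _ (s u).2, mul_inv_cancel_right]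
  · rw [← hs u, ← hs v', ← hs v, ← πm, βπ, βπ, βπ, Subgroup.coe_mul,
      show ⁅(s u : G), (s v : G) * s v'⁆ = ⁅(s u : G), (s v : G)⁆ * (s v * ⁅(s u : G), (s v' : G)⁆ * (s v : G)⁻¹) by
        simp only [commutatorElement_def]; group,
      cz _ (commutator_mem_commutator (s u).2 (s v').2) _ (s v).2, mul_inv_cancel_right]
  · rw [← hs u, ← hs v, Tπ, Tπ, βπ, βπ, φe, φe, ← conjugate_commutatorElement,
      h.Z_cen hX (commutator_mem_commutator (s u).2 (s v).2) x hx, mul_inv_cancel_right]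
  · by_contra! k
    exact h0 (eq_bot_iff.2 (commutator_le.2 fun a ha b hb => mem_bot.2
      ((βπ ⟨a, ha⟩ ⟨b, hb⟩).symm.trans (k _ _))))

theorem jobPar : JobPar.{u} := fun G _ _ p A N X h hX h0 W zW wX aW => by
  have := Fact.mk h.lin.hp
  obtain ⟨i, hi⟩ := exists_i h hX h0
  obtain ⟨m, hm⟩ := card_dvd_of_le zW
  obtain ⟨b, hb⟩ := (hX.1.to_le wX).exists_card_eq
  obtain ⟨a, -, rfl⟩ := (Nat.dvd_prime_pow Nat.prime_two).1 (hb ▸ Dvd.intro_left _ hm.symm : m ∣ 2 ^ b)
  have e := H2.card_modEq_card_inf_centralizer h.lin.pgp aW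
  rw [show W ⊓ centralizer (A : Set G) = ⁅X, X⁆ from le_antisymm
    ((inf_le_inf_right _ wX).trans (h.cls X hX).1.ge) (le_inf zW (h.Z_cen hX)), hm] at e
  have e1 : 2 ^ a ≡ 1 [MOD p] := Nat.ModEq.cancel_left_of_coprime
    (h.lin.card ▸ h.lin.cop (hX.1.to_le (zW.trans wX))) (by rwa [mul_one])
  obtain ⟨k, rfl | rfl⟩ := a.even_or_odd'
  · exact ⟨k, by rw [hm, pow_mul]; rfl⟩
  · have c1 : (2 : ZMod p) ^ (2 * k + 1) = 1 := by exact_mod_cast (ZMod.natCast_eq_natCast_iff _ _ _).2 e1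
    have c2 : (2 : ZMod p) ^ i = -1 := eq_neg_of_add_eq_zero_left (by
      exact_mod_cast (ZMod.natCast_eq_zero_iff _ _).2 hi)
    have c3 : ((2 : ZMod p) ^ i) ^ (2 * k + 1) = 1 := by rw [← pow_mul, mul_comm, pow_mul, c1, one_pow]
    rw [c2, Odd.neg_one_pow ⟨k, rfl⟩] at c3
    have c4 : ((2 : ℕ) : ZMod p) = 0 := by push_cast; linear_combination -c3
    exact (h.lin.p2 ((Nat.prime_dvd_prime_iff_eq h.lin.hp Nat.prime_two).1
      ((ZMod.natCast_eq_zero_iff _ _).1 c4))).elim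

end H39.FSP
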