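import Cfsg.Agent.H46.BMDefs

/-! Interface of `blueprints/PS3B.md`, chapter SE (row S3338): `2²⁰ : U₆(2)` is not strongly
`3`-embedded. -/

set_option autoImplicit false

open Cfsg H46.BM

namespace H39.SE

/-- `γ` normalizes `U₆(2)` -/
def Nor (γ : GM) : Prop := ∀ u ∈ U, γ * u * γ⁻¹ ∈ U

/-- the field automorphism -/
noncomputable def ph : GM := iv
  1291125554700094681734496212923022335067945557357794709414489907921444816484740810265048609493162419797105618501035360257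

/-- the diagonal automorphism, of order three -/
noncomputable def dl : GM := H49.UG.toUnits CM (H49.UG.mk' CM
  1291125554699947897823072814971481806266426186371362668609584556698480014220101427829824862881616377751998330074315096065
  1291125554700241465505935564488418272022494559463587234880217437905902724112041665738861292302934413977150350380765282305)

/-- a product of two commuting transvections -/
noncomputable def tB : GM := t0 * (a1 * t0 * a1)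

/-- Facts on the normalizer of `U`. -/
structure FactsN : Prop where
  iso : ∀ γ, Nor γ → ∀ v, qf (γ • v) = qf v
  out : ∀ γ, Nor γ → γ * γ = 1 → γ ∉ U →
    ∃ g, Nor g ∧ Nor g⁻¹ ∧ (g * γ * g⁻¹ = ph ∨ g * γ * g⁻¹ = t0 * ph)

/-- Facts on elements of order three. -/
structure Facts3 : Prop where
  iso : ∀ γ, Nor γ → ∀ v, qf (γ • v) = qf v
  fix3 : ∀ v : M, ∃ d ∈ U, orderOf d = 3 ∧ d • v = v
  bad : ∀ γ, Nor γ → γ * γ = 1 → γ ≠ 1 → ∀ a : M, γ • a = a →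
    (∃ d ∈ U, orderOf d = 3 ∧ d * γ = γ * d ∧ ∃ m, d • a = a + (m + γ • m)) ∨
      ∃ g ∈ U, ∃ m, g * γ * g⁻¹ = tB ∧ g • a = e 7 + (m + tB • m)
  span : ∀ (c : ZMod 2) (S : AddSubgroup M), (∀ v, qf v = c → v ∈ S) → S = ⊤
  spanB : ∀ (c : ZMod 2) (S : AddSubgroup M), (∀ v, tB • v = v → qf v = c → v ∈ S) → Fix tB ≤ S
  cfix : ∀ g : GM, (∀ v, qf (g • v) = qf v) → (∀ v : M, tB • v = v → g • v = v) → g * g = 1
  nine : ∃ d1 ∈ U, ∃ d2 ∈ U, orderOf d1 = 3 ∧ orderOf d2 = 3 ∧ d1 * d2 = d2 * d1 ∧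
    d2 ∉ Subgroup.zpowers d1 ∧ d1 * tB = tB * d1 ∧ d2 * tB = tB * d2

/-- Coordinates on `H = A : K`. -/
structure Fr {X : Type*} [Group X] (A H K : Subgroup X) (cl : X → M) (ρ : X → GM) : Prop where
  AH : A ≤ H
  KH : K ≤ H
  cl_mul : ∀ a ∈ A, ∀ b ∈ A, cl (a * b) = cl a + cl b
  cl_ker : ∀ a ∈ A, cl a = 0 → a = 1
  cl_surj : ∀ v, ∃ a ∈ A, cl a = v
  comm : ∀ a ∈ A, ∀ b ∈ A, a * b = b * a
  ρ_mul : ∀ g ∈ H, ∀ h ∈ H, ρ (g * h) = ρ g * ρ h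
  act : ∀ h ∈ H, ∀ a ∈ A, cl (h * a * h⁻¹) = ρ h • cl a
  nor : ∀ h ∈ H, Nor (ρ h)
  dec : ∀ h ∈ H, ∃ a ∈ A, ∃ k ∈ K, h = a * k
  inj : ∀ k ∈ K, ρ k = 1 → k = 1
  onto : ∀ u ∈ U, ∃ k ∈ K, ρ k = u
  even : ∀ N ≤ K, (∀ k ∈ K, ∀ n ∈ N, k * n * k⁻¹ ∈ N) → N ≠ ⊥ → ∃ n ∈ N, n ≠ 1 ∧ n * n = 1

universe u v

/-- **N**: the normalizer of `U`. -/
def JobN : Prop := FactsN

/-- **M**: the finite facts. -/
def JobM : Prop := FactsN → Facts3

/-- **F**: the frame. -/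
def JobF : Prop := ∀ (X : Type u) [Group X] [Finite X] (A H K : Subgroup X),
  Nat.card A = 2 ^ 20 → H = Subgroup.normalizer (A : Set X) → K ≤ H → A ⊓ K = ⊥ → A ⊔ K = H →
  ∀ (F : Type v) [Field F] [Fintype F], Fintype.card F = 4 →
  (Nonempty (K ≃* PSU 6 F 2) ∨
    ∃ K₀ : Subgroup K, K₀.Normal ∧ K₀.index = 2 ∧ Nonempty (K₀ ≃* PSU 6 F 2) ∧
      Subgroup.centralizer (K₀ : Set K) = ⊥) →
  (∀ B : Subgroup X, B ≤ A → (∀ h ∈ H, ∀ b ∈ B, h * b * h⁻¹ ∈ B) → B = ⊥ ∨ B = A) →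
  ∃ cl ρ, Fr A H K cl ρ

/-- **G**: the group theory. -/
def JobG : Prop := Facts3 → ∀ (X : Type u) [Group X] [Finite X] (A H K : Subgroup X) (cl : X → M)
  (ρ : X → GM), Fr A H K cl ρ → oddCore X = ⊥ → H = Subgroup.normalizer (A : Set X) →
  (∀ B : Subgroup X, B ≤ A → (∀ h ∈ H, ∀ b ∈ B, h * b * h⁻¹ ∈ B) → B = ⊥ ∨ B = A) →
  H = ⊤ ∨ ∃ g : X, g ∉ H ∧ 3 ∣ Nat.card ↥(H ⊓ H.map (MulAut.conj g).toMonoidHom)

end H39.SE
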