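import Cfsg.Agent.H63.A8Def
import Cfsg.Agent.H59.SU

/-! A8S slot L4: `A₈` is not a subgroup of `PSL₄(q)` or `PSU₄(q)`, `q` odd (via `2³:7`). -/

set_option autoImplicit false

namespace H39.A8L4

open Matrix

section Lin

variable {K V : Type} [Field K] [AddCommGroup V] [Module K V]

theorem step (h2 : (2 : K) ≠ 0) (B : Module.End K V) (hB : B * B = 1) (u : V) (hu : u ≠ 0) :
    ∃ x : ℤ, (x = 1 ∨ x = -1) ∧ u + (x : K) • B u ≠ 0 ∧
      B (u + (x : K) • B u) = (x : K) • (u + (x : K) • B u) := by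
  have hBB : B (B u) = u := by
    have := congrArg (fun T : Module.End K V => T u) hB
    simpa using this
  by_cases h : u + B u = 0
  · refine ⟨-1, Or.inr rfl, ?_, ?_⟩
    · intro h'
      have e : B u = -u := (neg_eq_of_add_eq_zero_right h).symm
      rw [e] at h'
      have : (2 : K) • u = 0 := by
        rw [two_smul]
        simpa using h'
      rcases smul_eq_zero.1 this with h | h
      · exact h2 h
      · exact hu h
    · simp [hBB]
      abel
  · refine ⟨1, Or.inl rfl, by simpa using h, ?_⟩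
    simp [hBB]
    abel

/-- the weights of the seven translates -/
def eps (x y : ℤ) : ℕ → ℤ
  | 0 => -1
  | 1 => x
  | 2 => y
  | 3 => -x
  | 4 => x * y
  | 5 => -(x * y)
  | _ => -y

theorem eps_coef (x y : ℤ) (hx : x = 1 ∨ x = -1) (hy : y = 1 ∨ y = -1) (k j : Fin 5) :
    (1 + eps x y k * eps x y j) * (1 + eps x y (k + 1) * eps x y (j + 1)) *
      (1 + eps x y (k + 2) * eps x y (j + 2)) = if k = j then 8 else 0 := by
  rcases hx with rfl | rfl <;> rcases hy with rfl | rfl <;> revert k j <;> decide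

theorem core [FiniteDimensional K V] (h2 : (2 : K) ≠ 0) (hV : Module.finrank K V ≤ 4)
    (b : ℕ → Module.End K V) (S : Module.End K V) (hS : Function.Injective S)
    (hbS : ∀ i, b i * S = S * b (i + 1)) (hb : ∀ i, b i * b i = 1)
    (hrec : ∀ i, b (i + 3) = b i * b (i + 1)) (h01 : b 0 * b 1 = b 1 * b 0)
    (h02 : b 0 * b 2 = b 2 * b 0) (h12 : b 1 * b 2 = b 2 * b 1) : b 0 = 1 := by
  by_contra hne
  obtain ⟨v, hv⟩ : ∃ v, b 0 v ≠ v := by
    by_contra h
    push Not at h
    exact hne (LinearMap.ext h)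
  have app : ∀ {A B C D : Module.End K V}, A * B = C * D → ∀ z, A (B z) = C (D z) :=
    fun h z => by simpa using congrArg (fun T : Module.End K V => T z) h
  have hbb : ∀ i z, b i (b i z) = z := fun i z => by
    simpa using congrArg (fun T : Module.End K V => T z) (hb i)
  set u := v - b 0 v with hu
  have hu0 : u ≠ 0 := fun h => hv (sub_eq_zero.1 h).symm
  have hbu : b 0 u = -u := by simp [hu, hbb]
  obtain ⟨x, hx, hu1, hx1⟩ := step h2 (b 1) (hb 1) u hu0
  set u1 := u + (x : K) • b 1 u with hu1d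
  have hbu1 : b 0 u1 = -u1 := by
    rw [hu1d, map_add, map_smul, app h01, hbu]
    simp [add_comm]
  obtain ⟨y, hy, hw, hy1⟩ := step h2 (b 2) (hb 2) u1 hu1
  set w := u1 + (y : K) • b 2 u1 with hwd
  have e0 : b 0 w = ((eps x y 0 : ℤ) : K) • w := by
    rw [hwd, map_add, map_smul, app h02, hbu1]
    simp [eps]
  have e1 : b 1 w = ((eps x y 1 : ℤ) : K) • w := by
    rw [hwd, map_add, map_smul, app h12, hx1]
    simp only [eps, map_smul, smul_add, smul_comm (x : K) (y : K)]
  have e2 : b 2 w = ((eps x y 2 : ℤ) : K) • w := hy1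
  have hxx : (x : K) * x = 1 := by rcases hx with rfl | rfl <;> simp
  have hyy : (y : K) * y = 1 := by rcases hy with rfl | rfl <;> simp
  have nxt : ∀ (i : ℕ) (a c : K), b i w = a • w → b (i + 1) w = c • w →
      b (i + 3) w = (a * c) • w := by
    intro i a c ha hc
    rw [hrec, Module.End.mul_apply, hc, map_smul, ha, smul_smul, mul_comm]
  have e3 : b 3 w = ((eps x y 3 : ℤ) : K) • w := by
    rw [nxt 0 _ _ e0 e1]; simp [eps]
  have e4 : b 4 w = ((eps x y 4 : ℤ) : K) • w := by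
    rw [nxt 1 _ _ e1 e2]; simp [eps]
  have e5 : b 5 w = ((eps x y 5 : ℤ) : K) • w := by
    rw [nxt 2 _ _ e2 e3]; simp [eps, mul_comm]
  have e6 : b 6 w = ((eps x y 6 : ℤ) : K) • w := by
    rw [nxt 3 _ _ e3 e4]
    congr 1
    simp only [eps]
    push_cast
    linear_combination (-(y : K)) * hxx
  have eall : ∀ i, i ≤ 6 → b i w = ((eps x y i : ℤ) : K) • w := by
    intro i hi
    interval_cases i <;> assumption
  have shift : ∀ (j i : ℕ) (z : V), b i ((S ^ j) z) = (S ^ j) (b (i + j) z) := by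
    intro j
    induction j with
    | zero => intro i z; simp
    | succ j ih =>
      intro i z
      rw [pow_succ', Module.End.mul_apply, Module.End.mul_apply, app (hbS i), ih,
        show i + 1 + j = i + (j + 1) by omega]
  have ew : ∀ (i j : ℕ), i + j ≤ 6 →
      b i ((S ^ j) w) = ((eps x y (j + i) : ℤ) : K) • (S ^ j) w := by
    intro i j h
    rw [shift, eall _ h, map_smul, add_comm]
  have hli : LinearIndependent K (fun j : Fin 5 => (S ^ (j : ℕ)) w) := by
    rw [Fintype.linearIndependent_iff]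
    intro g hg k
    let Q : Module.End K V := (1 + ((eps x y k : ℤ) : K) • b 0) *
      (1 + ((eps x y (k + 1) : ℤ) : K) • b 1) * (1 + ((eps x y (k + 2) : ℤ) : K) • b 2)
    have hQ : ∀ j : Fin 5, Q ((S ^ (j : ℕ)) w) =
        (((if k = j then 8 else 0 : ℤ)) : K) • (S ^ (j : ℕ)) w := by
      intro j
      have a0 := ew 0 j (by omega)
      have a1 := ew 1 j (by omega)
      have a2 := ew 2 j (by omega)
      rw [← eps_coef x y hx hy k j]
      simp only [Q, Module.End.mul_apply, LinearMap.add_apply, LinearMap.smul_apply,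
        Module.End.one_apply, map_add, map_smul, a0, a1, a2, add_zero]
      push_cast
      module
    have h := congrArg Q hg
    rw [map_sum, map_zero, Finset.sum_eq_single k] at h
    · rw [map_smul, hQ, if_pos rfl, smul_smul] at h
      rcases smul_eq_zero.1 h with h | h
      · rcases mul_eq_zero.1 h with h | h
        · exact h
        · exfalso
          have : (2 : K) ^ 3 = 0 := by
            rw [← h]; norm_num
          exact h2 (pow_eq_zero_iff (by norm_num) |>.1 this)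
      · exfalso
        apply hw
        have hinj : Function.Injective (S ^ (k : ℕ)) := by
          rw [Module.End.coe_pow]
          exact hS.iterate _
        exact hinj (by rw [h, map_zero])
    · intro j _ hj
      rw [map_smul, hQ, if_neg (Ne.symm hj)]
      simp
    · simp
  have := hli.fintype_card_le_finrank
  simp at this
  omega

end Lin

section Grp

variable {Γ : Type} [Group Γ]

theorem comm_of (a : ℕ → Γ) (r : Γ) (ha : ∀ i, a (i + 1) = r * a i * r⁻¹)
    (c1 c2 s : Γ) (hc1 : c1 ∈ Subgroup.center Γ) (hc2 : c2 ∈ Subgroup.center Γ)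
    (hs : s ∈ Subgroup.center Γ) (h1 : a 0 * a 1 = c1 * (a 1 * a 0))
    (h2 : a 0 * a 2 = c2 * (a 2 * a 0)) (h3 : a 0 * a 1 = s * a 3) : c1 = 1 ∧ c2 = 1 := by
  have cj : ∀ (c : Γ) (i j : ℕ), c ∈ Subgroup.center Γ → a i * a j = c * (a j * a i) →
      a (i + 1) * a (j + 1) = c * (a (j + 1) * a (i + 1)) := by
    intro c i j hc h
    have hcr := Subgroup.mem_center_iff.1 hc r
    rw [ha, ha]
    calc r * a i * r⁻¹ * (r * a j * r⁻¹) = r * (a i * a j) * r⁻¹ := by group
      _ = (r * c) * (a j * a i) * r⁻¹ := by rw [h]; group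
      _ = _ := by rw [hcr]; group
  have h12 := cj c1 0 1 hc1 h1
  have h23 := cj c1 1 2 hc1 h12
  have h13 := cj c2 0 2 hc2 h2
  simp only [zero_add, Nat.reduceAdd] at h12 h23 h13
  have z1 := Subgroup.mem_center_iff.1 hc1
  have z2 := Subgroup.mem_center_iff.1 hc2
  have zs := Subgroup.mem_center_iff.1 hs
  -- `a 1 * (a 0 * a 1)` two ways
  have e1 : c1 * c2 = 1 := by
    have t1 : a 1 * (a 0 * a 1) = c2 * (a 0 * a 1 * a 1) := by
      rw [h3]
      calc a 1 * (s * a 3) = (a 1 * s) * a 3 := by group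
        _ = s * (a 1 * a 3) := by rw [zs]; group
        _ = (s * c2) * (a 3 * a 1) := by rw [h13]; group
        _ = _ := by rw [z2]; group
    have t2 : a 0 * a 1 * a 1 = c1 * (a 1 * (a 0 * a 1)) := by
      conv_lhs => rw [h1]
      group
    rw [t1, ← mul_assoc] at t2
    exact (right_eq_mul.1 t2)
  have e2 : c1 * c2 * c1 = 1 := by
    have t1 : a 2 * (a 0 * a 1) = c1 * (a 0 * a 1 * a 2) := by
      rw [h3]
      calc a 2 * (s * a 3) = (a 2 * s) * a 3 := by group
        _ = s * (a 2 * a 3) := by rw [zs]; group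
        _ = (s * c1) * (a 3 * a 2) := by rw [h23]; group
        _ = _ := by rw [z1]; group
    have t2 : a 0 * a 1 * a 2 = c1 * c2 * (a 2 * (a 0 * a 1)) := by
      calc a 0 * a 1 * a 2 = a 0 * (a 1 * a 2) := by group
        _ = (a 0 * c1) * (a 2 * a 1) := by rw [h12]; group
        _ = c1 * (a 0 * a 2) * a 1 := by rw [z1]; group
        _ = _ := by rw [h2]; group
    rw [t1, ← mul_assoc] at t2
    exact (right_eq_mul.1 t2)
  rw [e1, one_mul] at e2
  rw [e2, one_mul] at e1
  exact ⟨e2, e1⟩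

end Grp

def pe : Equiv.Perm (Fin 8) :=
  Equiv.swap 0 1 * Equiv.swap 2 4 * Equiv.swap 3 7 * Equiv.swap 5 6

def pr : Equiv.Perm (Fin 8) :=
  Equiv.swap 1 2 * Equiv.swap 2 3 * Equiv.swap 3 4 * Equiv.swap 4 5 * Equiv.swap 5 6 *
    Equiv.swap 6 7

theorem pe_mem : pe ∈ alternatingGroup (Fin 8) := by
  simp [pe, Equiv.Perm.mem_alternatingGroup, Equiv.Perm.sign_swap']

theorem pr_mem : pr ∈ alternatingGroup (Fin 8) := by
  simp [pr, Equiv.Perm.mem_alternatingGroup, Equiv.Perm.sign_swap']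

theorem rels : pe ≠ 1 ∧ pe * pe = 1 ∧ pe * (pr * pe * pr⁻¹) = (pr * pe * pr⁻¹) * pe ∧
    pe * (pr * (pr * pe * pr⁻¹) * pr⁻¹) = (pr * (pr * pe * pr⁻¹) * pr⁻¹) * pe ∧
    pe * (pr * pe * pr⁻¹) = pr * (pr * (pr * pe * pr⁻¹) * pr⁻¹) * pr⁻¹ := by
  refine ⟨?_, ?_, ?_, ?_, ?_⟩ <;> decide +kernel

theorem relsA : ∃ e ρ : H63.A8.A8, e ≠ 1 ∧ e * e = 1 ∧ e * (ρ * e * ρ⁻¹) = (ρ * e * ρ⁻¹) * e ∧
    e * (ρ * (ρ * e * ρ⁻¹) * ρ⁻¹) = (ρ * (ρ * e * ρ⁻¹) * ρ⁻¹) * e ∧
    e * (ρ * e * ρ⁻¹) = ρ * (ρ * (ρ * e * ρ⁻¹) * ρ⁻¹) * ρ⁻¹ := by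
  obtain ⟨r1, r2, r3, r4, r5⟩ := rels
  exact ⟨⟨pe, pe_mem⟩, ⟨pr, pr_mem⟩, fun h => r1 (congrArg Subtype.val h), Subtype.ext r2,
    Subtype.ext r3, Subtype.ext r4, Subtype.ext r5⟩

theorem main {Γ F : Type} [Group Γ] [Field F] (h2 : (2 : F) ≠ 0)
    (ι : Γ →* Matrix (Fin 4) (Fin 4) F) (hι : Function.Injective ι)
    (hc : ∀ g ∈ Subgroup.center Γ, ∃ c : F, ι g = c • (1 : Matrix (Fin 4) (Fin 4) F))
    (ψ : H63.A8.A8 →* Γ ⧸ Subgroup.center Γ) : ¬ Function.Injective ψ := by
  intro hψ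
  obtain ⟨e, ρ, r1, r2, r3, r4, r5⟩ := relsA
  obtain ⟨π, πs, πk⟩ : ∃ π : Γ →* Γ ⧸ Subgroup.center Γ, Function.Surjective π ∧
      ∀ g, π g = 1 ↔ g ∈ Subgroup.center Γ :=
    ⟨QuotientGroup.mk' _, QuotientGroup.mk'_surjective _, fun g => QuotientGroup.eq_one_iff g⟩
  obtain ⟨a0, ha0⟩ := πs (ψ e)
  obtain ⟨r, hr⟩ := πs (ψ ρ)
  obtain ⟨a, haz, ha⟩ : ∃ a : ℕ → Γ, a 0 = a0 ∧ ∀ i, a (i + 1) = r * a i * r⁻¹ :=
    ⟨fun i => r ^ i * a0 * (r ^ i)⁻¹, by simp, fun i => by
      simp only [pow_succ']; group⟩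
  have p0 : π (a 0) = ψ e := by rw [haz]; exact ha0
  have ps : ∀ (i : ℕ) (x : H63.A8.A8), π (a i) = ψ x → π (a (i + 1)) = ψ (ρ * x * ρ⁻¹) := by
    intro i x h
    rw [ha, map_mul, map_mul, map_inv, h, map_mul, map_mul, map_inv, hr]
  have p1 := ps 0 _ p0
  have p2 := ps 1 _ p1
  have p3 := ps 2 _ p2
  simp only [zero_add, Nat.reduceAdd] at p1 p2 p3
  have lift : ∀ x y : Γ, π x = π y → ∃ c ∈ Subgroup.center Γ, x = c * y := by
    intro x y h
    refine ⟨x * y⁻¹, ?_, by group⟩
    rw [← πk, map_mul, map_inv, h, mul_inv_cancel]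
  obtain ⟨c1, hc1, h1⟩ := lift (a 0 * a 1) (a 1 * a 0) (by
    rw [map_mul, map_mul, p0, p1, ← map_mul, ← map_mul, r3])
  obtain ⟨c2, hc2, h2'⟩ := lift (a 0 * a 2) (a 2 * a 0) (by
    rw [map_mul, map_mul, p0, p2, ← map_mul, ← map_mul, r4])
  obtain ⟨s, hs, h3⟩ := lift (a 0 * a 1) (a 3) (by
    rw [map_mul, p0, p1, p3, ← map_mul, r5])
  obtain ⟨c, hcc, h4⟩ := lift (a 0 * a 0) 1 (by
    rw [map_mul, p0, ← map_mul, r2, map_one, map_one])
  obtain ⟨rfl, rfl⟩ := comm_of a r ha c1 c2 s hc1 hc2 hs h1 h2' h3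
  rw [one_mul] at h1 h2'
  rw [mul_one] at h4
  -- conjugation transports relations
  have cj : ∀ (z : Γ), z ∈ Subgroup.center Γ → ∀ (i j k : ℕ), a i * a j = z * a k →
      ∀ m, a (i + m) * a (j + m) = z * a (k + m) := by
    intro z hz i j k h m
    induction m with
    | zero => simpa using h
    | succ m ih =>
      rw [← add_assoc, ← add_assoc, ← add_assoc, ha, ha, ha]
      calc r * a (i + m) * r⁻¹ * (r * a (j + m) * r⁻¹) = r * (a (i + m) * a (j + m)) * r⁻¹ := by
            group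
        _ = (r * z) * a (k + m) * r⁻¹ := by rw [ih]; group
        _ = _ := by rw [Subgroup.mem_center_iff.1 hz r]; group
  have sq : ∀ i, a i * a i = c := by
    intro i
    induction i with
    | zero => exact h4
    | succ i ih =>
      rw [ha]
      calc r * a i * r⁻¹ * (r * a i * r⁻¹) = r * (a i * a i) * r⁻¹ := by group
        _ = c := by rw [ih, Subgroup.mem_center_iff.1 hcc r]; group
  have h12 : a 1 * a 2 = a 2 * a 1 := by
    rw [ha 1, show a 1 = r * a 0 * r⁻¹ from ha 0]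
    calc r * a 0 * r⁻¹ * (r * (r * a 0 * r⁻¹) * r⁻¹) = r * (a 0 * (r * a 0 * r⁻¹)) * r⁻¹ := by
          group
      _ = r * ((r * a 0 * r⁻¹) * a 0) * r⁻¹ := by rw [← ha 0, zero_add, h1]
      _ = _ := by group
  -- pass to the algebraic closure
  let K := AlgebraicClosure F
  let θ : Γ →* Module.End K (Fin 4 → K) :=
    ((Matrix.toLinAlgEquiv' (R := K) (n := Fin 4)).toRingEquiv.toRingHom.toMonoidHom.comp
      ((algebraMap F K).mapMatrix (m := Fin 4)).toMonoidHom).comp ι
  have hθ : ∀ g, θ g = Matrix.toLinAlgEquiv' ((ι g).map (algebraMap F K)) := fun g => rfl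
  have θc : ∀ g ∈ Subgroup.center Γ, ∃ k : K, θ g = k • (1 : Module.End K (Fin 4 → K)) := by
    intro g hg
    obtain ⟨k, hk⟩ := hc g hg
    refine ⟨algebraMap F K k, ?_⟩
    rw [hθ, hk, ← map_one (Matrix.toLinAlgEquiv' (R := K) (n := Fin 4)), ← map_smul]
    congr 1
    ext i j
    by_cases h : i = j <;> simp [h]
  have θinj : Function.Injective θ := by
    intro g h hgh
    apply hι
    rw [hθ, hθ] at hgh
    exact Matrix.map_injective (algebraMap F K).injective
      ((Matrix.toLinAlgEquiv' (R := K) (n := Fin 4)).injective hgh)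
  have one_ne : (1 : Module.End K (Fin 4 → K)) ≠ 0 := one_ne_zero
  obtain ⟨kc, hkc⟩ := θc c hcc
  obtain ⟨ks, hks⟩ := θc s hs
  have kc0 : kc ≠ 0 := by
    rintro rfl
    have : θ (c * c⁻¹) = 0 := by rw [map_mul, hkc]; simp
    rw [mul_inv_cancel, map_one] at this
    exact one_ne this
  have h2K : (2 : K) ≠ 0 := by
    intro h
    apply h2
    apply (algebraMap F K).injective
    rw [map_zero, ← h]
    exact map_ofNat _ 2
  -- `ks² = kc`
  have kss : ks * ks = kc := by
    have e1 : θ (a 0 * a 1 * (a 0 * a 1)) = (kc * kc) • (1 : Module.End K (Fin 4 → K)) := by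
      have : a 0 * a 1 * (a 0 * a 1) = c * c := by
        calc a 0 * a 1 * (a 0 * a 1) = a 0 * (a 1 * a 0) * a 1 := by group
          _ = (a 0 * a 0) * (a 1 * a 1) := by rw [← h1]; group
          _ = c * c := by rw [sq, sq]
      rw [this, map_mul, hkc]
      simp [smul_smul]
    have e2 : θ (a 0 * a 1 * (a 0 * a 1)) = (ks * ks * kc) • (1 : Module.End K (Fin 4 → K)) := by
      have : a 0 * a 1 * (a 0 * a 1) = s * s * c := by
        calc a 0 * a 1 * (a 0 * a 1) = s * (a 3 * s) * a 3 := by rw [h3]; group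
          _ = s * s * (a 3 * a 3) := by rw [Subgroup.mem_center_iff.1 hs]; group
          _ = s * s * c := by rw [sq]
      rw [this, map_mul, map_mul, hkc, hks]
      simp [smul_smul, mul_comm]
    rw [e1] at e2
    have := smul_left_injective K one_ne e2
    exact (mul_right_cancel₀ kc0 this).symm
  have ks0 : ks ≠ 0 := by
    rintro rfl
    exact kc0 (by rw [← kss]; simp)
  let b : ℕ → Module.End K (Fin 4 → K) := fun i => ks⁻¹ • θ (a i)
  have hb0 : b 0 = 1 := by
    refine core h2K (by simp) b (θ r⁻¹) ?_ ?_ ?_ ?_ ?_ ?_ ?_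
    · intro x y h
      have := congrArg (θ r) h
      rwa [← Module.End.mul_apply, ← Module.End.mul_apply, ← map_mul, mul_inv_cancel, map_one,
        Module.End.one_apply, Module.End.one_apply] at this
    · intro i
      simp only [b, smul_mul_assoc, mul_smul_comm, ← map_mul, ha]
      congr 2
      group
    · intro i
      simp only [b, smul_mul_assoc, mul_smul_comm, ← map_mul, sq, hkc, smul_smul, ← kss]
      rw [show ks⁻¹ * (ks⁻¹ * (ks * ks)) = 1 by
        rw [inv_mul_cancel_left₀ ks0, inv_mul_cancel₀ ks0], one_smul]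
    · intro i
      have := cj s hs 0 1 3 h3 i
      rw [zero_add, add_comm 1 i, add_comm 3 i] at this
      simp only [b, smul_mul_assoc, mul_smul_comm, ← map_mul, this]
      rw [map_mul, hks]
      simp only [smul_mul_assoc, one_mul, smul_smul]
      congr 1
      rw [inv_mul_cancel₀ ks0, mul_one]
    · simp only [b, smul_mul_assoc, mul_smul_comm, ← map_mul, h1]
    · simp only [b, smul_mul_assoc, mul_smul_comm, ← map_mul, h2']
    · simp only [b, smul_mul_assoc, mul_smul_comm, ← map_mul, h12]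
  have : a 0 = s := by
    apply θinj
    rw [hks, ← hb0]
    simp [b, smul_smul, ks0]
  have h1' : ψ e = 1 := by
    rw [← p0, this]
    exact (πk s).2 hs
  exact r1 (hψ (h1'.trans (map_one ψ).symm))

theorem two_ne {F : Type} [Field F] [Fintype F] (h : Odd (Fintype.card F)) : (2 : F) ≠ 0 := by
  intro h2
  obtain ⟨k, hk⟩ := h
  have : ((Fintype.card F : ℕ) : F) = 0 := FiniteField.cast_card_eq_zero F
  rw [hk] at this
  push_cast at this
  rw [h2] at this
  simp at this

theorem jobL4 : H63.A8.JL4 := by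
  intro F _ _ hF
  refine ⟨fun ψ => ?_, fun q hq ψ => ?_⟩
  · refine main (two_ne hF) (Matrix.SpecialLinearGroup.coeMonoidHom) Subtype.val_injective
      (fun g hg => ?_) ψ
    obtain ⟨c, -, hc⟩ := Matrix.SpecialLinearGroup.mem_center_iff.1 hg
    refine ⟨c, ?_⟩
    change g.1 = _
    rw [← hc, Matrix.smul_one_eq_diagonal]
    rfl
  · refine main (two_ne hF) ((Matrix.SpecialLinearGroup.coeMonoidHom).comp (Cfsg.SU 4 F q).subtype)
      (Subtype.val_injective.comp Subtype.val_injective) (fun g hg => ?_) ψ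
    exact (H59.mem_center_SU_iff hq (by norm_num) g).1 hg

end H39.A8L4
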