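import Cfsg.Agent.H39.BSpec
import Cfsg.Agent.H77.F23A
import Cfsg.Agent.H77.F23X
import Cfsg.Agent.S0270

/-! Chapter B of `blueprints/PS3B.md`: the frame and the normal subgroups of `C(z)`. -/

set_option autoImplicit false

open Cfsg Subgroup H98 H42.L3 H56.L3 H39.F22 H39.F23
open H80.F23 (U Ac In sg rho Pm ze mem_R0 sm ad u0)
open scoped Matrix

namespace H39.BB

universe u

variable {G : Type*} [Group G] {z : G} {Q N : Subgroup G} {l : G → V8} {μ : G → M8}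

/-- `C(z) / Q` is simple modulo `R0` -/
def Top (z : G) (μ : G → M8) : Prop := ∀ N ≤ Ce z, Ce z ≤ nr N → (∃ g ∈ N, μ g ∉ R0) →
  ∀ c ∈ Ce z, ∃ r ∈ Ce z, μ r ∈ R0 ∧ c * r ∈ N

/-- `R0` is irreducible. -/
theorem irr (F : FR z Q l μ) (hn : Ce z ≤ nr N) (hz : z ∈ N) {a : G} (h1 : a ∈ N) (h2 : a ∈ Q)
    (h3 : a ∉ zpowers z) : Q ≤ N := fun q hq => by
  have X := F.toX8
  let S : Subsemiring M8 :=
    { carrier := {A | ∀ b ∈ N ⊓ Q, ∃ b' ∈ N ⊓ Q, l b' = A *ᵥ l b}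
      mul_mem' := fun h k b hb => by
        obtain ⟨b1, e1, f1⟩ := k b hb
        obtain ⟨b2, e2, f2⟩ := h b1 e1
        exact ⟨b2, e2, by rw [f2, f1, Matrix.mulVec_mulVec]⟩
      one_mem' := fun b hb => ⟨b, hb, (Matrix.one_mulVec _).symm⟩
      add_mem' := fun h k b hb => by
        obtain ⟨b1, e1, f1⟩ := k b hb
        obtain ⟨b2, e2, f2⟩ := h b hb
        exact ⟨b2 * b1, mul_mem e2 e1, by rw [X.l_mul _ e2.2 _ e1.2, f1, f2, Matrix.add_mulVec]⟩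
      zero_mem' := fun _ _ => ⟨1, one_mem _, by rw [H80.F23.X.l_one X, Matrix.zero_mulVec]⟩ }
  have k : ∀ i j, Matrix.single i j 1 ∈ S := H77.F23.single_mem fun k s b hb => by
    obtain ⟨c, hc, e⟩ := F.onto _ (H77.F23.G0_mem k s)
    exact ⟨c * b * c⁻¹, ⟨conj_mem_of_mem_normalizer (hn hc) hb.1,
      H80.F23.X.cj_mem X (H80.F23.ce_nz hc) hb.2⟩, e ▸ X.act c (H80.F23.ce_nz hc) b hb.2⟩
  have all : ∀ A, A ∈ S := fun A => by
    rw [Matrix.matrix_eq_sum_single A]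
    refine sum_mem fun i _ => sum_mem fun j _ => ?_
    have := nsmul_mem (k i j) (A i j).val
    rwa [Matrix.smul_single, nsmul_eq_mul, mul_one, ZMod.natCast_zmod_val] at this
  obtain ⟨j, hj⟩ := Function.ne_iff.1 (mt (X.l_ker a h2).1 h3)
  obtain ⟨b, hb, e⟩ := all (Matrix.vecMulVec (l q) (Pi.single j (l a j))) a ⟨h1, h2⟩
  have e2 : ∀ x : ZMod 3, x ≠ 0 → x * x = 1 := by decide
  rw [Matrix.vecMulVec_mulVec, single_dotProduct, e2 _ hj, MulOpposite.op_one, one_smul] at e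
  simpa using mul_mem (zpowers_le.2 hz ((H80.F23.X.l_eq X hq hb.2).2 e.symm)) hb.1

/-- A normal subgroup of `C(z)` above `Q` with a matrix outside `R0` is `C(z)`. -/
theorem simp_of (F : FR z Q l μ) (T : Top z μ) (hζ : In z μ ze) (hN : N ≤ Ce z) (hn : Ce z ≤ nr N)
    (hQ : Q ≤ N) (hg : ∃ g ∈ N, μ g ∉ R0) : Ce z ≤ N := fun c hc => by
  have X := F.toX8
  obtain ⟨d, hd, ed⟩ := hζ
  obtain ⟨r, hr, e1, e2⟩ := T N hN hn hg d hd
  obtain ⟨w, hw⟩ := mem_R0.1 e1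
  have a1 : Ac (μ (d * r)) (sm .b) := by
    rw [H80.F23.X.mul X hd hr, ed]
    exact Ac.mul (f := sm .b) (fun u => .inl (H80.F23.ze_rho u)) ((H80.F23.ac_rho w).of_pm hw)
  have k : ∀ v, ∃ n ∈ N, Pm (μ n) (rho v) := fun v => by
    obtain ⟨t, ht, e⟩ := F.onto _ (mem_R0.2 ⟨sm .b v, Pm.rfl⟩)
    have m := mul_mem (mul_mem (hN e2) ht) (inv_mem (hN e2))
    refine ⟨d * r * t * (d * r)⁻¹ * t⁻¹, ?_, Pm.cancel (H80.F23.rho_unit (sm .b v)) ?_⟩
    · simpa only [mul_assoc] using mul_mem e2 (conj_mem_of_mem_normalizer (hn ht) (inv_mem e2))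
    · have e3 : ∀ v, ad v (sm .b v) = sm .b (sm .b v) := by decide
      refine Pm.trans ?_ (e3 v ▸ H80.F23.rho_pm v (sm .b v)).symm
      rw [← e, ← H80.F23.X.mul X (mul_mem m (inv_mem ht)) ht, inv_mul_cancel_right]
      refine Pm.cancel (H80.F23.X.unit' X (hN e2)) ?_
      rw [H80.F23.X.cj_mul X (H80.F23.ce_nz (hN e2)) (H80.F23.ce_nz ht), e]
      exact a1 _
  obtain ⟨n0, h0, f0⟩ := k (.a, .o, .o)
  have f1 : μ (n0 * n0) = -1 := by
    rw [H80.F23.X.mul X (hN h0) (hN h0), f0.sq, H80.F23.rho_sq]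
    exact neg_one_smul _ _
  obtain ⟨t, ht, e3, e4⟩ := T N hN hn hg c hc
  obtain ⟨v, hv⟩ := mem_R0.1 e3
  obtain ⟨n, h1, f2⟩ := k v
  have : t ∈ N := by
    rcases hv.trans f2.symm with e | e
    · simpa using mul_mem (hQ ((H80.F23.X.eq_iff X ht (hN h1)).2 e)) h1
    · have m := mul_mem (mul_mem h0 h0) h1
      simpa only [inv_mul_cancel_right] using mul_mem (hQ ((H80.F23.X.eq_iff X ht (hN m)).2 (by
        rw [H80.F23.X.mul X (hN (mul_mem h0 h0)) (hN h1), f1, e, neg_one_mul]))) m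
  simpa using mul_mem e4 (inv_mem this)

/-- the frame from the hypotheses of the row -/
theorem jobA [Finite G] (S : Sylow 3 G) (Z : Subgroup G) (hS : Z ≤ (S : Subgroup G))
    (hZ : Nat.card Z = 3) (hQ : IsExtraspecial 3 (generalizedFittingSubgroup (cn Z)))
    (hc : Nat.card (generalizedFittingSubgroup (cn Z)) = 3 ^ 9)
    [(generalizedFittingSubgroup (cn Z)).Normal]
    (cube : ∀ x ∈ generalizedFittingSubgroup (cn Z), x ^ 3 = 1)
    (h1 : generalizedFittingSubgroup (cn Z ⧸ generalizedFittingSubgroup (cn Z)) =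
      pCore 2 (cn Z ⧸ generalizedFittingSubgroup (cn Z)))
    (hR : IsExtraspecial 2 (pCore 2 (cn Z ⧸ generalizedFittingSubgroup (cn Z))))
    (hRc : Nat.card (pCore 2 (cn Z ⧸ generalizedFittingSubgroup (cn Z))) = 2 ^ 7)
    [(pCore 2 (cn Z ⧸ generalizedFittingSubgroup (cn Z))).Normal]
    (hT : ∃ (F : Type) (_ : Field F) (_ : Fintype F), Fintype.card F = 3 ∧
      Nonempty ((cn Z ⧸ generalizedFittingSubgroup (cn Z)) ⧸
        pCore 2 (cn Z ⧸ generalizedFittingSubgroup (cn Z)) ≃* PSp 2 F))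
    (hw : ∃ g : G, cj g Z ≤ (S : Subgroup G) ∧ cj g Z ≠ Z) :
    ∃ (z : G) (Q : Subgroup G) (l : G → V8) (μ : G → M8), FRB z Q l μ ∧ Top z μ ∧ In z μ ze ∧
      NW z (Ce z) := by
  obtain ⟨F, _, _, hF, ⟨e⟩⟩ := hT
  obtain ⟨g, g1, g2⟩ := hw
  have : Fact (Nat.Prime 3) := ⟨Nat.prime_three⟩
  obtain ⟨ψ⟩ := H59.U6.exists_equivF hF
  have hX : Nat.card (PSp 2 F) = 25920 := (Nat.card_congr ψ.toEquiv).trans H59.U6.cardXM
  have := Nat.finite_of_card_ne_zero (hX.trans_ne (by decide))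
  have := Cfsg.Agent.S0270.result (F := F) 2 le_rfl fun _ => hF.ge
  obtain ⟨P⟩ : Nonempty (Sylow 3 (PSp 2 F)) := inferInstance
  have : Nontrivial P := (P : Subgroup (PSp 2 F)).nontrivial_iff_ne_bot.2
    (P.ne_bot_of_dvd_card (by rw [hX]; decide))
  have := P.isPGroup'.center_nontrivial
  obtain ⟨n, n0, hn⟩ := (P.isPGroup'.to_subgroup (center P)).nontrivial_iff_card.1 inferInstance
  obtain ⟨x, hx⟩ := exists_prime_orderOf_dvd_card' (G := center P) 3 (hn ▸ dvd_pow_self 3 n0.ne')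
  rw [← orderOf_coe, ← orderOf_coe] at hx
  obtain ⟨-, a, ha, b, hb, a3, -, ab⟩ := H77.F23.jobX F _ hF hx ⟨P, fun y hy =>
    mem_Ce.2 (congrArg Subtype.val (mem_center_iff.1 x.2 ⟨y, hy⟩))⟩
  obtain ⟨z, l, μ, rfl, fr, ν, -, h5, h6, ζ, -, h7⟩ :=
    H77.F23.frame hZ rfl hQ hc cube h1 hR hRc e hx (mem_Ce.1 ha) (mem_Ce.1 hb) a3 ab
  have Cz : Ce z = cn (zpowers z) := by rw [cn, zpowers_eq_closure, centralizer_closure]
  refine ⟨z, _, l, μ, ⟨fr, ?_⟩, fun N hN hn ⟨k, k1, k2⟩ c hc => ?_, ?_,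
    H33.F22.nw fr.ord S hS fun h => g2 (h.2 g g1)⟩
  · rw [Cz, card_eq_card_quotient_mul_card_subgroup (generalizedFittingSubgroup _), hc,
      card_eq_card_quotient_mul_card_subgroup (pCore 2 _), hRc, Nat.card_congr e.toEquiv, hX]
    norm_num
  · let π := (e.toMonoidHom.comp (QuotientGroup.mk' _)).comp (QuotientGroup.mk' _)
    have hπ : Function.Surjective π := (e.surjective.comp (QuotientGroup.mk'_surjective _)).comp
      (QuotientGroup.mk'_surjective _)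
    have k0 : ∀ y, π y = 1 → μ y ∈ R0 := fun y hy =>
      h5 y ▸ h6 _ ((QuotientGroup.eq_one_iff _).1 (e.map_eq_one_iff.1 hy))
    have hN' : (N.subgroupOf (cn (zpowers z))).Normal :=
      (normal_subgroupOf_iff_le_normalizer (Cz ▸ hN)).2 (Cz ▸ hn)
    rcases (hN'.map π hπ).eq_bot_or_eq_top with h | h
    · exact absurd (k0 ⟨k, Cz.le (hN k1)⟩ (h.le ⟨_, k1, rfl⟩)) k2
    · obtain ⟨y, y1, y2⟩ := h.ge (mem_top (π ⟨c, Cz.le hc⟩))
      exact ⟨c⁻¹ * y, mul_mem (inv_mem hc) (hN y1), k0 ((⟨c, Cz.le hc⟩ : cn (zpowers z))⁻¹ * y)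
        (by rw [map_mul, map_inv, y2, inv_mul_cancel]), by rwa [mul_inv_cancel_left]⟩
  · obtain ⟨c, rfl⟩ := QuotientGroup.mk_surjective ζ
    exact ⟨c, Cz.ge c.2, (h5 c).symm.trans h7⟩

end H39.BB
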