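import Cfsg.Agent.H39.E6Spec
import Cfsg.Agent.H80.F23M

/-! Interface of `blueprints/PS3B.md`, chapter B (row S2915): the Baby Monster from `3^{1+8}`. -/

set_option autoImplicit false

open Cfsg Subgroup H98 H42.L3 H56.L3 H39.F22 H39.F23
open H28.PS (SL3)
open H80.F23 (U Ac In sg)
open scoped Matrix

namespace H39.BB

universe u

section

variable {G : Type*} [Group G]

/-- The frame: `C(z) / Q` has order `128 * 25920`. -/
structure FRB (z : G) (Q : Subgroup G) (l : G → V8) (μ : G → M8) : Prop extends FR z Q l μ where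
  card : Nat.card (Ce z) = 3 ^ 9 * (128 * 25920)

/-- every symplectic matrix that normalizes `R0` occurs -/
def All (z : G) (μ : G → M8) : Prop := ∀ (A : M8) (f : U → U), IsUnit A → Ac A f →
  Aᵀ * kr qi qi qi * A = kr qi qi qi → In z μ A

/-- the part of `HS` shared by `Fi₂₃` and `B` -/
structure HS0 (D : D3 G) (Q : Subgroup G) (s : G) : Prop where
  sz : s ∈ Ce D.z
  ssq : s * s = 1
  s1 : s ≠ 1
  sd : ∀ i, Sd D.z (D.Q i) (D.l i) (D.m i)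
  QQ : ∀ i j, i ≠ j → D.Q i ≤ cn (D.Q j)
  eq : Q ⊓ Ce s = D.QQ
  ker : ∀ c ∈ D.B ⊓ Ce s, (∀ i, D.m i c = 1) → c ∈ Q ∨ c * s ∈ Q
  perm : ∀ g ∈ Nz D.z ⊓ Ce s, ∃ σ : Equiv.Perm (Fin 3), ∀ i, cj g (D.Q i) = D.Q (σ i)
  neg : ∀ i, ∃ r ∈ D.B ⊓ Ce s, D.m i r = -1 ∧ ∀ j, j ≠ i → D.m j r = 1
  der : s ∈ ⁅Ce s, Ce s⁆

/-- The centralizer of `s` in `N(⟨z⟩)`. -/
structure HSB (D : D3 G) (Q : Subgroup G) (s : G) : Prop extends HS0 D Q s where
  full : ∀ A : Fin 3 → SL3, (∀ i, A i ^ 4 = 1) → ∃ p ∈ Ce s, D.P p ∧ ∀ i, D.m i p = A i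
  nine : ∀ T ≤ Ce D.z ⊓ Ce s, IsPGroup 3 T → Q.relIndex T ∣ 9
  swap : ∃ g ∈ Ce D.z ⊓ Ce s, cj g (D.Q 0) = D.Q 0 ∧ cj g (D.Q 1) = D.Q 2

end

/-- **N**: all matrices occur. -/
def JobN : Prop := ∀ (G : Type u) [Group G] [Finite G] (z : G) (Q : Subgroup G) (l : G → V8)
  (μ : G → M8), FRB z Q l μ → All z μ

/-- **G**: `3`-subgroups and involutions of `C(z)`. -/
def JobG : Prop := ∀ (G : Type u) [Group G] [Finite G] (z : G) (Q : Subgroup G) (l : G → V8)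
  (μ : G → M8) (s : G), FRB z Q l μ → All z μ → s ∈ Ce z → s * s = 1 → μ s = sg → GFB z Q s

/-- **H**: the centralizer of `s`. -/
def JobH : Prop := ∀ (G : Type u) [Group G] [Finite G] (z : G) (Q : Subgroup G) (l : G → V8)
  (μ : G → M8), FRB z Q l μ → All z μ →
  ∃ (s : G) (D : D3 G), D.z = z ∧ μ s = sg ∧ HSB D Q s

end H39.BB
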