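import Cfsg.Agent.H88.CGKit
import Cfsg.Agent.H25.TEP

/-! CG: the pair analysis (job GP of blueprints/CG.md). -/

set_option autoImplicit false
set_option linter.unusedSectionVars false

namespace H39.CG

open Subgroup Cfsg H98 H14 H1.Gold H86.L34 H6 H88.AS H88.TE H88.CG
open H25.TE (cmn cmn' cj_nor)

universe u

variable {G : Type u} [Group G] [Finite G] {g k s x y a : G} {K A X T : Subgroup G}

/-- Two commuting subgroups with trivial intersection. -/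
structure DP (K A : Subgroup G) : Prop where
  cm : ∀ k ∈ K, ∀ a ∈ A, Commute k a
  zk : ∀ x ∈ K, x ∈ A → x = 1

namespace DP
variable (p : DP K A)
include p

theorem symm : DP A K := ⟨fun a ha k hk => (p.cm k hk a ha).symm, fun x h1 h2 => p.zk x h2 h1⟩

theorem cj (g : G) : DP (cj g K) (cj g A) := ⟨by
  rintro _ ⟨k, hk, rfl⟩ _ ⟨a, ha, rfl⟩
  exact (p.cm k hk a ha).map _, by
  rintro _ ⟨k, hk, rfl⟩ h
  rw [p.zk k hk (by simpa [mul_assoc] using mem_cj.1 h), map_one]⟩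

theorem nr : K ≤ nor A := fun k hk => centralizer_le_normalizer _ fun a ha => (p.cm k hk a ha).eq.symm

theorem dec (h : x ∈ K ⊔ A) : ∃ k ∈ K, ∃ a ∈ A, x = k * a := (mem_sup_left_norm p.nr).1 h

theorem uq {k' a' : G} (hk : k ∈ K) (ha : a ∈ A) (hk' : k' ∈ K) (ha' : a' ∈ A) (e : k * a = k' * a') :
    k = k' ∧ a = a' := by
  have e1 : k'⁻¹ * k = a' * a⁻¹ := by rw [inv_mul_eq_iff_eq_mul, ← mul_assoc, ← e, mul_inv_cancel_right]
  have := p.zk _ (mul_mem (inv_mem hk') hk) (e1 ▸ mul_mem ha' (inv_mem ha))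
  have e2 := (inv_mul_eq_one.1 this).symm
  exact ⟨e2, by rwa [e2, mul_right_inj] at e⟩

theorem ml {k' a' : G} (ha : a ∈ A) (hk' : k' ∈ K) : k * a * (k' * a') = k * k' * (a * a') := by
  rw [mul_assoc, ← mul_assoc a, ← (p.cm _ hk' _ ha).eq]; group

theorem pw (hk : k ∈ K) (ha : a ∈ A) {n : ℕ} (e : (k * a) ^ n = 1) : k ^ n = 1 ∧ a ^ n = 1 :=
  p.uq (pow_mem hk n) (pow_mem ha n) (one_mem _) (one_mem _) (by
    rw [← (p.cm k hk a ha).mul_pow, e, one_mul])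

theorem sq (hk : k ∈ K) (ha : a ∈ A) (e : k * a * (k * a) = 1) : k * k = 1 ∧ a * a = 1 := by
  simpa only [pow_two] using p.pw hk ha (n := 2) (by rwa [pow_two])

theorem cmm {k' a' : G} (hk : k ∈ K) (ha : a ∈ A) (hk' : k' ∈ K) (ha' : a' ∈ A)
    (e : Commute (k * a) (k' * a')) : Commute k k' ∧ Commute a a' :=
  p.uq (mul_mem hk hk') (mul_mem ha ha') (mul_mem hk' hk) (mul_mem ha' ha) (by
    rw [← p.ml ha hk', ← p.ml ha' hk, e.eq])

theorem xn (hX : X ≤ K ⊔ A) : X ≤ nor K := hX.trans (sup_le le_normalizer p.symm.nr)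

theorem mem_pr (hX : X ≤ K ⊔ A) : a ∈ A ⊓ (X ⊔ K) ↔ a ∈ A ∧ ∃ k ∈ K, k * a ∈ X := by
  refine ⟨fun ⟨h1, h2⟩ => ⟨h1, ?_⟩, fun ⟨h1, k, hk, h2⟩ => ⟨h1, ?_⟩⟩
  · obtain ⟨x, hx, k, hk, e⟩ := (mem_sup_left_norm (p.xn hX)).1 h2
    refine ⟨k⁻¹, inv_mem hk, ?_⟩
    rwa [(p.cm _ (inv_mem hk) _ h1).eq, e, mul_inv_cancel_right]
  · simpa using mul_mem (mem_sup_right (inv_mem hk) : _ ∈ X ⊔ K) (mem_sup_left h2)

theorem card_pr (hX : X ≤ K ⊔ A) : Nat.card ↥(A ⊓ (X ⊔ K)) * Nat.card ↥(X ⊓ K) = Nat.card X := by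
  have h1 := H99.card_sup_mul_card_inf_of_le_normalizer (p.xn hX)
  have h2 := H99.card_sup_mul_card_inf_of_le_normalizer
    (p.xn (X := A ⊓ (X ⊔ K)) (inf_le_left.trans le_sup_right))
  have e1 : A ⊓ (X ⊔ K) ⊔ K = X ⊔ K := le_antisymm (sup_le inf_le_right le_sup_right)
    (sup_le (fun x hx => by
      obtain ⟨k, hk, a, ha, rfl⟩ := p.dec (hX hx)
      exact mul_mem (mem_sup_right hk) (mem_sup_left ((p.mem_pr hX).2 ⟨ha, k, hk, hx⟩))) le_sup_right)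
  have e2 : A ⊓ (X ⊔ K) ⊓ K = ⊥ := eq_bot_iff.2 fun x hx => p.zk x hx.2 hx.1.1
  rw [e1, e2, card_bot, mul_one] at h2
  rw [h2, mul_right_comm] at h1
  exact Nat.eq_of_mul_eq_mul_right Nat.card_pos h1

end DP

section te
variable (t : IsTightlyEmbedded K)
include t

theorem cen_le (hs : s ∈ cj g K) (o : orderOf s = 2) (c : Commute x s) : x ∈ nor (cj g K) :=
  te_centralizer_le (te_cj t g) o hs (mem_cen1.2 c)

theorem mem_nor (hs : s ∈ cj g K) (o : orderOf s = 2) (c : x * s * x⁻¹ ∈ cj g K) :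
    x ∈ nor (cj g K) :=
  te_mem_normalizer (te_cj t g) ((orderOf_conj' x s).trans o) c (conj_mem_cj hs)

theorem ti (hg : g ∉ nor K) (h1 : x ∈ K) (h2 : x ∈ cj g K) (e : x * x = 1) : x = 1 := by
  by_contra c
  exact hg (te_mem_normalizer t (orderOf_two_of_mul_self e c) h1 h2)

theorem sym (hg : g ∉ nor K) (hT : IsSyl 2 T (cj g K ⊓ nor K)) (hX : X ≤ K ⊓ nor (cj g K))
    (h2 : IsPGroup 2 X) : Nat.card X ≤ Nat.card T := by
  obtain ⟨T₀, t1, t2, t3⟩ := symm' (T := X) (a := g) (b := 1) t (fun e => hg (by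
    rw [cj_one] at e; exact cj_eq_self_iff.1 e.symm)) (by rwa [cj_one]) h2
  rw [cj_one] at t1
  exact t3.trans (hT.card_le t2 t1)

/-- The projection of `T` to `K` is a Sylow subgroup. -/
theorem sylR (p : DP K A) (hg : g ∉ nor K) (hT : IsSyl 2 T (cj g K ⊓ nor K)) (h1 : T ≤ K ⊔ A)
    (h2 : T ⊓ A = ⊥) (h3 : T ≠ ⊥) : IsSyl 2 (K ⊓ (T ⊔ A) : Subgroup G) K := by
  rw [sup_comm] at h1
  have c := p.symm.card_pr h1
  rw [h2, card_bot, mul_one] at c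
  have mR := fun a => p.symm.mem_pr (a := a) h1
  generalize hR : K ⊓ (T ⊔ A) = R at c mR
  have RK : R ≤ K := hR ▸ inf_le_left
  obtain ⟨n, hn⟩ := IsPGroup.iff_card.1 hT.isPGroup
  obtain ⟨P, hP, le⟩ := exists_isSyl_le (H := K) (IsPGroup.of_card (c.trans hn)) RK
  by_contra c'
  have lt := lt_inf_normalizer hP.isPGroup (le.lt_of_ne fun e => c' (e ▸ hP))
  have two := hP.isPGroup.to_le (inf_le_left (b := nor R))
  obtain ⟨y, y1, oy, y3⟩ := H84.exists_central_orderOf_mem two lt.le inf_le_right fun e =>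
    h3 (card_eq_one.1 (by rw [← c, e, card_bot]))
  obtain ⟨y1, a, ha, y2⟩ := (mR y).1 y1
  have e : a * y * (a * y) = a * a := by rw [p.symm.ml y1 ha, mul_self_of_two oy, mul_one]
  have oc : orderOf (a * y) = 2 := orderOf_two_of_mul_self (mem_bot.1 (h2 ▸ mem_inf.2
    ⟨mul_mem y2 y2, e ▸ mul_mem ha ha⟩)) fun e => ne_one_of_two oy (p.zk _ y1 (by
      rw [eq_inv_of_mul_eq_one_right e]; exact inv_mem ha))
  exact lt.ne (eq_of_le_of_card_ge lt.le ((sym t hg hT (X := P ⊓ nor R) (fun x hx => ⟨hP.le hx.1,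
    cen_le t (hT.le y2).1 oc ((p.cm _ (hP.le hx.1) _ ha).mul_right (y3 x hx))⟩) two).trans c.ge))

/-- An invariant Sylow subgroup through `s`. -/
theorem exT {S : Subgroup G} (hs : s ∈ cj g K ⊓ nor K) (o : orderOf s = 2) (h2 : IsPGroup 2 S)
    (hS : S ≤ nor K) (c : ∀ x ∈ S, Commute x s) :
    ∃ T, IsSyl 2 T (cj g K ⊓ nor K) ∧ s ∈ T ∧ S ≤ nor T := by
  have nX : S ≤ nor (cj g K ⊓ nor K) := le_normalizer_inf
    (fun x hx => cen_le t hs.1 o (c x hx)) (le_normalizer_of_le hS)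
  obtain ⟨P, hP, hUS⟩ := exists_isSyl_le (H := S ⊔ (cj g K ⊓ nor K))
    (h2.to_sup_of_normal_right' (H99.Wr.el_zpowers (mul_self_of_two o)).two
      fun x hx => centralizer_le_normalizer _ fun y ⟨i, e⟩ => e ▸ ((c x hx).zpow_right i).eq.symm)
    (sup_le_sup_left (zpowers_le.2 hs) _)
  exact ⟨_, hP.inf_of_le_normalizer le_sup_right (hP.le.trans (sup_le nX le_normalizer)),
    ⟨hUS (mem_sup_right (mem_zpowers _)), hs⟩,
    le_normalizer_inf (le_normalizer_of_le (le_sup_left.trans hUS)) nX⟩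

end te

theorem cmT (hx : x ∈ nor T) (hy : y ∈ T) : y * x * y⁻¹ * x⁻¹ ∈ T := by
  simpa [mul_assoc] using mul_mem hy (cmn hx (inv_mem hy))

theorem cmA (hx : x ∈ A) (hy : y ∈ nor A) : y * x * y⁻¹ * x⁻¹ ∈ A := mul_mem (cmn hy hx) (inv_mem hx)

theorem rank {R : Subgroup G} (h : ¬ PRankLE 2 1 K) (hR : IsSyl 2 R K) : 2 < Nat.card R := by
  by_contra! c
  refine h fun E _ h2 => ?_
  have := hR.card_le (Q := E.map K.subtype) (isPGroup_iff_forall.2 (by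
    rintro _ ⟨x, hx, rfl⟩
    exact ⟨1, by rw [pow_one, ← map_pow, h2 x hx, map_one]⟩)) (map_subtype_le E)
  rw [card_map_of_injective K.subtype_injective] at this
  omega

theorem card_le_two {R : Subgroup G} (h : ∀ a ∈ R, a = 1 ∨ a = k) : Nat.card R ≤ 2 := by
  classical
  have : (R : Set G) ⊆ {1, k} := h
  exact (Set.ncard_le_ncard this).trans ((Set.ncard_insert_le _ _).trans (by simp))

theorem fixpt {S Y : Subgroup G} (hS : IsPGroup 2 S) (hY : IsPGroup 2 Y) (n : S ≤ nor Y) (h : Y ≠ ⊥) :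
    ∃ y ∈ Y, orderOf y = 2 ∧ ∀ s ∈ S, Commute s y := by
  obtain ⟨y, h1, h2, h3⟩ := H84.exists_central_orderOf_mem (hS.to_sup_of_normal_right' hY n) le_sup_right
    (sup_le n le_normalizer) h
  exact ⟨y, h1, h2, fun s hs => h3 s (mem_sup_left hs)⟩

structure Pair (d : GD G) (g k a : G) : Prop where
  ng : g ∉ d.N
  kK : k ∈ d.K
  kk : k * k = 1
  mem : k * a ∈ cj g d.K

theorem Pair.cj {d : GD G} {c : G} (hc : c ∈ d.A) (p : Pair d g k (c * a * c⁻¹)) : Pair d (c⁻¹ * g) k a :=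
  ⟨fun e => p.ng ((mul_mem_cancel_left (inv_mem (le_normalizer hc))).1 e), p.kK, p.kk, by
    have := p.mem
    rw [← mul_assoc, ← mul_assoc, ← p.kK c hc, mul_assoc c] at this
    rwa [← H98.cj_cj, mem_cj, inv_inv, ← inv_inv c, inv_inv c⁻¹, inv_inv]⟩

section
variable {d : GD G} (h : G0 d) (f : G1 d)
include h

theorem te : IsTightlyEmbedded d.K := h.std.2.1

theorem nK : d.N = nor d.K := h.std.2.2.2

theorem AN : d.A ≤ nor d.K := le_normalizer.trans (nK h).le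

theorem Kc (hk : k ∈ d.K) (ha : a ∈ d.A) : Commute k a := (hk a ha).symm

theorem QA : d.QA ≤ d.D := (closure_le _).2 (by
  rintro _ ⟨a, b, e, s, t, rfl⟩; exact mul_mem (h.uD ..) (h.vD ..))

theorem UD : d.U ≤ d.D := fun _ hx => by obtain ⟨a, b, e, rfl⟩ := h.mem_U.1 hx; exact h.uD ..

theorem uU (a b e : F4) : d.u a b e ∈ d.U := h.mem_U.2 ⟨_, _, _, rfl⟩

theorem v_mul (t t' : F4) : d.v 0 t * d.v 0 t' = d.v 0 (t + t') := by simp [h.vv, h.z0]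

theorem v_sq (t : F4) : d.v 0 t * d.v 0 t = 1 := by rw [v_mul h, F4.add_self, h.v0]

theorem mem_X : x ∈ d.X ↔ ∃ t, d.v 0 t = x := by
  refine ⟨fun hx => ?_, fun hx => subset_closure hx⟩
  induction hx using closure_induction with
  | mem x hx => exact hx
  | one => exact ⟨0, h.v0⟩
  | mul x y _ _ ix iy =>
    obtain ⟨t, rfl⟩ := ix
    obtain ⟨t', rfl⟩ := iy
    exact ⟨_, (v_mul h ..).symm⟩
  | inv x _ ix =>
    obtain ⟨t, rfl⟩ := ix
    exact ⟨t, (inv_eq_of_mul_eq_one_right (v_sq h t)).symm⟩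

theorem cmu (hk : ∀ a b c, Commute k (d.u a b c)) (a b c x y : F4) :
    d.u x y 0 * (k * d.u a b c) * (d.u x y 0)⁻¹ * (k * d.u a b c)⁻¹ = d.z (x * b + y * a) := by
  rw [← mul_assoc, ← (hk ..).eq, mul_assoc k, mul_assoc k, h.hm.conj, (hk ..).eq, (hk ..).eq,
    mul_inv_rev, mul_assoc, mul_inv_cancel_left, h.hm.inv, h.hm.mul]
  exact cg d.u (F4.add_self a) (F4.add_self b) (by linear_combination (c + a * b) * F4.two_eq)

theorem cmv (hk : ∀ a b, Commute k (d.v a b)) (a b x y : F4) :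
    d.v x y * (k * d.v a b) * (d.v x y)⁻¹ * (k * d.v a b)⁻¹ = d.z (y * a + b * x) := by
  have e : d.v x y * d.v a b = d.z (y * a + b * x) * d.v a b * d.v x y := by
    rw [mul_assoc, h.vv, h.vv, ← mul_assoc, (h.uv ..).eq, mul_assoc, h.zz, add_comm x, add_comm y,
      add_assoc, F4.add_self, add_zero]
  rw [← mul_assoc, ← (hk ..).eq, mul_assoc k, e, (hk ..).eq, mul_inv_rev]
  have c : Commute k (d.z (y * a + b * x)) := by
    have := eq_mul_inv_of_mul_eq (eq_mul_inv_of_mul_eq e.symm).symm.symm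
    rw [this]
    exact (((hk ..).mul_right (hk ..)).mul_right (hk ..).inv_right).mul_right (hk ..).inv_right
  rw [← mul_assoc k, ← mul_assoc k, c.eq, mul_assoc _ k, (hk a b).eq]
  group

include f

theorem dp : DP d.K d.A := ⟨fun _ hk _ ha => Kc h hk ha, fun _ h1 h2 => mem_bot.1 (f.zk ▸ mem_inf.2 ⟨h2, h1⟩)⟩

theorem out2 (g : G) (hx : x ∈ nor (cj g d.K)) (hy : y ∈ nor (cj g d.K)) :
    x ∈ cj g d.K ⊔ cj g d.A ∨ y ∈ cj g d.K ⊔ cj g d.A ∨ x * y ∈ cj g d.K ⊔ cj g d.A := by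
  rw [← cj_nor, ← nK h, mem_cj] at hx hy
  simpa only [← cj_sup, mem_cj, mul_assoc, mul_inv_cancel_left] using f.out2 _ hx _ hy

theorem sqs_le (hX : X ≤ nor (cj g d.K)) : sqs X ≤ cj g d.K ⊔ cj g d.A := (closure_le _).2 (by
  rintro _ ⟨y, hy, rfl⟩
  rcases out2 h f g (hX hy) (hX hy) with e | e | e
  exacts [mul_mem e e, mul_mem e e, e])

theorem inner (hg : g ∉ d.N) (hs : s ∈ cj g d.K ⊓ d.N) (o : orderOf s = 2) :
    ∃ g ∉ d.N, ∃ s ∈ cj g d.K, s ∈ d.K ⊔ d.A ∧ orderOf s = 2 := by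
  by_cases c : s ∈ d.K ⊔ d.A
  · exact ⟨g, hg, s, hs.1, c, o⟩
  obtain ⟨a, ha, ⟨e, -⟩⟩ := h.lang s hs.2 (mul_self_of_two o) c
  have hs' : a * s * a⁻¹ ∈ cj (a * g) d.K := H98.cj_cj a g d.K ▸ conj_mem_cj hs.1
  have hg' : a * g ∉ d.N := fun c => hg ((mul_mem_cancel_left (le_normalizer ha)).1 c)
  rw [← orderOf_conj' a] at o
  generalize a * s * a⁻¹ = s at e hs' o
  generalize a * g = g at hs' hg'
  have o1 := h.z_ord (one_ne_zero (α := F4))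
  have x4 : d.z 1 ∈ cj g d.K ⊔ cj g d.A := sqs_le h f (X := zpowers (d.u 1 1 0)) (zpowers_le.2
    (cen_le (te h) hs' o (Commute.symm (mul_inv_eq_iff_eq_mul.1 (by simpa using e 1 1 0)))))
    (subset_closure ⟨_, mem_zpowers _, by rw [← pow_two, h.hm.sq, one_mul]⟩)
  have e1 : d.z F4.w * s * (d.z F4.w)⁻¹ = d.z 1 * s := by
    have e2 : s * d.z F4.w = d.z F4.v * s := mul_inv_eq_iff_eq_mul.1 (e 0 0 F4.w)
    rw [inv_eq_of_mul_eq_one_right (h.z_sq _), mul_assoc, e2, ← mul_assoc, h.zz]; rfl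
  have x2 : d.z 1 * s ∈ cj (d.z F4.w * g) d.K := by rw [← H98.cj_cj, ← e1]; exact conj_mem_cj hs'
  by_cases c' : g⁻¹ * (d.z F4.w * g) ∈ d.N
  · refine ⟨g, hg', d.z 1, (mul_mem_cancel_right hs').1 ?_, mem_sup_right (h.uA ..), o1⟩
    rwa [← mul_inv_cancel_left g (d.z F4.w * g), ← H98.cj_cj, cj_eq_self ((nK h).le c')] at x2
  refine ⟨_, c', g⁻¹ * (d.z 1 * s) * g⁻¹⁻¹, H98.cj_cj g⁻¹ _ d.K ▸ conj_mem_cj x2, ?_, by
    rw [orderOf_conj', ← e1, orderOf_conj', o]⟩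
  rw [inv_inv, ← mem_cj, cj_sup]
  exact mul_mem x4 (mem_sup_left hs')

theorem noL : ¬ KI d.K (d.z 1) := by
  rintro ⟨o, g, hz⟩
  have t := te h
  have p := (dp h f).cj g
  have hD : d.D ≤ nor (cj g d.K) := fun x hx => cen_le t hz o (mc1.1 hx.2)
  have hQ : d.QA ≤ cj g d.K ⊔ cj g d.A := (QA h).trans (f.sqD.trans (sqs_le h f hD))
  by_cases c : d.QA ⊓ cj g d.K ≤ d.Z
  · obtain ⟨k₀, hk₀, ζ, hζ, e₀⟩ := p.dec (hQ ((f.memQ (d.z F4.w)).2 ⟨0, 0, _, 0, 0, by rw [h.v0, mul_one]⟩))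
    have c1 := p.card_pr hQ
    have c2 := card_le_of_le c
    have c3 := f.cl2 (cj g⁻¹ (cj g d.A ⊓ (d.QA ⊔ cj g d.K))) (le_cj_iff.1 inf_le_left) (g⁻¹ * ζ * g⁻¹⁻¹) (by
      rintro _ ⟨a, ha, rfl⟩
      obtain ⟨ha, k, hk, e⟩ := (p.mem_pr hQ).1 ha
      obtain ⟨a', b, c, s, t, e⟩ := (f.memQ _).1 e
      have e2 : k * k * (a * a) = d.z (a' * b + t * s) := by
        rw [← p.ml ha hk, ← e, mul_assoc, ← mul_assoc (d.v s t), ← (h.uv ..).eq, mul_assoc, ← mul_assoc,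
          ← pow_two, h.hm.sq, h.vv, F4.add_self, F4.add_self, h.v0, one_mul, h.zz]
      have kk := mul_mem hk hk
      have aa := mul_mem ha ha
      have : a * a = 1 ∨ a * a = ζ := by
        generalize a' * b + t * s = c at e2
        rcases c with _ | _ | _ | _
        · exact .inl (p.uq kk aa (one_mem _) (one_mem _) (e2.trans (h.z0.trans (mul_one _).symm))).2
        · exact .inl (p.uq kk aa hz (one_mem _) (e2.trans (mul_one _).symm)).2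
        · exact .inr (p.uq kk aa hk₀ hζ (e2.trans e₀)).2
        · exact .inr (p.uq kk aa (mul_mem hz hk₀) hζ (e2.trans (by rw [mul_assoc, ← e₀, h.zz]; rfl))).2
      rw [← map_mul]
      exact this.imp (fun e => by rw [e, map_one]) fun e => by rw [e]; rfl)
    rw [card_cj] at c3
    rw [h.card_Z] at c2
    rw [f.cardQ] at c1
    have := Nat.mul_le_mul c3 c2
    omega
  have hZ : d.z F4.w ∈ cj g d.K := by
    obtain ⟨y, hy, ny⟩ := SetLike.not_le_iff_exists.1 c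
    obtain ⟨a, b, e, s, t, rfl⟩ := (f.memQ _).1 hy.1
    have k1 : ∀ x y, d.z (x * b + y * a) ∈ cj g d.K := fun x y => by
      rw [← cmu h (k := d.v s t) (fun _ _ _ => (h.uv ..).symm) a b e, ← (h.uv ..).eq]
      exact mul_mem (cmn (hD (h.uD ..)) hy.2) (inv_mem hy.2)
    have k2 : ∀ x y, d.z (y * s + t * x) ∈ cj g d.K := fun x y => by
      rw [← cmv h (k := d.u a b e) (fun _ _ => h.uv ..) s t]
      exact mul_mem (cmn (hD (h.vD ..)) hy.2) (inv_mem hy.2)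
    by_cases ha : a = 0
    · by_cases hb : b = 0
      · by_cases hs : s = 0
        · by_cases ht : t = 0
          · exact absurd (by rw [ha, hb, hs, ht, h.v0, mul_one]; exact h.zZ e) ny
          · simpa [ht, mul_div_cancel₀] using k2 (F4.w / t) 0
        · simpa [hs] using k2 0 (F4.w / s)
      · simpa [hb] using k1 (F4.w / b) 0
    · simpa [ha] using k1 0 (F4.w / a)
  have hh : d.h ∈ nor (cj g d.K) := mem_nor t hz o (by rw [h.hz, mul_one]; exact hZ)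
  have hu := f.irr _ inf_le_left (le_normalizer_inf f.dQ hD) (le_normalizer_inf (H := zpowers d.h)
    (zpowers_le.2 (mem_normalizer_of_cj_le (by
      rintro _ ⟨x, hx, rfl⟩
      obtain ⟨a, b, e, s, t, rfl⟩ := (f.memQ _).1 hx
      exact (f.memQ _).2 ⟨_, _, _, _, _, by rw [map_mul, ← h.hu, ← h.hv]; rfl⟩))) (zpowers_le.2 hh)
      (mem_zpowers _)) c
  have hA := h.gen _ ((UD h).trans hD) ((closure_le _).2 (by rintro _ ⟨t, rfl⟩; exact hD (h.lD t)))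
    (mem_nor t hu.2 (by rw [← h.nz, orderOf_conj', o]) (by rw [h.nu]; exact hz)) (hD h.τD)
  have hK : d.A ≤ cj g d.K := by
    have := h.simple
    have n : ((cj g d.K).subgroupOf d.A).Normal :=
      ⟨fun x hx a => mem_subgroupOf.2 (cmn (hA a.2) (mem_subgroupOf.1 hx))⟩
    rcases n.eq_bot_or_eq_top with e | e
    · have : (⟨d.z 1, h.uA ..⟩ : d.A) ∈ (cj g d.K).subgroupOf d.A := hz
      rw [e, mem_bot, Subtype.ext_iff] at this
      exact absurd this (ne_one_of_two o)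
    · exact subgroupOf_eq_top.1 e
  refine h.std.2.2.1 g (fun e => ?_) (commutator_eq_bot_iff_le_centralizer.2
    (hK.trans (cj_centralizer g d.A).le))
  exact ne_one_of_two o (p.zk _ hz ((show cj g d.A = d.A from e).symm ▸ h.uA ..))

theorem noZ {e : F4} (k : d.z e ∈ cj g d.K) : e = 0 := by
  by_contra n
  have k0 : KI d.K (d.z e) := ⟨h.z_ord n, g, k⟩
  have k1 := KI.cj k0 d.h
  have k2 := KI.cj k1 d.h
  rw [h.hz] at k1 k2
  rw [h.hz] at k2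
  rcases e with _ | _ | _ | _
  exacts [n rfl, noL h f k0, noL h f k2, noL h f k1]

theorem Pair.ord (p : Pair d g k a) (ha : a ∈ d.A) (o : orderOf a = 2) : orderOf (k * a) = 2 :=
  orderOf_two_of_mul_self (by rw [(dp h f).ml ha p.kK, p.kk, mul_self_of_two o, one_mul]) fun e =>
    ne_one_of_two o ((dp h f).zk a (by rw [eq_inv_of_mul_eq_one_right e]; exact inv_mem p.kK) ha)

theorem decD (hx : x ∈ nor d.K) (hz : ∀ e, Commute x (d.z e)) : ∃ k ∈ d.K, ∃ a ∈ d.A, x = k * a :=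
  (dp h f).dec ((sup_le_sup_left inf_le_left _ : d.K ⊔ d.D ≤ _) (f.cz ⟨(nK h).ge hx, fun y hy => by
    obtain ⟨e, rfl⟩ := h.mem_Z.1 hy
    exact (hz e).eq.symm⟩))

theorem typeZ (hr : ¬ PRankLE 2 1 d.K) (q : Pair d g k (d.z 1)) : ∃ R r, GP d R r := by
  have t := te h
  have p := dp h f
  have hg : g ∉ nor d.K := nK h ▸ q.ng
  have QA' : d.QA ≤ d.A := (QA h).trans inf_le_left
  have two : IsPGroup 2 d.QA := f.sylA.isPGroup.to_le le_sup_left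
  have o := q.ord h f (h.uA ..) (h.z_ord one_ne_zero)
  obtain ⟨T, hT, sT, nT⟩ := exT t ⟨q.mem, mul_mem (le_normalizer q.kK) (AN h (h.uA ..))⟩ o two
    (QA'.trans (AN h)) fun x hx => (p.cm _ q.kK _ (QA' hx)).symm.mul_right (mc1.1 (QA h hx).2)
  have TA : T ⊓ d.A = ⊥ := by
    by_contra c
    obtain ⟨y, y1, y2, y3⟩ := fixpt two (hT.isPGroup.to_le inf_le_left)
      (le_normalizer_inf nT (le_normalizer_of_le QA')) c
    obtain ⟨e, rfl⟩ := h.mem_Z.1 (f.cQ ⟨y1.2, fun x hx => (y3 x hx).eq⟩)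
    exact ne_one_of_two y2 (noZ h f (hT.le y1.1).1 ▸ h.z0)
  have TK : T ⊓ d.K = ⊥ := eq_bot_of_no_involution (hT.isPGroup.to_le inf_le_left) fun y hy o =>
    ne_one_of_two o (ti t hg hy.2 (hT.le hy.1).1 (mul_self_of_two o))
  have dec : ∀ x ∈ T, ∃ k ∈ d.K, ∃ e, x = k * d.z e := fun x hx => by
    have c : ∀ y ∈ d.QA, Commute x y := fun y hy => by
      have := mem_inf.2 ⟨cmT (nT hy) hx, cmA (QA' hy) ((nK h).ge (hT.le hx).2)⟩
      rwa [TA, mem_bot, mul_inv_eq_one, mul_inv_eq_iff_eq_mul] at this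
    obtain ⟨k, hk, a, ha, rfl⟩ := decD h f (hT.le hx).2 fun e =>
      c _ ((f.memQ _).2 ⟨0, 0, e, 0, 0, by rw [h.v0, mul_one]⟩)
    obtain ⟨e, rfl⟩ := h.mem_Z.1 (f.cQ ⟨ha, fun y hy => by
      simpa using ((p.cm _ hk _ (QA' hy)).inv_left.mul_left (c y hy)).eq.symm⟩)
    exact ⟨k, hk, e, rfl⟩
  have TKA : T ≤ d.K ⊔ d.A := fun x hx => by
    obtain ⟨k, hk, e, rfl⟩ := dec x hx
    exact mul_mem (mem_sup_left hk) (mem_sup_right (h.uA ..))
  have hR := sylR t p hg hT TKA TA fun e => ne_one_of_two o (mem_bot.1 (e ▸ sT))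
  have mR : ∀ a, a ∈ d.K ⊓ (T ⊔ d.A) ↔ a ∈ d.K ∧ ∃ c, a * d.z c ∈ T := fun a => by
    rw [p.symm.mem_pr (sup_comm d.K d.A ▸ TKA)]
    refine and_congr_right fun ha => ⟨fun ⟨b, hb, e⟩ => ?_, fun ⟨c, e⟩ =>
      ⟨_, h.uA 0 0 c, (p.cm _ ha _ (h.uA ..)).eq ▸ e⟩⟩
    obtain ⟨k, hk, c, e'⟩ := dec _ e
    rw [← (p.cm _ ha _ hb).eq] at e e'
    exact ⟨c, by rwa [(p.uq ha hb hk (h.uA ..) e').2] at e⟩
  generalize d.K ⊓ (T ⊔ d.A) = R at hR mR
  have ml : ∀ a c, ∀ b ∈ d.K, ∀ c', a * d.z c ∈ T → b * d.z c' ∈ T → a * b * d.z (c + c') ∈ T :=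
    fun a c b hb c' e e' => by rw [← h.zz, ← p.ml (h.uA ..) hb]; exact mul_mem e e'
  have uq : ∀ a ∈ d.K, ∀ b ∈ d.K, ∀ c, a * d.z c ∈ T → b * d.z c ∈ T → a = b := fun a ha b hb c e e' =>
    mul_inv_eq_one.1 (mem_bot.1 (TK ▸ mem_inf.2 ⟨by simpa using mul_mem e (inv_mem e'),
      mul_mem ha (inv_mem hb)⟩))
  have p0 : 1 * d.z 0 ∈ T := by rw [h.z0, one_mul]; exact one_mem _
  have pw : ∃ a ∈ d.K, a * d.z F4.w ∈ T := by
    by_contra c
    refine (rank hr hR).not_ge (card_le_two (k := k) fun a ha => ?_)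
    obtain ⟨ha, e, he⟩ := (mR a).1 ha
    rcases e with _ | _ | _ | _
    exacts [.inl (uq _ ha _ (one_mem _) _ he p0), .inr (uq _ ha _ q.kK _ he sT), absurd ⟨a, ha, he⟩ c,
      absurd ⟨_, mul_mem ha q.kK, ml _ _ _ q.kK _ he sT⟩ c]
  have all : ∀ c, ∃ a ∈ d.K, a * d.z c ∈ T := fun c => by
    obtain ⟨a, ha, he⟩ := pw
    rcases c with _ | _ | _ | _
    exacts [⟨1, one_mem _, p0⟩, ⟨k, q.kK, sT⟩, ⟨a, ha, he⟩, ⟨_, mul_mem ha q.kK, ml _ _ _ q.kK _ he sT⟩]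
  choose r r1 r2 using all
  refine ⟨R, r, hR, fun x => (mR x).trans ⟨fun ⟨hx, c, e⟩ => ⟨c, uq _ (r1 c) _ hx c (r2 c) e⟩, ?_⟩,
    fun c c' => uq _ (r1 _) _ (mul_mem (r1 c) (r1 c')) _ (r2 _) (ml _ _ _ (r1 c') _ (r2 c) (r2 c')),
    fun c e => noZ h f (g := g) (by simpa [e] using (hT.le (r2 c)).1), noL h f, g, q.ng,
    fun c => (hT.le (r2 c)).1⟩
  rintro ⟨c, rfl⟩
  exact ⟨r1 c, c, r2 c⟩

theorem core (ha : a ∈ d.A) (h2 : ∃ n, a ^ 2 ^ n = 1) (c : ∀ x ∈ d.X ⊔ d.U, a * x * a⁻¹ * x⁻¹ ∈ d.X) :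
    a ∈ d.X ⊔ d.U := by
  obtain ⟨n, h2⟩ := h2
  have nr : ∀ Y, d.X ≤ Y → Y ≤ d.X ⊔ d.U → zpowers a ≤ nor Y := fun Y h1 h3 =>
    zpowers_le.2 (mem_normalizer_of_cj_le (by
      rintro _ ⟨x, hx, rfl⟩
      simpa using mul_mem (h1 (c x (h3 hx))) hx))
  obtain ⟨y, y1, y2, y3⟩ := fixpt (isPGroup_zpowers h2) ((f.sy 1 one_ne_zero).isPGroup.to_le le_sup_left)
    (nr _ le_rfl le_sup_left) fun e => one_ne_zero (h.inj 0 0 0 0 1 0 (by
      rw [h.hm.one, h.l0, one_mul, mul_one]; exact mem_bot.1 (e ▸ (mem_X h).2 ⟨1, rfl⟩))).2.2.2.2.1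
  obtain ⟨t, rfl⟩ := (mem_X h).1 y1
  exact (f.sy t fun e => ne_one_of_two y2 (e ▸ h.v0)).le_of_le_normalizer' (isPGroup_zpowers h2)
    (zpowers_le.2 ⟨ha, mc1.2 (y3 a (mem_zpowers a))⟩) (nr _ le_sup_left le_rfl) (mem_zpowers a)

theorem typeY (hr : ¬ PRankLE 2 1 d.K) (q : Pair d g k (d.v 0 1)) : ∃ g k a, d.Lg a ∧ Pair d g k a := by
  have t := te h
  have p := dp h f
  have p' := p.cj g
  have hg : g ∉ nor d.K := nK h ▸ q.ng
  have sy := f.sy 1 one_ne_zero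
  have SA : d.X ⊔ d.U ≤ d.A := sy.le.trans inf_le_left
  have o := q.ord h f (h.vA ..) (orderOf_two_of_mul_self (v_sq h 1) fun e =>
    one_ne_zero (h.inj 0 0 0 0 1 0 (by rw [h.hm.one, h.l0, one_mul, mul_one, e])).2.2.2.2.1)
  have cN : ∀ x ∈ d.A, Commute x (d.v 0 1) → x ∈ nor (cj g d.K) := fun x hx c =>
    cen_le t q.mem o ((p.cm _ q.kK _ hx).symm.mul_right c)
  have mS : ∀ x ∈ d.X ⊔ d.U, ∃ t a b e, x = d.v 0 t * d.u a b e := fun x hx => by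
    obtain ⟨y, hy, w, hw, rfl⟩ := (mem_sup_left_norm (fun y hy => centralizer_le_normalizer _ fun w hw => by
      obtain ⟨t, rfl⟩ := (mem_X h).1 hy
      obtain ⟨a, b, e, rfl⟩ := h.mem_U.1 hw
      exact (h.uv ..).eq)).1 hx
    obtain ⟨t, rfl⟩ := (mem_X h).1 hy
    obtain ⟨a, b, e, rfl⟩ := h.mem_U.1 hw
    exact ⟨_, _, _, _, rfl⟩
  have ab : ∀ k ∈ d.K, ∀ t a b e, k * d.v 0 t * d.u a b e ∈ cj g d.K → a = 0 ∧ b = 0 :=
    fun k hk t a b e m => by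
      have : ∀ x y, x * b + y * a = 0 := fun x y => noZ h f (g := g) (by
        rw [← cmu h (k := k * d.v 0 t) (fun _ _ _ => (p.cm _ hk _ (h.uA ..)).mul_left (h.uv ..).symm) a b e]
        exact mul_mem (cmn (cN _ (h.uA ..) (h.uv ..)) m) (inv_mem m))
      exact ⟨by simpa using this 0 1, by simpa using this 1 0⟩
  have mt : ∀ k ∈ d.K, ∀ x ∈ d.X ⊔ d.U, k * x ∈ cj g d.K → x ∈ d.X := fun k hk x hx m => by
    obtain ⟨t, a, b, e, rfl⟩ := mS x hx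
    rw [← mul_assoc] at m
    obtain ⟨rfl, rfl⟩ := ab k hk t a b e m
    have := cmn (cN _ h.mA (mul_inv_eq_iff_eq_mul.1 (h.mv 1))) m
    rw [← conj_mul, ← conj_mul, h.mv, h.mu, ← (p.cm _ hk _ h.mA).eq, mul_inv_cancel_right] at this
    rw [(ab k hk t 0 e 0 this).2, h.hm.one, mul_one]
    exact (mem_X h).2 ⟨t, rfl⟩
  obtain ⟨T, hT, sT, nT⟩ := exT t ⟨q.mem, mul_mem (le_normalizer q.kK) (AN h (h.vA ..))⟩ o sy.isPGroup
    (SA.trans (AN h)) fun x hx => (p.cm _ q.kK _ (SA hx)).symm.mul_right (mc1.1 (sy.le hx).2)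
  have t2 := isPGroup_iff_forall.1 hT.isPGroup
  have TA : T ⊓ d.A ≤ d.X := by
    have n := le_normalizer_inf nT (le_normalizer_of_le SA)
    have TS : ∀ x ∈ T, x ∈ d.X ⊔ d.U → x ∈ d.X := fun x h1 h2 =>
      mt 1 (one_mem _) x h2 (by rw [one_mul]; exact (hT.le h1).1)
    refine fun x hx => TS x hx.1 ?_
    by_contra c
    obtain ⟨y, ⟨y1, y2⟩, y3⟩ := SetLike.exists_of_lt (lt_inf_normalizer
      (sy.isPGroup.to_sup_of_normal_right' (hT.isPGroup.to_le inf_le_left) n)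
      (le_sup_left.lt_of_ne fun e => c (e.ge (mem_sup_right hx))))
    obtain ⟨σ, hσ, y, hy, rfl⟩ := (mem_sup_left_norm n).1 y1
    replace y2 := (mul_mem_cancel_left (le_normalizer hσ)).1 y2
    exact y3 (mul_mem hσ (core h f hy.2 (t2 y hy.1) fun x hx => TS _ (cmT (nT hx) hy.1) (cmA hx y2)))
  have TK : T ⊓ d.K = ⊥ := eq_bot_of_no_involution (hT.isPGroup.to_le inf_le_left) fun y hy o =>
    ne_one_of_two o (ti t hg hy.2 (hT.le hy.1).1 (mul_self_of_two o))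
  have dec : ∀ x ∈ T, ∃ k ∈ d.K, ∃ c, x = k * d.v 0 c := fun x hx => by
    have c : ∀ y ∈ d.X ⊔ d.U, x * y * x⁻¹ * y⁻¹ ∈ d.X := fun y hy =>
      TA ⟨cmT (nT hy) hx, cmA (SA hy) ((nK h).ge (hT.le hx).2)⟩
    obtain ⟨k, hk, a, ha, rfl⟩ := decD h f (hT.le hx).2 fun e => by
      obtain ⟨c, e1⟩ := (mem_X h).1 (c _ (mem_sup_right (uU h e 1 0)))
      have e2 := congrArg (· ^ 2) (mul_eq_of_eq_mul_inv e1)
      simp only [conj_pow] at e2
      rw [(h.uv ..).symm.mul_pow, pow_two (d.v 0 c), v_sq h, one_mul, h.hm.sq, mul_one] at e2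
      exact mul_inv_eq_iff_eq_mul.1 e2.symm
    obtain ⟨n, hn⟩ := t2 _ hx
    obtain ⟨c', rfl⟩ := (mem_X h).1 (mt k hk a (core h f ha ⟨n, (p.pw hk ha hn).2⟩ fun y hy => by
      have := c y hy
      rwa [mul_inv_rev, ← mul_assoc, mul_assoc k, mul_assoc k,
        (p.cm _ hk _ (cmn (le_normalizer ha) (SA hy))).eq, mul_inv_cancel_right] at this) (hT.le hx).1)
    exact ⟨k, hk, c', rfl⟩
  have vc : ∀ c, Commute (d.v 0 c) (d.v 0 1) := fun c => by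
    rw [Commute, SemiconjBy, v_mul h, v_mul h, add_comm]
  obtain ⟨R, hR, nR⟩ : ∃ R, IsSyl 2 R d.K ∧ R ≤ nor (cj g d.K) := by
    by_cases c : T ⊓ d.A = ⊥
    · have TKA : T ≤ d.K ⊔ d.A := fun x hx => by
        obtain ⟨k, hk, e, rfl⟩ := dec x hx
        exact mul_mem (mem_sup_left hk) (mem_sup_right (h.vA ..))
      refine ⟨_, sylR t p hg hT TKA c fun e => ne_one_of_two o (mem_bot.1 (e ▸ sT)), fun a ha => ?_⟩
      obtain ⟨ha, b, hb, e⟩ := (p.symm.mem_pr (sup_comm d.K d.A ▸ TKA)).1 ha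
      obtain ⟨k, hk, c, e'⟩ := dec _ e
      have := (p.uq ha hb hk (h.vA ..) ((p.cm _ ha _ hb).eq.trans e')).2
      exact (mul_mem_cancel_left (this ▸ cN _ (h.vA ..) (vc c))).1 (le_normalizer (hT.le e).1)
    · obtain ⟨y, hy, oy⟩ := H88.exists_involution_of_isPGroup (hT.isPGroup.to_le inf_le_left) c
      obtain ⟨R, hR, -⟩ := exists_isSyl_le (IsPGroup.of_bot (p := 2)) (bot_le : ⊥ ≤ d.K)
      exact ⟨R, hR, fun a ha => cen_le t (hT.le hy.1).1 oy (p.cm _ (hR.le ha) _ hy.2)⟩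
  have cR := sym t hg hT (le_inf hR.le nR) hR.isPGroup
  obtain ⟨k₂, hk₂, a₂, ha₂, e₂⟩ := p'.dec (sqs_le h f (X := d.A ⊓ cen d.X) (fun x hx => cN x hx.1
    (Commute.symm (hx.2 _ ((mem_X h).2 ⟨1, rfl⟩)))) (f.sqX (uU h 1 1 0)))
  have b2 : d.u 1 1 0 * d.u 1 1 0 = d.z 1 := by rw [← pow_two, h.hm.sq, one_mul]
  obtain ⟨b3, b4⟩ := p'.pw hk₂ ha₂ (n := 2 ^ 2) (by
    rw [← e₂, pow_two 2, pow_mul, pow_two (d.u 1 1 0), b2, pow_two, h.z_sq])
  have kT : k₂ ∈ T := by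
    have n : zpowers k₂ ≤ nor T := zpowers_le.2 (centralizer_le_normalizer _ fun x hx => by
      refine (p'.cmm hk₂ ha₂ (hT.le hx).1 (one_mem _) ?_).1.eq.symm
      obtain ⟨k, hk, c, rfl⟩ := dec x hx
      rw [← e₂, mul_one]
      exact (p.cm _ hk _ (h.uA ..)).symm.mul_right (h.uv ..))
    have := (hR.cj g).card_le ((isPGroup_zpowers b3).to_sup_of_normal_right' hT.isPGroup n)
      (sup_le (zpowers_le.2 hk₂) (hT.le.trans inf_le_left))
    rw [card_cj] at this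
    exact (eq_of_le_of_card_ge le_sup_right (this.trans cR)).ge (mem_sup_left (mem_zpowers _))
  have a2 : a₂ * a₂ = d.z 1 := by
    obtain ⟨k, hk, c, e⟩ := dec _ kT
    have e3 : k₂ * k₂ = k * k := by rw [e, p.ml (h.vA ..) hk, v_sq h, mul_one]
    rw [← b2, e₂, p'.ml ha₂ hk₂, show k₂ * k₂ = 1 from mem_bot.1 (TK ▸ mem_inf.2
      ⟨mul_mem kT kT, e3 ▸ mul_mem hk hk⟩), one_mul]
  obtain ⟨ρ, ⟨r1, r2⟩, oρ⟩ := H88.exists_involution_of_isPGroup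
    (hR.isPGroup.to_le (inf_le_left (b := cj g d.K ⊔ cj g d.A))) fun e => by
      have z : ∀ a ∈ R, a ∈ cj g d.K ⊔ cj g d.A → a = 1 := fun a h1 h2 => mem_bot.1 (e ▸ mem_inf.2 ⟨h1, h2⟩)
      by_cases c : ∃ b ∈ R, b ≠ 1
      · obtain ⟨b, hb, nb⟩ := c
        refine (rank hr hR).not_ge (card_le_two (k := b⁻¹) fun a ha => ?_)
        rcases out2 h f g (nR ha) (nR hb) with m | m | m
        exacts [.inl (z a ha m), absurd (z b hb m) nb, .inr (eq_inv_of_mul_eq_one_left (z _ (mul_mem ha hb) m))]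
      · exact (rank hr hR).not_ge (card_le_two (k := 1) fun a ha => .inl (by_contra fun n => c ⟨a, ha, n⟩))
  have rK := hR.le r1
  have rr := mul_self_of_two oρ
  obtain ⟨k₁, hk₁, a₁, ha₁, rfl⟩ := p'.dec r2
  obtain ⟨kk, aa⟩ := p'.sq hk₁ ha₁ rr
  have oa : orderOf (g⁻¹ * a₁ * g⁻¹⁻¹) = 2 := (orderOf_conj' ..).trans (orderOf_two_of_mul_self aa fun e => by
    rw [e, mul_one] at rK oρ
    exact ne_one_of_two oρ (ti t hg rK hk₁ kk))
  rw [inv_inv] at oa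
  rcases f.shc _ (mem_cj.1 ha₁) oa with l | l
  · refine ⟨g⁻¹, g⁻¹ * k₁ * g, _, l, fun e => q.ng (inv_mem_iff.1 e), mem_cj.1 hk₁, ?_, ?_⟩
    · calc _ = g⁻¹ * (k₁ * k₁) * g := by group
        _ = 1 := by rw [kk]; group
    · convert conj_mem_cj (g := g⁻¹) rK using 1
      group
  obtain ⟨c, hc, e⟩ := l _ (mem_cj.1 ha₂) (by
    simpa using (p'.cmm hk₂ ha₂ hk₁ ha₁ (e₂ ▸ (p.cm _ rK _ (h.uA ..)).symm)).2.map (MulAut.conj g⁻¹)) (by
      have := conj_pow (a := g⁻¹) (b := a₂) (i := 2 ^ 2)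
      rwa [b4, mul_one, mul_inv_cancel, inv_inv] at this)
  have e' : g * c * g⁻¹ * (k₁ * a₁) * (g * c * g⁻¹)⁻¹ = k₁ * a₁ * d.z 1 := by
    rw [← mul_assoc, ← (p'.cm _ hk₁ _ (conj_mem_cj hc)).eq, ← a2]
    calc _ = k₁ * (g * (c * (g⁻¹ * a₁ * g) * c⁻¹) * g⁻¹) := by group
      _ = _ := by rw [e, pow_two]; group
  refine ⟨g * c * g⁻¹, _, _, ⟨1, one_mem _, by simp⟩, fun n => ?_, rK, rr, e' ▸ conj_mem_cj rK⟩
  exact ne_one_of_two (h.z_ord one_ne_zero) (p.zk _ ((mul_mem_cancel_left rK).1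
    (e' ▸ cmn ((nK h).le n) rK)) (h.uA ..))

end

theorem jobGP : JobGP.{u} := by
  rintro G _ _ d h f hr ⟨g, hg, s, hs, o⟩
  obtain ⟨g, hg, s, hs, hi, o⟩ := inner h f hg hs o
  obtain ⟨k, hk, a, ha, rfl⟩ := (dp h f).dec hi
  obtain ⟨kk, aa⟩ := (dp h f).sq hk ha (mul_self_of_two o)
  have q : Pair d g k a := ⟨hg, hk, kk, hs⟩
  have : ∃ g k a, d.Lg a ∧ Pair d g k a := by
    rcases f.cls a ha (orderOf_two_of_mul_self aa fun c => by
      rw [c, mul_one] at hs o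
      exact ne_one_of_two o (ti (te h) (nK h ▸ hg) hk hs kk)) with l | ⟨c, hc, rfl⟩
    exacts [⟨g, k, a, l, q⟩, typeY h f hr (q.cj hc)]
  obtain ⟨g, k, _, ⟨c, hc, rfl⟩, q⟩ := this
  exact typeZ h f hr (q.cj hc)

end H39.CG
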