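import Cfsg.Agent.H20.DGSpec
import Mathlib.GroupTheory.Transfer

/-! Tower DG (S3579), slot CY1: the Sylow subgroup is cyclic and has a normal complement in the
centraliser of `A`. -/

set_option autoImplicit false

namespace H39.DgCY1

open Subgroup MulAction Cfsg H98 H20.DG

universe u v

theorem jobCY1 : JobCY1.{u, v} := by
  intro G Ω _ _ _ _ p q P A O h c hA
  have : Fact p.Prime := ⟨h.pp⟩
  have cP : Nat.card P = p ^ 2 := by
    rw [← relIndex_bot_left, ← relIndex_mul_relIndex ⊥ A P bot_le c.le, relIndex_bot_left, hA, c.idx,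
      sq]
  have cm : ∀ a ∈ P, ∀ b ∈ P, a * b = b * a := fun a ha b hb => congrArg Subtype.val
    ((IsPGroup.isMulCommutative_of_card_eq_prime_sq cP).is_comm.comm (⟨a, ha⟩ : P) ⟨b, hb⟩)
  have mA : ∀ a ∈ P, a ^ p = 1 → a ∈ A := fun a ha e => by
    refine c.w (zpowers a) (zpowers_le.2 ha) ⟨fun x hx y hy => cm x (zpowers_le.2 ha hx) y
      (zpowers_le.2 ha hy), ?_⟩ (cP ▸ Nat.le_mul_of_pos_right _ Nat.card_pos) (mem_zpowers a)
    rintro _ ⟨i, rfl⟩
    exact (zpow_natCast _ p).symm.trans (by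
      rw [← zpow_mul, mul_comm, zpow_mul, zpow_natCast, e, one_zpow])
  have cy : IsCyclic P := by
    by_contra n
    have e := (not_isCyclic_iff_exponent_eq_prime h.pp cP).1 n
    have := card_le_of_le (show P ≤ A from fun a ha => mA a ha
      (congrArg Subtype.val (e ▸ Monoid.pow_exponent_eq_one (⟨a, ha⟩ : P))))
    rw [cP, hA] at this
    have := h.three
    nlinarith
  have PC : P ≤ Cn A := fun a ha b hb => cm b (c.le hb) a ha
  have sy := c.syl.of_le PC le_top
  obtain ⟨S, hS⟩ := sy.exists_sylow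
  have key : ∀ n ∈ Cn A, n ∈ normalizer (P : Set G) → n ∈ Cn P := fun n h1 h2 => by
    obtain ⟨k, m, hm, e⟩ := Nat.exists_eq_pow_mul_and_not_dvd (orderOf_pos n).ne' p h.pp.ne_one
    have e1 : n ^ m ∈ Cn P := fun b hb => cm b hb _ (sy.le_of_le_normalizer'
      (isPGroup_zpowers (x := n ^ m) (k := k) (by rw [← pow_mul, mul_comm, ← e, pow_orderOf_eq_one]))
      (zpowers_le.2 (pow_mem h1 m)) (zpowers_le.2 (pow_mem h2 m)) (mem_zpowers _))
    have e2 : n ^ p ∈ Cn P := fun x hx => by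
      have hx' := conj_mem_of_mem_normalizer h2 hx
      have xA : x ^ p ∈ A := mA _ (pow_mem hx p) (by
        rw [← pow_mul, ← sq, ← cP]
        exact congrArg Subtype.val (pow_card_eq_one' (x := (⟨x, hx⟩ : P))))
      have a1 : (n * x * n⁻¹ * x⁻¹) ^ p = 1 := by
        rw [Commute.mul_pow (cm _ hx' _ (inv_mem hx)), conj_pow, ← h1 _ xA, inv_pow]
        group
      have a2 := h1 _ (mA _ (mul_mem hx' (inv_mem hx)) a1)
      generalize ha : n * x * n⁻¹ * x⁻¹ = a at a1 a2
      have a3 : ∀ i : ℕ, n ^ i * x = a ^ i * x * n ^ i := fun i => by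
        induction i with
        | zero => simp
        | succ i ih =>
          calc n ^ (i + 1) * x = n * (a ^ i * x * n ^ i) := by rw [pow_succ', mul_assoc, ih]
            _ = (n * a ^ i) * x * n ^ i := by group
            _ = a ^ i * (n * x * n⁻¹ * x⁻¹) * x * (n * n ^ i) := by
              rw [← (Commute.pow_left a2 i).eq]; group
            _ = _ := by rw [ha, ← pow_succ, ← pow_succ']
      rw [a3, a1, one_mul]
    have e3 := Nat.gcd_eq_gcd_ab p m
    rw [(h.pp.coprime_iff_not_dvd.2 hm).gcd_eq_one, Nat.cast_one] at e3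
    rw [← zpow_one n, e3, zpow_add, zpow_mul, zpow_mul, zpow_natCast, zpow_natCast]
    exact mul_mem (zpow_mem e2 _) (zpow_mem e1 _)
  have hn : normalizer (S : Set (Cn A)) ≤ centralizer (S : Set (Cn A)) := fun n hn b hb => by
    have mem : ∀ b : Cn A, b ∈ (S : Set (Cn A)) ↔ (b : G) ∈ P := fun b => SetLike.ext_iff.1 hS b
    refine Subtype.ext (key n n.2 (mem_normalizer_of_cj_le ?_) b ((mem b).1 hb))
    rintro _ ⟨x, hx, rfl⟩
    exact (mem _).1 ((hn ⟨x, PC hx⟩).1 ((mem _).2 hx))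
  have cS : Nat.card S = p ^ 2 := by
    rw [← cP]
    exact hS ▸ Nat.card_congr (subgroupOfEquivOfLe PC).toEquiv
  have cyS : IsCyclic S := hS ▸ isCyclic_of_surjective _ (subgroupOfEquivOfLe PC).symm.surjective
  have : NeZero (p ^ 2) := ⟨(pow_pos h.pp.pos 2).ne'⟩
  let e : S ≃* Multiplicative (ZMod (p ^ 2)) := mulEquivOfCyclicCardEq (by simp [cS])
  refine ⟨cy, cP, PC, e.toMonoidHom.comp (MonoidHom.transferSylow S hn), e.surjective.comp fun y => ?_,
    ?_⟩
  · obtain ⟨x, rfl⟩ := (S.2.powEquiv' S.not_dvd_index).surjective y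
    exact ⟨x, congrFun (MonoidHom.transferSylow_domRestrict_eq_pow S hn) x⟩
  · rw [← MonoidHom.comap_ker, (MonoidHom.ker_eq_bot_iff _).2 e.injective]
    exact MonoidHom.not_dvd_card_ker_transferSylow S hn

end H39.DgCY1
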