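import Cfsg.Agent.H92.DP0BSpec

/-! S3275, chapter U0, section B, slot B3: a proper overgroup of `E` that contains a `3³`. -/

set_option autoImplicit false

namespace H39.DpB3

open Subgroup Cfsg H98 H48.DP H57.DPC H48.DP2 H92.DPB

universe u

theorem jobB3 : JobB3.{u} := fun iso G _ _ M Q P x z v r h H B hH EH hB BH => by
  have : Fact (Nat.Prime 3) := ⟨Nat.prime_three⟩
  have xz : Commute x z := (mem_centralizer_singleton_iff.1 (h.Pz h.xP))
  obtain ⟨el, c9⟩ := e9 h.x3 h.z3 xz h.xz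
  set E := zpowers x ⊔ zpowers z
  have xE : x ∈ E := mem_sup_left (mem_zpowers x)
  have zE : z ∈ E := mem_sup_right (mem_zpowers z)
  obtain ⟨g₀, -, h0⟩ := (isSyl_sylow P).exists_cj_le (el_pg hB.1) le_top
  have h1 : cj g₀ H ≤ M := h.loc _ _ (fun e => hH (cj_inj.1 (e.trans (cj_top g₀).symm)))
    (e27_cj hB g₀) (le_inf (cj_mono g₀ BH) (h0.trans h.PM))
  obtain ⟨m, hm, h2⟩ := (isSyl_sylow_of_le P h.PM).exists_cj_le (isPGroup_cj g₀ (el_pg el))
    ((cj_mono g₀ EH).trans h1)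
  have h3 := cj_le_of_le_of_mem h1 hm
  rw [cj_cj] at h2 h3
  generalize m * g₀ = g at h2 h3
  have om : ∀ c ∈ Ce (cj g E), c ^ 3 = 1 → c ∈ cj g E := fun c hc c3 => by
    have hc := mem_cj.1 ((cj_centralizer g E).ge hc)
    refine mem_cj.2 (h.om _ (hc x xE).symm (hc z zE).symm ?_)
    rw [show g⁻¹ * c * g = g⁻¹ * c * g⁻¹⁻¹ by rw [inv_inv], conj_pow, c3, mul_one, mul_inv_cancel]
  have zE' : z ∈ cj g E := om z (fun a ha => mem_centralizer_singleton_iff.1 (h.Pz (h2 ha)))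
    (h.z3 ▸ pow_orderOf_eq_one z)
  obtain ⟨y, yE, yz⟩ : ∃ y ∈ cj g E, y ∉ zpowers z := by
    by_contra c
    push Not at c
    have := card_le_of_le (show cj g E ≤ zpowers z from c)
    rw [card_cj, c9, Nat.card_zpowers, h.z3] at this
    omega
  have y3 : orderOf y = 3 := orderOf_eq_prime ((el_cj el g).2 y yE) fun e => yz (e ▸ one_mem _)
  have e : zpowers y ⊔ zpowers z = cj g E := eq_of_le_of_card_ge
    (sup_le (zpowers_le.2 yE) (zpowers_le.2 zE'))
    (by rw [card_cj, c9, (e9 y3 h.z3 (el_comm (el_cj el g) yE zE') yz).2])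
  have I := iso G M Q P y z h.toUa h.PM (h2 yE) h.zP h.Pz y3 h.z3 yz (by
    rintro ⟨D, -, hD, h4⟩
    rw [e] at h4
    have := hD.2.trans (card_le_of_le (show D ≤ cj g E from fun c hc =>
      om c (fun a ha => el_comm hD.1 (h4 ha) hc) (hD.1.2 c hc)))
    rw [card_cj, c9] at this
    omega)
  refine ⟨cj g⁻¹ Q, isPGroup_cj _ (h.o2 ▸ isPGroup_pCoreOf M), fun X h4 h5 h6 => cj_le_iff.1 ?_⟩
  have h7 := (cj_mono g h6).trans (cj_normalizer g X).le
  exact I _ ((cj_mono g h4).trans h3) (isPGroup_cj g h5) (h7 yE) (h7 zE')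

end H39.DpB3
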