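import Cfsg.Agent.H48.DC4Spec
import Cfsg.Agent.H48.DP3Kit
import Cfsg.Agent.H73.DpA27

/-! S3275, chapter C4, slot VN: `Ω₁(Z(Q))` has order two. -/

set_option autoImplicit false

namespace H39.DpVN

open Subgroup Cfsg H98 H48.DP H57.DPC H48.DP2
open scoped commutatorElement

universe u

/-- An automorphism of order three that passes to the quotient induces an inner one. -/
theorem inner {L Λ : Type*} [Group L] [Group Λ] [Finite Λ] (ha : Aut3 Λ) (nd : ND Λ) (f : L →* Λ)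
    (hf : Function.Surjective f) (α : L →* L) (h3 : ∀ l, α (α (α l)) = l)
    (hk : f.ker ≤ (f.comp α).ker) : ∃ m : Λ, ∀ l, f (α l) = m * f l * m⁻¹ := by
  let β : Λ →* Λ := f.liftOfSurjective hf ⟨f.comp α, hk⟩
  have hβ : ∀ l, β (f l) = f (α l) := fun l => f.liftOfRightInverse_comp_apply _ _ _ l
  have h3' : ∀ x, β (β (β x)) = x := fun x => by
    obtain ⟨l, rfl⟩ := hf x
    rw [hβ, hβ, hβ, h3]
  have hs : Function.Surjective β := fun x => ⟨_, h3' x⟩
  rcases ha (MulEquiv.ofBijective β (Finite.injective_iff_bijective.1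
    (Finite.injective_iff_surjective.2 hs))) with ⟨m, e⟩ | ⟨x, m, hp, h3x, e⟩
  · exact ⟨m, fun l => (hβ l).symm.trans (DFunLike.congr_fun e (f l))⟩
  have e : β x = m * x⁻¹ * m⁻¹ := e
  have e2 := h3' x
  simp only [e, map_mul, map_inv] at e2
  refine (nd.not_real hp h3x rfl (g := (β (β m) * β m * m)⁻¹) ?_).elim
  conv_lhs => rw [← e2]
  group

variable {G : Type u} [Group G] [Finite G]

theorem idx_le {B V : Subgroup G} (h : B ≤ No V) {v : G} (hv : v ∈ V) :
    (C1 v).relIndex B ≤ Nat.card V := by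
  refine Nat.card_le_card_of_injective (fun q : B ⧸ (C1 v).subgroupOf B =>
    (⟨q.out * v * (q.out : G)⁻¹, conj_mem_of_mem_normalizer (h q.out.2) hv⟩ : V)) fun a b e => ?_
  rw [← QuotientGroup.out_eq' a, ← QuotientGroup.out_eq' b, QuotientGroup.eq]
  have e : (a.out : G) * v * (a.out : G)⁻¹ = b.out * v * (b.out : G)⁻¹ := congrArg Subtype.val e
  refine mem_C1.2 (?_ : v * ((a.out : G)⁻¹ * b.out) = (a.out : G)⁻¹ * b.out * v)
  calc v * ((a.out : G)⁻¹ * b.out) = (a.out : G)⁻¹ * (a.out * v * (a.out : G)⁻¹) * b.out := by group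
    _ = _ := by rw [e]; group

omit [Finite G] in
theorem card_eq (A B : Subgroup G) : Nat.card B = Nat.card ↥(A ⊓ B) * A.relIndex B := by
  rw [← relIndex_bot_left (H := B), ← relIndex_bot_left (H := A ⊓ B), ← inf_relIndex_right A B,
    relIndex_mul_relIndex _ _ _ bot_le inf_le_right]

omit [Finite G] in
theorem pOm (X : Subgroup G) : IsPGroup 2 (Om X) := fun g =>
  ⟨1, Subtype.ext (by simpa [sq] using g.2.2.2)⟩

theorem noOm (X : Subgroup G) : No X ≤ No (Om X) := fun g hg =>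
  mem_normalizer_of_cj_le (by
    rintro _ ⟨v, hv, rfl⟩
    refine ⟨conj_mem_of_mem_normalizer hg hv.1, conj_mem_of_mem_normalizer
      (normalizer_le_normalizer_centralizer X hg) hv.2.1, ?_⟩
    change g * v * g⁻¹ * (g * v * g⁻¹) = 1
    rw [show g * v * g⁻¹ * (g * v * g⁻¹) = g * (v * v) * g⁻¹ by group, hv.2.2]
    group)

theorem om_ne {X : Subgroup G} (hX : IsPGroup 2 X) (h : X ≠ ⊥) : Om X ≠ ⊥ := by
  have : Fact (Nat.Prime 2) := ⟨Nat.prime_two⟩
  have : Nontrivial X := (nontrivial_iff_ne_bot X).2 h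
  have := hX.center_nontrivial
  obtain ⟨k, hk0, hk⟩ := (hX.to_subgroup (center X)).nontrivial_iff_card.1 this
  obtain ⟨t, ht⟩ := exists_prime_orderOf_dvd_card' (G := center X) 2 (hk ▸ dvd_pow_self 2 hk0.ne')
  have h1 : orderOf ((t : X) : G) = 2 := by rw [orderOf_coe, orderOf_coe, ht]
  intro e
  have : ((t : X) : G) ∈ Om X := ⟨t.1.2, fun x hx => congrArg Subtype.val (mem_center_iff.1 t.2 ⟨x, hx⟩),
    by rw [← sq, ← h1, pow_orderOf_eq_one]⟩
  rw [e, mem_bot] at this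
  simp [this] at h1

variable {M Q J L : Subgroup G} {y z u : G}

omit [Finite G] in
theorem QM (h : Ba M Q J L y z u) : Q ≤ M := h.bd.no ▸ le_normalizer

omit [Finite G] in
theorem q2 (h : Ba M Q J L y z u) : IsPGroup 2 Q := h.bd.o2 ▸ isPGroup_pCoreOf M

theorem c1_le (n : G) : C1 n ≤ No (zpowers n) := fun g hg => mem_normalizer_of_cj_le (by
  rw [cj, MonoidHom.map_zpowers, zpowers_le]
  change g * n * g⁻¹ ∈ zpowers n
  rw [← mem_C1.1 hg, mul_inv_cancel_right]
  exact mem_zpowers n)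

omit [Finite G] in
theorem ye (h : Ba M Q J L y z u) (uz : z * u = u * z) : y = u * (y * z * z) * u⁻¹ :=
  calc y = y * z ^ 3 := by rw [pow_three_of h.bd.z3, mul_one]
    _ = u * y * u⁻¹ * (z * (z * u) * u⁻¹) := by
      rw [h.bd.uy, pow_three]; simp only [mul_assoc, mul_inv_cancel, mul_one]
    _ = u * y * u⁻¹ * ((z * u) * z * u⁻¹) := by rw [uz, ← mul_assoc z, uz]
    _ = _ := by rw [uz]; group

omit [Finite G] in
theorem nle (h : Ba M Q J L y z u) {K : Subgroup G} (hK : K ≤ M) : ¬ L ≤ J ⊔ K := fun e =>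
  h.lt.out (e.trans (sup_le (h.lt.JQ.trans (QM h)) hK))

/-- `u` does not move `L` into the normaliser of `J`. -/
theorem caseA (h : Ba M Q J L y z u) (huM : u ∈ M) (hzM : z ∈ M) (uz : z * u = u * z)
    (hL : cj u L ≤ No J) : False := by
  obtain ⟨f, z', hf, hk, rfl, f7, -, -⟩ := h.md
  obtain ⟨A, hA, zA, hAB, -⟩ := f7.oth
  have : Fact (Nat.Prime 2) := ⟨Nat.prime_two⟩
  have e := ye h uz
  have key : ∀ S : Subgroup G, J ≤ S → S ≤ L → IsPGroup 2 S → (z' : G) ∈ No S → cj u S ≤ L := by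
    intro S h1 h2 h3 h4
    refine h.lt.two _ ((cj_mono u h2).trans hL) (isPGroup_cj u h3) ?_
    have : y ∈ No S := mem_normalizer_of_cj_le (by
      rintro _ ⟨s, hs, rfl⟩
      have := mul_mem (h1 (h.lt.yL s (h2 hs))) hs
      rwa [commutatorElement_def, inv_mul_cancel_right] at this)
    exact (cj_normalizer u S).le (e ▸ conj_mem_cj (mul_mem (mul_mem this h4) h4))
  have kJ : f.ker.map L.subtype = J := by rw [hk, subgroupOf_map_subtype, inf_eq_left.2 h.lt.JL]
  have gen : L ≤ (A.comap f).map L.subtype ⊔ Q ⊓ L := by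
    have : A.comap f ⊔ (Q ⊓ L).subgroupOf L = ⊤ := by
      rw [← comap_map_eq_self (f := f) (H := (Q ⊓ L).subgroupOf L) (hk ▸ fun a ha =>
        ⟨h.lt.JQ ha, a.2⟩), comap_sup_eq_of_le_range f (f.range_eq_top.2 hf ▸ le_top)
        (f.range_eq_top.2 hf ▸ le_top), hAB, comap_top]
    have e2 := congrArg (map L.subtype) this
    rw [Subgroup.map_sup, subgroupOf_map_subtype, ← MonoidHom.range_eq_map, range_subtype] at e2
    exact e2.ge.trans (sup_le_sup_left inf_le_left _)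
  have uL : u ∈ No L := mem_normalizer_of_cj_le ((cj_mono u gen).trans (by
    rw [cj_sup]
    refine sup_le (key _ (kJ ▸ map_mono (ker_le_comap f A)) (map_subtype_le _) ?_ ?_)
      (key _ (le_inf h.lt.JQ h.lt.JL) inf_le_right (q2 h).to_inf_left ?_)
    · exact ((IsPGroup.of_card (n := 2) hA).comap_of_ker_isPGroup f
        (hk ▸ h.j2.comap_subtype)).map _
    · exact map_le_normalizer_map L.subtype (comap_le_normalizer_comap f le_rfl) ⟨z', zA, rfl⟩
    · exact le_normalizer_inf (H := zpowers (z' : G)) (zpowers_le.2 (h.bd.no.ge hzM))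
        (zpowers_le.2 (le_normalizer z'.2)) (mem_zpowers _)))
  have uJ : cj u J ≤ J := (h.sim _ (cj_le_of_le h.lt.JL uL) ((cj_eq_self uL).ge.trans
    ((cj_mono u h.lt.LN).trans (cj_normalizer u J).le))).resolve_right (nle h (cj_le_of_le_of_mem (h.lt.JQ.trans (QM h)) huM))
  refine h.zc fun l hl => ?_
  have h1 := uJ (conj_mem_cj (g := u) (h.lt.yL _ (conj_mem_of_mem_normalizer' uL hl)))
  have h2 := conj_mem_of_mem_normalizer' h.lt.yN (mul_mem h1 (inv_mem (h.lt.yL l hl)))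
  convert h2 using 1
  rw [show (z' : G) = y⁻¹ * (u * y * u⁻¹) by rw [h.bd.uy]; group]
  simp only [commutatorElement_def]
  group

/-- No element of an elementary group of order 27 over `z` outside `⟨z⟩` normalises `J`. -/
theorem caseB (h : Ba M Q J L y z u) {B : Subgroup G} (hB : E27 B) (BM : B ≤ M) (zB : z ∈ B)
    {a : G} (aB : a ∈ B) (aJ : a ∈ No J) : a ∈ zpowers z := by
  by_contra az
  obtain ⟨f, z', hf, hk, rfl, f7, -, -⟩ := h.md
  have : Fact (Nat.Prime 3) := ⟨Nat.prime_three⟩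
  have aL := h.lt.nor aJ
  let α : L →* L := MonoidHom.mk' (fun l => ⟨a * l * a⁻¹, conj_mem_of_mem_normalizer aL l.2⟩)
    fun l l' => Subtype.ext (by simp)
  have hα : ∀ l, (α l : G) = a * l * a⁻¹ := fun _ => rfl
  obtain ⟨m, hm⟩ := inner H73.DpA27.aut ((h.bd.nd.sub L).of_surjective f hf) f hf α
    (fun l => Subtype.ext (by
      rw [hα, hα, hα, show a * (a * (a * l * a⁻¹) * a⁻¹) * a⁻¹ = a ^ 3 * l * (a ^ 3)⁻¹ by
        rw [pow_three]; group, hB.1.2 a aB]
      simp)) fun l hl => by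
      rw [hk] at hl
      change α l ∈ f.ker
      rw [hk]
      exact conj_mem_of_mem_normalizer aJ hl
  have c : a * z' = z' * a := congrArg Subtype.val (hB.1.1.is_comm.comm (⟨a, aB⟩ : B) ⟨z', zB⟩)
  have m1 : m ∈ zpowers (f z') := by
    have := hm z'
    rw [show α z' = z' from Subtype.ext (by rw [hα, c]; group)] at this
    exact f7.cz ▸ mem_C1.2 (eq_mul_inv_iff_mul_eq.1 this)
  obtain ⟨i, rfl⟩ := m1
  have bB : a⁻¹ * z' ^ i ∈ B := mul_mem (inv_mem aB) (zpow_mem zB i)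
  have b3 : orderOf (a⁻¹ * z' ^ i) = 3 := orderOf_eq_prime (hB.1.2 _ bB) fun e =>
    az ⟨i, (inv_mul_eq_one.1 e).symm⟩
  refine h.lt.out fun l hl => ?_
  obtain ⟨n, hn, e⟩ := cop_dec (A := L) h.j2 b3 ⟨mul_mem (inv_mem aJ) (zpow_mem (h.lt.LN z'.2) i),
    fun c hc => by
      have h1 : α ⟨c, hc⟩ * (z' ^ i * ⟨c, hc⟩ * (z' ^ i)⁻¹)⁻¹ ∈ f.ker := by
        rw [MonoidHom.mem_ker, map_mul, hm]
        simp
      rw [hk] at h1
      have h2 := conj_mem_of_mem_normalizer' aJ h1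
      convert h2 using 1
      simp only [commutatorElement_def, coe_subtype, coe_mul, coe_inv, coe_zpow, hα]
      group⟩ hl
  have := h.bd.tg _ _ b3 ⟨B, hB, bB⟩ (BM bB) (by
    rw [← mem_C1.1 e, mul_inv_cancel_right]; exact BM bB)
  exact (mul_mem_cancel_left (QM h (h.lt.JQ hn))).1 this

theorem jobVN : JVN.{u} := fun G _ _ M Q J L y z u h off vz f2 => by
  obtain ⟨P, PM, yP, zP, uP, Pz, -⟩ := h.bd.syl
  classical
  have MV : M ≤ No (Om Q) := h.bd.no ▸ noOm Q
  have V0 := om_ne (q2 h) h.bd.nt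
  have VM := h.nM _ (pOm Q) V0 MV
  have VJ : Om Q ≤ Om J := fun v hv =>
    ⟨h.cJ (centralizer_anti h.lt.JQ hv.2.1), centralizer_anti h.lt.JQ hv.2.1, hv.2.2⟩
  have i2 : (Ce L).relIndex (Om Q) ≤ 2 := (relIndex_le_of_le_right (le_inf (le_inf VJ
    fun v hv => centralizer_anti inf_le_left hv.2.1) vz) (relIndex_ne_zero' _ _)).trans f2
  have two : ∀ K : Subgroup G, K ≤ Om Q → K ≠ ⊥ → Nat.card K ≤ 2 →
      ∃ n, orderOf n = 2 ∧ K = zpowers n := fun K h1 h2 h3 => by
    obtain ⟨n, hn, n1⟩ := (K.bot_or_exists_ne_one).resolve_left h2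
    have : Fact (Nat.Prime 2) := ⟨Nat.prime_two⟩
    have o : orderOf n = 2 := orderOf_eq_prime (by rw [sq, (h1 hn).2.2]) n1
    exact ⟨n, o, (eq_of_le_of_card_ge (zpowers_le.2 hn) (by rw [Nat.card_zpowers, o]; exact h3)).symm⟩
  have cV := card_eq (Ce L) (Om Q)
  by_cases h0 : Ce L ⊓ Om Q = ⊥
  · rw [h0, card_bot, one_mul] at cV
    obtain ⟨n, o, e⟩ := two _ le_rfl V0 (cV ▸ i2)
    refine ⟨n, off, f2, o, e, le_antisymm (fun g hg => VM ?_) fun g hg => mem_C1.2 ?_,
      VJ (e ▸ mem_zpowers n)⟩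
    · exact e ▸ c1_le n hg
    · have h1 := conj_mem_of_mem_normalizer (MV hg) (e ▸ mem_zpowers n)
      rw [e, mem_zpowers_iff_mem_range_orderOf, o, Finset.mem_image] at h1
      obtain ⟨i, hi, e2⟩ := h1
      rw [Finset.mem_range] at hi
      interval_cases i
      · rw [pow_zero, eq_comm, mul_inv_eq_one, mul_eq_left] at e2
        simp [e2] at o
      · rw [pow_one] at e2
        exact eq_mul_inv_iff_mul_eq.1 e2
  exfalso
  have uq : ∀ N : Subgroup G, N ≤ Ce L ⊓ Om Q → N ≠ ⊥ → y ∈ No N → No N ≤ No J :=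
    fun N h1 h2 h3 => h.lt.uniq N ((pOm Q).to_le (h1.trans inf_le_right)) h2
      (le_normalizer_of_le_centralizer (le_centralizer_iff.1 (h1.trans inf_le_left))) h3
  have nV : No L ⊓ M ≤ No (Ce L ⊓ Om Q) := le_normalizer_inf
    (inf_le_left.trans (normalizer_le_normalizer_centralizer L)) (inf_le_right.trans MV)
  have yV := nV ⟨h.yL', PM yP⟩
  have uz := mem_C1.1 (Pz uP)
  by_cases h1 : Ce L ⊓ Om Q ⊓ cj u (Ce L ⊓ Om Q) = ⊥
  swap
  · refine caseA h (PM uP) (PM zP) uz (le_trans ?_ (uq _ inf_le_left h1 ?_))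
    · refine le_normalizer_of_le_centralizer (le_centralizer_iff.1 (inf_le_right.trans ?_))
      rw [← cj_centralizer]
      exact cj_mono u inf_le_left
    · refine le_normalizer_inf (H := zpowers y) (zpowers_le.2 yV) (zpowers_le.2 ?_) (mem_zpowers y)
      have zV := nV ⟨le_normalizer h.lt.zL, PM zP⟩
      exact (cj_normalizer u _).le (ye h uz ▸ conj_mem_cj (mul_mem (mul_mem yV zV) zV))
  have uV : cj u (Ce L ⊓ Om Q) ≤ Om Q := cj_le_of_le inf_le_right (MV (PM uP))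
  have c2 : Nat.card ↥(Ce L ⊓ Om Q) ≤ 2 := by
    have := card_eq (Ce L) (cj u (Ce L ⊓ Om Q))
    rw [card_cj, show Ce L ⊓ cj u (Ce L ⊓ Om Q) = ⊥ by
      rw [← h1, inf_assoc, inf_eq_right.2 uV], card_bot, one_mul] at this
    exact this ▸ (relIndex_le_of_le_right uV (relIndex_ne_zero' _ _)).trans i2
  obtain ⟨v, -, e⟩ := two _ inf_le_right h0 c2
  obtain ⟨B, BM, hB, hU⟩ := h.bd.uU
  have i4 := (idx_le (BM.trans MV) (e.ge (mem_zpowers v)).2).trans
    (cV.le.trans (Nat.mul_le_mul c2 i2))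
  have c3 : Nat.card ↥(C1 v ⊓ B) ≤ 3 := by
    rw [← h.bd.z3, ← Nat.card_zpowers]
    refine card_le_of_le fun a ha => caseB h hB BM (hU (le_sup_left (b := zpowers u)
      (mem_zpowers z))) ha.2 (uq _ le_rfl h0 yV (e ▸ c1_le v ha.1))
  have := (hB.2.trans (card_eq (C1 v) B).le).trans (Nat.mul_le_mul c3 i4)
  omega

end H39.DpVN
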