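import Cfsg.Agent.H39.E6Spec
import Cfsg.Agent.H33.F22A

/-! Row S3337: the structure of `C(z)` when `O₂(C(z) / Q) = Q₈ × Q₈ × Q₈`. -/

set_option autoImplicit false

open Cfsg Subgroup H98 H42.L3 H56.L3 H39.F22 H7.PS H33.F22
open H28.PS (SL3)
open scoped commutatorElement

namespace H39.E6

universe u

variable {G : Type*} [Group G] {z s t c x : G} {Q A K : Subgroup G} {ε δ : ZMod 3}

/-- the eigenspace of `s` for `ε` -/
def Ev (h : Bs z Q) (s : G) (ε : ZMod 3) : Subgroup G where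
  carrier := {x | x ∈ Q ∧ s * x * s⁻¹ ∈ Q ∧ ∀ y ∈ Q, bf z (s * x * s⁻¹) y = ε * bf z x y}
  one_mem' := ⟨one_mem _, by simp, fun y hy => by simp [h.zL (one_mem _) hy]⟩
  mul_mem' := fun {a b} ha hb => ⟨mul_mem ha.1 hb.1, by
    rw [← conj_mul]; exact mul_mem ha.2.1 hb.2.1, fun y hy => by
    rw [← conj_mul, h.mulL ha.2.1 hb.2.1 hy, ha.2.2 y hy, hb.2.2 y hy, h.mulL ha.1 hb.1 hy]; ring⟩
  inv_mem' := fun {a} ha => ⟨inv_mem ha.1, by
    rw [← conj_inv]; exact inv_mem ha.2.1, fun y hy => by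
    rw [← conj_inv, h.invL ha.2.1 hy, ha.2.2 y hy, h.invL ha.1 hy]; ring⟩

variable (h : Bs z Q)
include h

theorem bf_mv (hc : c ∈ Ce z ⊓ nr Q) (hx : x ∈ Q) {y : G} (hy : y ∈ Q) :
    bf z (c * x * c⁻¹) y = bf z x (c⁻¹ * y * c) := by
  rw [← h.conj hc.1 hx (conj_mem_of_mem_normalizer' hc.2 hy)]
  congr 1
  group

theorem z_Ev (hs : s ∈ Ce z) : zpowers z ≤ Ev h s ε := zpowers_le.2 ⟨h.zmem,
  (mem_Ce'.1 hs).symm ▸ h.zmem, fun y hy => by rw [mem_Ce'.1 hs, h.zL (mem_zpowers z) hy, mul_zero]⟩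

theorem Ev_mul (hs : s ∈ Ce z ⊓ nr Q) (h1 : x ∈ Ev h s ε) (h2 : x ∈ Ev h t δ) :
    x ∈ Ev h (s * t) (ε * δ) := by
  have e : s * t * x * (s * t)⁻¹ = s * (t * x * t⁻¹) * s⁻¹ := by group
  refine ⟨h1.1, e ▸ conj_mem_of_mem_normalizer hs.2 h2.2.1, fun y hy => ?_⟩
  rw [e, bf_mv h hs h2.2.1 hy, h2.2.2 _ (conj_mem_of_mem_normalizer' hs.2 hy), ← bf_mv h hs h1.1 hy,
    h1.2.2 y hy]
  ring

theorem nr_Ev [Finite G] (hc : c ∈ Ce z ⊓ nr Q) (e : s * c = c * s) : c ∈ nr (Ev h s ε) :=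
  mem_normalizer_of_cj_le (by
    rintro _ ⟨x, hx, rfl⟩
    have e' : s * (c * x * c⁻¹) * s⁻¹ = c * (s * x * s⁻¹) * c⁻¹ := by
      rw [← mul_assoc, ← mul_assoc, e, mul_assoc (c * s * x), ← mul_inv_rev, e]; group
    refine ⟨conj_mem_of_mem_normalizer hc.2 hx.1, e' ▸ conj_mem_of_mem_normalizer hc.2 hx.2.1,
      fun y hy => ?_⟩
    change bf z (s * (c * x * c⁻¹) * s⁻¹) y = ε * bf z (c * x * c⁻¹) y
    rw [e', bf_mv h hc hx.2.1 hy, hx.2.2 _ (conj_mem_of_mem_normalizer' hc.2 hy), bf_mv h hc hx.1 hy])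

theorem Ev_orth (hs : s ∈ Ce z) {y : G} (hx : x ∈ Ev h s ε) (hy : y ∈ Ev h s δ) (e : ε * δ = -1) :
    x * y = y * x := by
  have h1 := h.conj hs hx.1 hy.1
  rw [hx.2.2 _ hy.2.1, h.skew hy.2.1 hx.1, hy.2.2 _ hx.1, h.skew hx.1 hy.1] at h1
  have h3 : (3 : ZMod 3) = 0 := rfl
  have : bf z x y = 0 := by linear_combination h1 + bf z x y * h3 - bf z x y * e
  rw [h.spec hx.1 hy.1, this, zp_zero, one_mul]

theorem Ev_dec (hA : A ≤ Q) (hs : s ∈ nr A) (h2 : s * s = 1)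
    (k : ∀ b : Bool, A ⊓ Ev h s (cond b (-1) 1) ≤ K) : A ≤ K := fun x hx => by
  have hx' := conj_mem_of_mem_normalizer hs hx
  have e : s * (s * x * s⁻¹) * s⁻¹ = x := by
    rw [show s * (s * x * s⁻¹) * s⁻¹ = (s * s) * x * (s * s)⁻¹ by group, h2]; group
  have h3 : (3 : ZMod 3) = 0 := rfl
  have m1 := mul_mem hx' (inv_mem hx)
  have m2 := mul_mem (mul_mem hx (inv_mem hx')) hx
  rw [show x = s * x * s⁻¹ * x⁻¹ * (x * (s * x * s⁻¹)⁻¹ * x) by group]
  refine mul_mem (k true ⟨m1, hA m1, hA (conj_mem_of_mem_normalizer hs m1), fun y hy => ?_⟩)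
    (k false ⟨m2, hA m2, hA (conj_mem_of_mem_normalizer hs m2), fun y hy => ?_⟩)
  · rw [← conj_mul, ← conj_inv, e, h.mulL (hA hx) (inv_mem (hA hx')) hy,
      h.mulL (hA hx') (inv_mem (hA hx)) hy, h.invL (hA hx) hy, h.invL (hA hx') hy]
    simp
  · rw [← conj_mul, ← conj_mul, ← conj_inv, e, h.mulL (hA m1) (hA hx') hy,
      h.mulL (hA (mul_mem hx (inv_mem hx'))) (hA hx) hy, h.mulL (hA hx) (inv_mem (hA hx')) hy,
      h.mulL (hA hx') (inv_mem (hA hx)) hy, h.invL (hA hx) hy, h.invL (hA hx') hy, cond_false]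
    linear_combination (bf z (s * x * s⁻¹) y - bf z x y) * h3

variable (cen : cn Q ≤ zpowers z)
include cen

theorem nondeg (hx : x ∈ Q) (e : ∀ y ∈ Q, bf z x y = 0) : x ∈ zpowers z := cen fun y hy => by
  rw [h.spec hx hy, e y hy, zp_zero, one_mul]

theorem Ev_one (hx : x ∈ Ev h s 1) : s * x * s⁻¹ * x⁻¹ ∈ zpowers z :=
  nondeg h cen (mul_mem hx.2.1 (inv_mem hx.1)) fun y hy => by
    rw [h.mulL hx.2.1 (inv_mem hx.1) hy, h.invL hx.1 hy, hx.2.2 y hy]; ring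

theorem Ev_neg (hx : x ∈ Ev h s (-1)) : s * x * s⁻¹ * x ∈ zpowers z :=
  nondeg h cen (mul_mem hx.2.1 hx.1) fun y hy => by
    rw [h.mulL hx.2.1 hx.1 hy, hx.2.2 y hy]; ring

theorem Ev_triv (hc : s ∈ Ce z) (h2 : s * s = 1) (e : Q ≤ Ev h s 1) : s = 1 := by
  have f : ∀ {u : G}, u * u = 1 → u ^ 4 = 1 := fun k => by
    rw [show (4 : ℕ) = 2 * 2 from rfl, pow_mul, pow_two, pow_two, k, one_mul]
  refine eq_one_of_four h.ord (cen fun x hx => ?_) (f h2)
  have h1 := Ev_one h cen (e hx)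
  have := eq_one_of_four h.ord h1 (f (by
    nth_rw 1 [← mul_inv_eq_iff_eq_mul.2 (comm_of_mem hc h1)]
    rw [show s * (s * x * s⁻¹ * x⁻¹) * s⁻¹ * (s * x * s⁻¹ * x⁻¹) = s * s * x * (s * s)⁻¹ * x⁻¹ by group,
      h2]
    group))
  rw [mul_inv_eq_one, mul_inv_eq_iff_eq_mul] at this
  exact this.symm

omit h cen

abbrev Q3 := QuaternionGroup 2 × QuaternionGroup 2 × QuaternionGroup 2

def pl (a : QuaternionGroup 2) (i : Fin 3) : Q3 := ![(a, 1, 1), (1, a, 1), (1, 1, a)] i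

theorem q3_rel : (∀ i p, pl (.a 2) i * p = p * pl (.a 2) i) ∧ (∀ p : Q3, p ^ 4 = 1) ∧
    (∀ i, pl (.a 2) i * pl (.a 2) i = 1 ∧ pl (.a 1) i * pl (.a 1) i = pl (.a 2) i ∧
      pl (.a 1) i * pl (.xa 0) i = pl (.a 2) i * (pl (.xa 0) i * pl (.a 1) i) ∧ ∀ j, i ≠ j →
        pl (.a 1) i * pl (.a 1) j = pl (.a 1) j * pl (.a 1) i ∧
        pl (.xa 0) i * pl (.a 1) j = pl (.a 1) j * pl (.xa 0) i) ∧ ∀ a b c : Bool,
    cond a (pl (.a 2) 0) 1 * cond b (pl (.a 2) 1) 1 * cond c (pl (.a 2) 2) 1 = 1 →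
      (a || b || c) = false := by decide +kernel

theorem sl_two : ∀ A B C : SL3, A * B = -1 * (B * A) → A * A = -1 → A * C = C * A →
    B * C = C * B → C * C ≠ -1 := by decide +kernel

theorem sg_ne : ∀ a b : Bool, a ≠ b → cond b (-1 : ZMod 3) 1 * cond a (-1) 1 = -1 := by decide

theorem comb : ∀ S : Bool → Bool → Bool → Bool, (∀ a b c : Bool, (a || b || c) = true → ∃ x y w,
    S x y w ∧ cond (a && x) (-1 : ZMod 3) 1 * cond (b && y) (-1) 1 * cond (c && w) (-1) 1 ≠ 1) →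
    ∃ u : Fin 3 → Bool × Bool × Bool, Function.Injective u ∧ ∀ i, S (u i).1 (u i).2.1 (u i).2.2 ∧
      ((u i).1 || (u i).2.1 || (u i).2.2) = true := by decide +kernel

theorem comb2 : ∀ u : Fin 3 → Fin 3 → Bool, Function.Injective u → (∀ k, u k ≠ fun _ => false) →
    (∀ k i j, i ≠ j → u k i → u k j → False) → ∀ i, ∃ k, u k = fun j => decide (j = i) := by
  decide +kernel

include h cen in
theorem exists_D [Finite G] (h3 : IsPGroup 3 Q) (card : Nat.card Q = 3 ^ 7) (π : Q3 →* G)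
    (hi : Function.Injective π) (hπ : ∀ p, π p ∈ Ce z ⊓ nr Q) :
    ∃ D : D3 G, H0 D ∧ D.z = z ∧ D.QQ = Q ∧ (∀ p, π p ∈ D.B) ∧
      ∀ i, ∃ p, D.m i (π p) = -1 ∧ ∀ j, j ≠ i → D.m j (π p) = 1 := by
  classical
  have : Fact (Nat.Prime 3) := ⟨Nat.prime_three⟩
  obtain ⟨r1, -, r3, r4⟩ := q3_rel
  let s := fun i => π (pl (.a 2) i)
  let V : (Fin 3 → Bool) → Subgroup G := fun ε => ⨅ i, Ev h (s i) (cond (ε i) (-1) 1)
  have nE : ∀ p i ε, π p ∈ nr (Ev h (s i) ε) := fun p i ε =>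
    nr_Ev h (hπ p) (by rw [← map_mul, r1, map_mul])
  have ss : ∀ i, s i * s i = 1 := fun i => by rw [← map_mul, (r3 i).1, map_one]
  have VQ : ∀ ε, V ε ≤ Q := fun ε x hx => (mem_iInf.1 hx 0).1
  have zV : ∀ ε, zpowers z ≤ V ε := fun ε => le_iInf fun i => z_Ev h (hπ _).1
  have nV : ∀ p ε, π p ∈ Ce z ⊓ nr (V ε) := fun p ε => ⟨(hπ p).1, mem_normalizer_of_cj_le (by
    rintro _ ⟨x, hx, rfl⟩
    exact mem_iInf.2 fun i => conj_mem_of_mem_normalizer (nE p i _) (mem_iInf.1 hx i))⟩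
  have all : ∀ K, (∀ ε, V ε ≤ K) → Q ≤ K := fun K k =>
    Ev_dec h le_rfl (hπ _).2 (ss 0) fun a => Ev_dec h inf_le_left
      (inf_normalizer_le_normalizer_inf ⟨(hπ _).2, nE _ _ _⟩) (ss 1) fun b =>
        Ev_dec h (inf_le_left.trans inf_le_left) (inf_normalizer_le_normalizer_inf
          ⟨inf_normalizer_le_normalizer_inf ⟨(hπ _).2, nE _ _ _⟩, nE _ _ _⟩) (ss 2) fun c x hx =>
          k ![a, b, c] (mem_iInf.2 fun i => by fin_cases i; exacts [hx.1.1.2, hx.1.2, hx.2])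
  have VV : ∀ ε ε', ε ≠ ε' → V ε ≤ cn (V ε') := fun ε ε' e x hx y hy => by
    obtain ⟨i, e⟩ := Function.ne_iff.1 e
    exact Ev_orth h (hπ _).1 (mem_iInf.1 hy i) (mem_iInf.1 hx i) (sg_ne _ _ e)
  have Vc : ∀ ε, V ε ⊓ cn (V ε) ≤ zpowers z := fun ε x hx => cen fun y hy =>
    mem_Ce.1 (all (Ce x) (fun ε' y hy => mem_Ce.2 (by
      by_cases e : ε = ε'
      exacts [hx.2 y (e ▸ hy), VV ε ε' e hx.1 y hy])) hy)
  have nc : ∀ ε, ¬ V ε ≤ zpowers z → ¬ V ε ≤ cn (V ε) := fun ε n e => n ((le_inf le_rfl e).trans (Vc ε))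
  have big : ∀ ε, ¬ V ε ≤ zpowers z → 27 ≤ Nat.card (V ε) := fun ε n => by
    obtain ⟨k, hk⟩ := (h3.to_le (VQ ε)).exists_card_eq
    have : IsMulCommutative (V ε) → False := fun c => nc ε n fun x hx y hy =>
      congrArg Subtype.val (c.is_comm.comm ⟨y, hy⟩ ⟨x, hx⟩)
    rw [hk]
    refine Nat.pow_le_pow_right (n := 3) (by decide) (show 3 ≤ k from not_lt.1 fun e => this ?_)
    interval_cases k
    · have := (Nat.card_eq_one_iff_unique.1 hk).1
      exact ⟨⟨fun _ _ => Subsingleton.elim _ _⟩⟩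
    · exact (isCyclic_of_prime_card (p := 3) hk).isMulCommutative
    · exact IsPGroup.isMulCommutative_of_card_eq_prime_sq hk
  have cnt : ∀ u : Fin 3 → Fin 3 → Bool, Function.Injective u → (∀ k, ¬ V (u k) ≤ zpowers z) →
      (∀ k, Nat.card (V (u k)) = 27) ∧ V (u 0) ⊔ V (u 1) ⊔ V (u 2) = Q := fun u hu n => by
    have c1 := VV _ _ (hu.ne (by decide : (0 : Fin 3) ≠ 1))
    have c2 := sup_le (VV _ _ (hu.ne (by decide : (0 : Fin 3) ≠ 2)))
      (VV _ _ (hu.ne (by decide : (1 : Fin 3) ≠ 2)))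
    have h1 := H12.card_sup_mul_card_inf (le_normalizer_of_le_centralizer c1)
    have h2 := H12.card_sup_mul_card_inf (le_normalizer_of_le_centralizer c2)
    rw [le_antisymm ((le_inf inf_le_right (inf_le_left.trans c1)).trans (Vc _))
      (le_inf (zV _) (zV _))] at h1
    rw [le_antisymm ((le_inf inf_le_right (inf_le_left.trans c2)).trans (Vc _))
      (le_inf (le_sup_of_le_left (zV _)) (zV _))] at h2
    have le := sup_le (sup_le (VQ (u 0)) (VQ (u 1))) (VQ (u 2))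
    have h4 := card_le_of_le le
    have b0 := big _ (n 0)
    have b1 := big _ (n 1)
    have b2 := big _ (n 2)
    rw [Nat.card_zpowers, h.ord] at h1 h2
    rw [card] at h4
    have e0 : Nat.card (V (u 0)) = 27 := by nlinarith
    have e1 : Nat.card (V (u 1)) = 27 := by nlinarith
    have e2 : Nat.card (V (u 2)) = 27 := by nlinarith
    rw [e0, e1] at h1
    rw [e2] at h2
    exact ⟨fun k => by fin_cases k; exacts [e0, e1, e2], eq_of_le_of_card_ge le (by omega)⟩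
  have co : ∀ ε, ¬ V ε ≤ zpowers z → Nat.card (V ε) = 27 → ∃ l m, Co z (V ε) l m ∧
      ∀ i, m (s i) = cond (ε i) (-1) 1 := fun ε n c => by
    obtain ⟨l, m, k⟩ := Bs.co ⟨h.ord, zV ε (mem_zpowers z), (VQ ε).trans h.le,
      fun x hx y hy => h.comm x (VQ ε hx) y (VQ ε hy)⟩ c (nc ε n)
    refine ⟨l, m, k, fun i => ?_⟩
    have := fun a (ha : a ∈ V ε) => mem_iInf.1 ha i
    cases e : ε i <;> rw [e] at this
    exacts [(m_one_iff k (nV _ ε)).2 fun a ha => Ev_one h cen (this a ha),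
      (m_neg_iff k (nV _ ε)).2 fun a ha => Ev_neg h cen (this a ha)]
  obtain ⟨u, hu, k⟩ := comb (fun a b c => decide (¬ V ![a, b, c] ≤ zpowers z)) fun a b c e => by
    by_contra! n
    have m : ∀ (a : Bool) i, π (cond a (pl (.a 2) i) 1) ∈ Ce z ⊓ nr Q := fun _ _ => hπ _
    have sq : ∀ p : Q3, (∀ q, p * q = q * p) → p * p = 1 := by decide +kernel
    have ce : ∀ (a : Bool) i q, cond a (pl (.a 2) i) 1 * q = q * cond a (pl (.a 2) i) 1 :=
      fun a i q => by cases a; exacts [by simp, r1 i q]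
    refine absurd (r4 a b c (hi ((Ev_triv h cen (hπ _).1 (by
      rw [← map_mul, sq _ fun q => ((Commute.mul_left (ce a 0 q) (ce b 1 q)).mul_left (ce c 2 q)).eq,
        map_one]) (all _ fun ε => ?_)).trans π.map_one.symm))) (by simp [e])
    by_cases f : V ε ≤ zpowers z
    · exact f.trans (z_Ev h (hπ _).1)
    have e3 : ε = ![ε 0, ε 1, ε 2] := funext fun i => by fin_cases i <;> rfl
    intro x hx
    have k : ∀ (a : Bool) i, x ∈ Ev h (π (cond a (pl (.a 2) i) 1)) (cond (a && ε i) (-1) 1) :=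
      fun a i => by
        cases a
        exacts [⟨VQ ε hx, by simpa using VQ ε hx, by simp⟩, mem_iInf.1 hx i]
    rw [← n (ε 0) (ε 1) (ε 2) (decide_eq_true (e3 ▸ f)), map_mul, map_mul]
    exact Ev_mul h (mul_mem (m _ _) (m _ _)) (Ev_mul h (m _ _) (k a 0) (k b 1)) (k c 2)
  let v : Fin 3 → Fin 3 → Bool := fun k => ![(u k).1, (u k).2.1, (u k).2.2]
  have hv : Function.Injective v := fun a b e => hu (Prod.ext (congrFun e 0)
    (Prod.ext (congrFun e 1) (congrFun e 2)))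
  have n : ∀ k, ¬ V (v k) ≤ zpowers z := fun a => of_decide_eq_true (k a).1
  let w : Fin 3 → Fin 3 → Bool := fun i j => decide (j = i)
  have n' : ∀ i, ¬ V (w i) ≤ zpowers z := fun i => by
    obtain ⟨a, e⟩ := comb2 v hv (fun a e => by
      have := (k a).2
      rw [show (u a).1 = false from congrFun e 0, show (u a).2.1 = false from congrFun e 1,
        show (u a).2.2 = false from congrFun e 2] at this
      exact absurd this (by decide)) (fun a i j e ei ej => by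
        obtain ⟨l, m, c, f⟩ := co _ (n a) ((cnt v hv n).1 a)
        have mm : ∀ p q, m (π (p * q)) = m (π p) * m (π q) := fun p q => by
          rw [map_mul, c.m_mul _ (nV p _) _ (nV q _)]
        have f1 : m (π (pl (.a 2) i)) = -1 := (f i).trans (by rw [ei]; rfl)
        have f2 : m (π (pl (.a 2) j)) = -1 := (f j).trans (by rw [ej]; rfl)
        exact sl_two (m (π (pl (.a 1) i))) (m (π (pl (.xa 0) i))) (m (π (pl (.a 1) j)))
          (by rw [← mm, (r3 i).2.2.1, mm, mm, f1]) (by rw [← mm, (r3 i).2.1, f1])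
          (by rw [← mm, ((r3 i).2.2.2 j e).1, mm]) (by rw [← mm, ((r3 i).2.2.2 j e).2, mm])
          (by rw [← mm, (r3 j).2.1, f2])) i
    exact (show v a = w i from e) ▸ n a
  have hw : Function.Injective w := by decide
  obtain ⟨c1, c2⟩ := cnt w hw n'
  choose l m c3 c4 using fun i => co _ (n' i) (c1 i)
  have B : ∀ p, π p ∈ D3.B ⟨z, fun i => V (w i), l, m⟩ := fun p =>
    mem_B.2 ⟨(hπ p).1, fun i => (nV p _).2⟩
  have ng : ∀ i, m i (s i) = -1 ∧ ∀ j, j ≠ i → m j (s i) = 1 := fun i =>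
    ⟨by simp [c4, w], fun j e => by simp [c4, w, e.symm]⟩
  exact ⟨⟨z, fun i => V (w i), l, m⟩, ⟨c3, fun i j e => VV _ _ (hw.ne e), (centralizer_le c2.ge).trans cen,
    fun i => ⟨_, B _, ng i⟩⟩, rfl, c2, B, fun i => ⟨_, ng i⟩⟩

/-- from the hypotheses of row S3337 -/
theorem jobA6 [Finite G] (H : Subgroup G) (Q : Subgroup H) (hQ : Q = generalizedFittingSubgroup H)
    [Q.Normal] (hX : IsExtraspecial 3 Q) (hc : Nat.card Q = 3 ^ 7)
    (hZ : (center Q).map Q.subtype = center H) (e : pCore 2 (H ⧸ Q) ≃* Q3) (Z : Subgroup G)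
    (hZ' : Z = (center H).map H.subtype) (hH : H = centralizer (Z : Set G)) (S : Sylow 3 G)
    (hZS : Z ≤ S) (hW : ¬ IsWeaklyClosed Z S) : ∃ D : D3 G, H3 D ∧ Full D ∧ zpowers D.z = Z ∧
      D.QQ = (pCore 3 H).map H.subtype ∧ NW D.z (Ce D.z) := by
  obtain ⟨z, ho, rfl⟩ : ∃ z, orderOf z = 3 ∧ Z = zpowers z := by
    have c3 : Nat.card Z = 3 := by
      rw [hZ', card_map_of_injective (subtype_injective _), ← hZ,
        card_map_of_injective (subtype_injective _), hX.2]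
    obtain ⟨z, e⟩ := exists_prime_orderOf_dvd_card' (G := Z) 3 c3.symm.dvd
    have e' : orderOf (z : G) = 3 := by rw [orderOf_coe, e]
    exact ⟨z, e', (eq_of_le_of_card_ge (zpowers_le.2 z.2) (by rw [c3, Nat.card_zpowers, e'])).symm⟩
  obtain rfl : H = Ce z := by rw [hH, zpowers_eq_closure, centralizer_closure]
  have hZm : ∀ c : Ce z, c ∈ center (Ce z) ↔ (c : G) ∈ zpowers z := fun c => by
    rw [hZ']; exact (mem_map_iff_mem (subtype_injective _)).symm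
  have hz0 : (⟨z, mem_Ce.2 rfl⟩ : Ce z) ∈ Q := by
    obtain ⟨y, -, e⟩ := hZ.ge ((hZm ⟨z, mem_Ce.2 rfl⟩).2 (mem_zpowers z))
    exact e ▸ y.2
  have mQ : ∀ x : Ce z, (x : G) ∈ Q.map (Ce z).subtype ↔ x ∈ Q := fun x =>
    mem_map_iff_mem (subtype_injective _)
  have bs : Bs z (Q.map (Ce z).subtype) := by
    refine ⟨ho, ⟨_, hz0, rfl⟩, map_subtype_le _, ?_⟩
    rintro _ ⟨x, hx, rfl⟩ _ ⟨y, hy, rfl⟩
    obtain ⟨k, hk⟩ := exists_zp ho ((hZm ⁅x, y⁆).1 (hZ.le ⟨⁅(⟨x, hx⟩ : Q), ⟨y, hy⟩⁆, by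
      rw [← hX.1.2.2]; exact commutator_mem_commutator (mem_top _) (mem_top _), rfl⟩))
    refine ⟨k, ?_⟩
    rw [← hk]
    simp only [commutatorElement_def, coe_mul, coe_inv, coe_subtype]
    group
  have cen : cn (Q.map (Ce z).subtype) ≤ zpowers z := fun c hc => by
    have hc' : c ∈ Ce z := mem_Ce.2 (hc z bs.zmem).symm
    have h1 : (⟨c, hc'⟩ : Ce z) ∈ Q := hQ.ge (H14.centralizer_fstar_le fun x hx =>
      Subtype.ext (hc x ((mQ x).2 (hQ.ge hx))))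
    exact (hZm ⟨c, hc'⟩).1 (hZ.le ⟨⟨_, h1⟩, mem_center_iff.2 fun x =>
      Subtype.ext (Subtype.ext (hc _ ((mQ x).2 x.2))), rfl⟩)
  let M := (pCore 2 (Ce z ⧸ Q)).comap (QuotientGroup.mk' Q)
  let f : M →* Q3 := e.toMonoidHom.comp ((QuotientGroup.mk' Q).subgroupComap _)
  have hker : ∀ x : M, f x = 1 ↔ (x : Ce z) ∈ Q := fun x => by
    change e _ = 1 ↔ _
    rw [MulEquiv.map_eq_one_iff, Subtype.ext_iff]
    exact QuotientGroup.eq_one_iff _
  obtain ⟨σ, hσ⟩ := exists_sec f (e.surjective.comp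
    (MonoidHom.subgroupComap_surjective_of_surjective _ _ (QuotientGroup.mk'_surjective Q)))
    (by
      have : f.ker = Q.subgroupOf M := by ext x; exact hker x
      rw [this]
      exact hX.1.1.comap_subtype)
    fun p => ⟨2, q3_rel.2.1 p⟩
  let π : Q3 →* G := (Ce z).subtype.comp (M.subtype.comp σ)
  have hi : Function.Injective π := fun x y e => by
    rw [← hσ x, ← hσ y, show σ x = σ y from Subtype.ext (Subtype.ext e)]
  obtain ⟨D, h, rfl, hQQ, B, neg⟩ := exists_D bs cen (hX.1.1.map _)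
    (by rw [card_map_of_injective (subtype_injective _), hc]) π hi
    fun p => ⟨(σ p).1.2, le_normalizer_map_subtype Q (σ p).1.2⟩
  have p4 : ∀ p i, D.m i (π p) ^ 4 = 1 := fun p i => by
    rw [← h.pow (B p), ← map_pow, q3_rel.2.1, map_one, (h.co i).m_one]
  have hPn : M.Normal := Normal.comap inferInstance _
  have h3 : D.QQ = (pCore 3 (Ce D.z)).map (Ce D.z).subtype := by
    rw [hQQ, le_antisymm (H2.le_pCore hX.1.1) ((H14.pCore_le_fstar 3).trans hQ.ge)]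
  obtain ⟨k1, -⟩ := core h (P := M.map (Ce D.z).subtype) (by
      rintro _ ⟨x, hx, rfl⟩
      have := h.QP (hQQ.ge ((mQ _).2 ((hker ((σ (f ⟨x, hx⟩))⁻¹ * ⟨x, hx⟩)).1 (by simp [hσ]))))
      simpa [π] using h.Ps.mul_mem (x := π (f ⟨x, hx⟩)) ⟨B _, p4 _⟩ this)
    (le_normalizer_map_subtype M) (fun i => let ⟨p, e⟩ := neg i; ⟨π p, ⟨_, (σ p).2, rfl⟩, e⟩)
    (by rw [h3]; exact Nz_nr.trans (normalizer_le_normalizer_map_subtype _))
    (fun N h1 h2 h3 x hx => by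
      have := (normal_subgroupOf_iff_le_normalizer h1).2 h2
      have := Normal.map this _ (QuotientGroup.mk'_surjective Q)
      refine ⟨⟨x, h1 hx⟩, H2.le_pCore (p := 2)
        (N := (N.subgroupOf (Ce D.z)).map (QuotientGroup.mk' Q)) (isPGroup_iff_forall.2 ?_)
        ⟨_, hx, rfl⟩, rfl⟩
      rintro _ ⟨y, hy, rfl⟩
      exact ⟨2, by
        rw [← map_pow]; exact (QuotientGroup.eq_one_iff _).2 ((mQ _).1 (hQQ.le (h3 y hy)))⟩)
    fun N h1 h2 h4 => h3.ge.trans' (H2.le_map_pCore_subtype h1 h2 h4)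
  refine ⟨D, k1, fun A hA => ?_, rfl, h3, nw ho S hZS hW⟩
  let μ : Q3 → Fin 3 → {A : SL3 // A ^ 4 = 1} := fun x i => ⟨D.m i (π x), p4 x i⟩
  have hμ : Function.Injective μ := fun x y e => by
    have := h.cubeQ (h.ker (B (x⁻¹ * y)) fun i => by
      rw [map_mul, map_inv, h.mul (inv_mem (B x)) (B y), h.inv (B x),
        show D.m i (π x) = D.m i (π y) from congrArg (·.1) (congrFun e i), inv_mul_cancel])
    have h4 := q3_rel.2.1 (x⁻¹ * y)
    rw [← map_pow, ← π.map_one, hi.eq_iff] at this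
    rwa [pow_succ, this, one_mul, inv_mul_eq_one] at h4
  obtain ⟨x, hx⟩ := (hμ.bijective_of_nat_card_le (by
    simp only [Nat.card_pi, card_T, Nat.card_prod, Nat.card_eq_fintype_card (α := QuaternionGroup 2),
      QuaternionGroup.card]
    simp)).2 fun i => ⟨A i, hA i⟩
  exact ⟨π x, ⟨B x, p4 x⟩, fun i => congrArg (·.1) (congrFun hx i)⟩

end H39.E6
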