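import Cfsg.Agent.H46.E6BKit
import Cfsg.Agent.H78.F22K
import Cfsg.Agent.H21.F22W

/-! Blueprint `E6B.md`: the kit of `H78.F22K` for the structures `HV1`, `HJ4`. -/

set_option autoImplicit false
set_option linter.unusedSectionVars false
set_option maxRecDepth 100000
set_option synthInstance.maxSize 2048

open Cfsg Subgroup H98 H42.L3 H7.PS H39.F22 H46.E6B
open H78.F22 hiding jty jtf jnQ jfr QO QiO zO tO memS sylz sylc SO SJ zreal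
open H56.L3 (Ce Nz)
open H28.PS (SL3 Zt)
open H84.PS (V2)
open scoped Matrix

namespace H39.E6B

variable {G : Type*} [Group G] [Finite G] {D : D3 G} {a b d g k p q s t u w y π : G} {i j : Fin 3}
  {c r x : Fin 3 → G} {α : Fin 3 → ZMod 3} {ε : ZMod 3} {X J : Subgroup G}

variable (h : H3 D) (H : HJ4 D t c r x π k ε J)
include h H

theorem jty (i : Fin 3) : Ty D i (r i) := ⟨H.rB i, H.rsq i, H.rm i, H.rm' i⟩

theorem jtf : Tf D t c := ⟨H.cQ, Bz H.tB, H.t3, H.tc⟩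

theorem jnQ : t ∉ D.QQ := fun e => H.tm 0 (by rw [mQ h e, one_pow])

theorem jfr : Fr D c r := ⟨jty h H, H.cQ, H.cz, H.rcr, fun α e => by
  have := (H.zset 0 0 α).2 ⟨fun e1 => e 0 (congrFun (H.el_inj _ _ _ e1).2.2 0), by
    rw [mul_zero, add_zero]; revert α; decide +kernel⟩
  rwa [el_eq, zp_zero, zp_zero, one_mul, one_mul] at this⟩

theorem QO (hy : y ∈ D.QQ) (e : y ∈ Ce (r 0)) : y ∈ OO (r 0) := mem_OO e (cubeQ h hy)

theorem QiO (e : i ≠ 0) (hy : y ∈ D.Q i) : y ∈ OO (r 0) :=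
  QO h H (Qle i hy) (mem_Ce.2 (H.rc 0 i e y hy))

theorem zO : D.z ∈ OO (r 0) := QiO h H (i := 1) (by decide) (h.sd 1).zmem

theorem tO : t ∈ OO (r 0) := mem_OO (mem_Ce.2 (H.tr 0)) H.t3

theorem memS : y ∈ D.Q 1 ⊔ D.Q 2 ⊔ zpowers t ↔ ∃ q ∈ D.Q 1 ⊔ D.Q 2, ∃ n, y = q * zp t n := by
  rw [mem_sup_right_norm (zpowers_le.2 (le_normalizer_sup (H := D.B) (fun _ e => (BN e 1).2)
    (fun _ e => (BN e 2).2) H.tB))]
  refine exists_congr fun q => and_congr_right' ⟨fun ⟨a, ha, e⟩ => ?_, fun ⟨n, e⟩ => ⟨_, zp_mem n, e⟩⟩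
  obtain ⟨n, rfl⟩ := exists_zp (H.hz ▸ (H3.dc h k).ord) ha
  exact ⟨n, e⟩

theorem sylz (hy : y ∈ D.Q 1 ⊔ D.Q 2 ⊔ zpowers t) (e : y ∈ cn (D.Q 1 ⊔ D.Q 2 ⊔ zpowers t)) :
    y ∈ zpowers D.z := by
  obtain ⟨q, hq, n, rfl⟩ := (memS h H).1 hy
  obtain ⟨h1, h2⟩ := (Q12 h (jty h H)).1 hq
  have h3 := centralizer_anti (le_sup_left.trans le_sup_left) e
  have h4 := (co h 1).m_cn h3
  rw [m_mul h (QB h h1) (zp_mem' H.tB n), mQ h h1, one_mul, zp, m_pow h H.tB] at h4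
  have h5 := congrArg chi h4
  rw [chi_pow, ZMod.natCast_zmod_val, (chi_eq 1).2 (one_pow 4), mul_eq_zero] at h5
  obtain rfl := h5.resolve_right (mt (chi_eq _).1 (H.tm 1))
  rw [zp_zero, mul_one] at *
  refine cnQ h fun i => ?_
  rcases f3 i with rfl | rfl | rfl
  exacts [(jty h H 0).fix h h1 h2, h3, centralizer_anti (le_sup_right.trans le_sup_left) e]

theorem sylc : Nat.card ↥(D.Q 1 ⊔ D.Q 2 ⊔ zpowers t) = 729 := by
  have ot : orderOf t = 3 := H.hz ▸ (H3.dc h k).ord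
  have h1 := H12.card_sup_mul_card_inf ((h.QQ 1 2 (by decide)).trans (centralizer_le_normalizer _))
  rw [le_antisymm (fun _ e => infQ h (by decide) e.1 e.2) (le_inf (co h 1).zle (co h 2).zle :
    zpowers D.z ≤ D.Q 1 ⊓ D.Q 2), Nat.card_zpowers, h.ord, (co h 1).card, (co h 2).card] at h1
  have h2 := H12.card_sup_mul_card_inf (zpowers_le.2 (le_normalizer_sup (H := D.B)
    (fun _ e => (BN e 1).2) (fun _ e => (BN e 2).2) H.tB))
  have h3 : zpowers t ⊓ (D.Q 1 ⊔ D.Q 2) = ⊥ :=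
    eq_bot_iff.2 fun _ e => zpow_inf ot (jnQ h H) e.1 (sup_le (Qle 1) (Qle 2) e.2)
  rw [h3, card_bot, Nat.card_zpowers, ot, sup_comm] at h2
  omega

theorem SO : D.Q 1 ⊔ D.Q 2 ⊔ zpowers t ≤ OO (r 0) :=
  sup_le (sup_le (fun _ => QiO h H (by decide)) fun _ => QiO h H (by decide)) (zpowers_le.2 (tO h H))

theorem ot : orderOf t = 3 := H.hz ▸ (H3.dc h k).ord

omit h in
theorem J_JJ : J ≤ JJ D c := fun _ e => ((H.Jd _).1 e).1

omit h in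
theorem elJ (a b : ZMod 3) (α : Fin 3 → ZMod 3) : el D.z t c a b α ∈ J := (H.memJ _).2 ⟨_, _, _, rfl⟩

theorem tJ : t ∈ J := by simpa [el_eq, zp_zero, zp_one, cc_zero] using elJ H 1 0 0

theorem AJ (hy : y ∈ JJ D c) (e : y ∈ D.QQ) : y ∈ J := (H.Jd y).2 ⟨hy, fun i => by rw [bt_Q h e]; rfl⟩

theorem zJ4 : D.z ∈ J := AJ h H (zJ h H.cQ) (zQ h (mem_zpowers _))

theorem cJ4 (i : Fin 3) : c i ∈ J := AJ h H (cJ h H.cQ i) (Qle i (H.cQ i))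

theorem JJB (hy : y ∈ JJ D c) : y ∈ D.B := JB h H.cQ H.cz hy

theorem cnJ : cn J = JJ D c := le_antisymm
  (fun _ e => mem_JJ.2 ⟨mem_Ce.2 (e _ (zJ4 h H)).symm, fun i => mem_Ce.2 (e _ (cJ4 h H i)).symm⟩)
  (H.Jab.trans (centralizer_anti (J_JJ H)))

theorem nrJ4 : nr J = nr (JJ D c) :=
  le_antisymm (cnJ h H ▸ le_normalizer_centralizer le_rfl) H.nJ

/-- an element of `JJ` inverted by `r j` lies in `Q j` -/
theorem invQ (hy : y ∈ JJ D c) (e : r j * y * (r j)⁻¹ = y⁻¹) : y ∈ D.Q j :=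
  inv_mem_iff.1 (sq_mem (by rw [inv_pow, H.J3 y hy, inv_one])
    (e ▸ (jty h H j).comQ h (JJB h H hy)))

theorem bt_t (i : Fin 3) : bt D t i = bt D t 0 ∧ bt D t i ≠ 0 :=
  ⟨((H.Jd t).1 (tJ h H)).2 i, mt (chi_eq _).1 (H.tm i)⟩

theorem SJ (hq : q ∈ D.Q 1 ⊔ D.Q 2) (e : (q * t) ^ 3 = 1) : q * t ∈ J := by
  have key : ∀ i, ∀ a ∈ D.Q i, ∃ u ∈ D.Q i, ∃ ν, t * a * t⁻¹ = u * a ∧ t * u * t⁻¹ = u ∧
      a * u * a⁻¹ = zp D.z ν * u ∧ (ν = 0 ∧ a * c i = c i * a ∨ ν = -ε) := fun i a ha => by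
    have C := co h i
    have tN := BN H.tB i
    have hu := mul_mem (C.conj_mem tN ha) (inv_mem ha)
    have h1 : ε = D.l i (x i) 0 * D.l i (c i) 1 - D.l i (x i) 1 * D.l i (c i) 0 :=
      zp_inj h.ord (mul_right_cancel ((zp_comm (C.le_Ce (H.cQ i)) ε).symm.trans
        ((H.xc i).symm.trans (C.conj_eq (H.xQ i) (H.cQ i)))))
    have h2 : x i = t * c i * t⁻¹ * zp D.z (-ε) * (t * x i * t⁻¹) := by
      rw [← zp_conj tN.1, conj_mul]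
      calc _ = x i * t * (x i)⁻¹ * x i * t⁻¹ := by group
        _ = _ := by rw [H.xt, H.tc]; simp only [zp]; rw [← H.tc]; group
    have h3 := congrArg (D.l i) h2
    rw [C.l_mul _ (mul_mem (C.conj_mem tN (H.cQ i)) (C.zp_mem _)) _ (C.conj_mem tN (H.xQ i)),
      C.l_mul _ (C.conj_mem tN (H.cQ i)) _ (C.zp_mem _), C.l_zp, add_zero, C.act _ tN _ (H.cQ i),
      C.act _ tN _ (H.xQ i), add_comm] at h3
    obtain ⟨h4, h5⟩ := sl_nu _ _ _ (D.l i a) (m3 h H.tB H.t3 i)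
      (H84.PS.fix_of_comm C tN (H.cQ i) (H.tc i).symm) h3.symm
      (h1 ▸ by rcases H.eps with e | e <;> rw [e] <;> decide)
    rw [← C.l_inv ha, ← C.act _ tN _ ha, ← C.l_mul _ (C.conj_mem tN ha) _ (inv_mem ha)] at h4 h5
    refine ⟨_, hu, _, by group, mem_Ce'.1 (Ce_symm (par_Ce h hu (H.cQ i) (H.cz i)
      ((C.comm_iff hu (H.cQ i)).2 h4) tN.1 (mem_Ce.2 (H.tc i).symm))), C.conj_eq ha hu, ?_⟩
    exact h5.imp (And.imp_right (C.comm_iff ha (H.cQ i)).2) fun e => by rw [e, h1]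
  obtain ⟨a, ha, b, hb, rfl⟩ := (mem_sup_left_norm
    ((h.QQ 1 2 (by decide)).trans (centralizer_le_normalizer _))).1 hq
  obtain ⟨u, hu, ν, a1, a2, a3, a4⟩ := key 1 a ha
  obtain ⟨w, hw, μ, b1, b2, b3, b4⟩ := key 2 b hb
  have cm : ∀ a ∈ D.Q 1, ∀ b ∈ D.Q 2, Commute a b := fun a ha b hb => QQc h (by decide) ha hb
  have m12 : ∀ a ∈ D.Q 1, ∀ b ∈ D.Q 2, a * b ∈ D.QQ := fun a ha b hb => mul_mem (Qle 1 ha) (Qle 2 hb)
  have zc := fun y (e : y ∈ D.QQ) n => zp_comm (Bz (QB h e)) n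
  have h1 := zp_eq_one h.ord (nu_one (u := u * w) (ζ := zp D.z (ν + μ))
    (by rw [← conj_mul, a1, b1, (cm a ha w hw).mul_mul_mul_comm]) (by rw [← conj_mul, a2, b2])
    (by
      calc _ = a * u * a⁻¹ * (a * (b * w * b⁻¹) * a⁻¹) := by
            rw [← (cm u hu b hb).mul_mul_mul_comm]; group
        _ = _ := by
            rw [a3, (cm a ha _ (mul_mem (mul_mem hb hw) (inv_mem hb))).eq, mul_inv_cancel_right, b3,
              zp_add h.ord, (show Commute _ _ from zc u (Qle 1 hu) μ).mul_mul_mul_comm])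
    (zc _ (m12 a ha b hb) _).symm (zc _ (m12 u hu w hw) _).symm e H.t3 (cubeQ h (m12 a ha b hb))
    (cubeQ h (m12 u hu w hw)) (cube_of_mem h.ord (zp_mem _)))
  have h2 : a * c 1 = c 1 * a ∧ b * c 2 = c 2 * b := by
    rcases a4 with ⟨rfl, a4⟩ | rfl <;> rcases b4 with ⟨rfl, b4⟩ | rfl
    · exact ⟨a4, b4⟩
    all_goals rcases H.eps with e | e <;> rw [e] at h1 <;> exact absurd h1 (by decide)
  refine (H.Jd _).2 ⟨mem_JJ.2 ⟨mul_mem (Bz (QB h (m12 a ha b hb))) (Bz H.tB), fun i =>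
    mul_mem (mul_mem (mem_Ce.2 ?_) (mem_Ce.2 ?_)) (mem_Ce.2 (H.tc i))⟩, fun i => by
      rw [bt_mul h (QB h (m12 a ha b hb)) H.tB, bt_Q h (m12 a ha b hb), zero_add, (bt_t h H i).1]⟩
  · by_cases e : 1 = i
    exacts [e ▸ h2.1, QQc h e ha (H.cQ i)]
  · by_cases e : 2 = i
    exacts [e ▸ h2.2, QQc h e hb (H.cQ i)]

theorem zreal (v : HV1 D) : ∃ s, s * D.z * s⁻¹ = D.z⁻¹ := by
  have h' := H3.dc h k
  have j1 := (H.Jd _).1 (conj_mem_of_mem_normalizer' H.hJ (zJ4 h H))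
  have zB : D.z ∈ (dc D k).B := dc_B.ge (mem_cj.2 (JJB h H j1.1))
  have m1 : ∀ i, (dc D k).m i D.z ≠ 1 := fun i e => jnQ h H (by
    have e1 : bt D (k⁻¹ * D.z * k) i = 0 := (congrArg chi e).trans ((chi_eq 1).2 (one_pow 4))
    simpa [H.hz] using v.sym k⁻¹ (by
      simpa using Q_bt h (JJB h H j1.1) (H.J3 _ j1.1)
        (funext fun j => (j1.2 j).trans ((j1.2 i).symm.trans e1))))
  have key : ∀ α : Fin 3 → ZMod 3, α 0 * α 0 + α 1 * α 1 + α 2 * α 2 ≠ 0 →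
      ∃ g, g * D.z * g⁻¹ = zp t (-ε * (α 0 * α 0 + α 1 * α 1 + α 2 * α 2)) := fun α n0 => by
    have cq : cc c α ∈ (dc D k).QQ := dc_QQ.ge (H.At.ge (cc_mem fun i => subset_closure (by
      rcases f3 i with rfl | rfl | rfl <;> simp))).2
    have zc : cc c α ∈ Ce D.z := cc_mem fun i => (co h i).le_Ce (H.cQ i)
    obtain ⟨q, -, n, e⟩ := H21.F22.cov3 h' zB cq fun i => (H21.F22.sl_im _
      (m3 h' zB (z_cube h.ord) i) (m1 i) _ (H21.F22.fixL h' zB cq (Ce_symm zc) i)).1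
    have e1 : q * D.z * q⁻¹ = el D.z t c n 1 α := by
      rw [e, dc_z, H.hz, el_eq, zp_one, mem_Ce.1 zc, mul_assoc]
    obtain ⟨n1, n2, n3⟩ := (by decide : ∀ ε n s : ZMod 3, ε = 1 ∨ ε = -1 → s ≠ 0 →
      s + ε * n * 1 = 0 → n ≠ 0 ∧ 1 + ε * n * s = 0 ∧ n = -ε * s) _ _ _ H.eps n0
      ((H.zset _ _ _).1 (e1 ▸ Zt_conj q)).2
    obtain ⟨g, -, e2⟩ := H78.F22.orb (X := ⊤) (α := α) h (jtf h H) H.xQ H.xt H.xc n1 1 fun _ _ => mem_top _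
    exact ⟨g * q, by
      rw [← n3, ← mul_one (zp t n), ← cc_zero (c := c), ← mul_one (zp t n), ← zp_zero (z := D.z),
        ← el_eq, ← n2, ← e2, ← e1]
      group⟩
  obtain ⟨a, e⟩ := key ![1, 0, 0] (by decide)
  obtain ⟨b, e'⟩ := key ![1, 1, 0] (by decide)
  rw [(by decide : ∀ ε : ZMod 3, ∀ α β : Fin 3 → ZMod 3, α = ![1, 1, 0] → β = ![1, 0, 0] →
    -ε * (α 0 * α 0 + α 1 * α 1 + α 2 * α 2) = -(-ε * (β 0 * β 0 + β 1 * β 1 + β 2 * β 2))) ε _ _ rfl rfl,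
    zp_neg (ot h H), ← e] at e'
  exact ⟨a⁻¹ * b, by
    rw [show a⁻¹ * b * D.z * (a⁻¹ * b)⁻¹ = a⁻¹ * (b * D.z * b⁻¹) * a by group, e']; group⟩

end H39.E6B
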