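import Cfsg.Agent.H39.E6BY
import Cfsg.Agent.H59.SU
import Cfsg.Agent.H19.A8S

/-! `JobL` of `H46.E6BSpec` (blueprint `E6B.md`); port of `H61.E6L1`, `H89.E6L2`. -/

set_option autoImplicit false
set_option linter.unusedSectionVars false

namespace H39.E6B.L

open Cfsg Subgroup H98 H42.L3 H39.F22 H39.E6 H39.E6B.N
open H78.F22 hiding jty jtf jnQ jfr QO QiO zO tO memS sylz sylc SO SJ zreal
open H46.E6B (E1 NJ1 YF1 X2)
open H56.L3 (Ce Nz)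

universe u

variable {G : Type u} [Group G] [Finite G] {E : Dat G} (e : E1 E) (nj : NJ1 E) (rf : RF E)
  (yf : YF1 E) (sf : SF E)

theorem X_conj {g x : G} (hg : g ∈ E.Y) (hx : x ∈ X2 E) : g * x * g⁻¹ ∈ X2 E :=
  conj_mem_of_mem_normalizer (nX2 hg) hx

include e sf in
theorem s4 {s : G} (hs : s ∈ E.Sg) : s ^ 4 = 1 := by
  obtain ⟨k, h⟩ := sf.sq s hs
  rw [show s ^ 4 = (s * s) ^ 2 by simp [pow_succ, mul_assoc], ← h, ← zpow_natCast, ← zpow_mul,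
    mul_comm, zpow_mul, zpow_natCast, sq, e.hj.rsq, one_zpow]

include e sf in
theorem cjS {y v : G} (hy : y ∈ nr E.Sg) (y3 : y ^ 3 = 1) (hv : v ∈ E.Sg ⊔ zpowers y)
    (v3 : v ^ 3 = 1) : ∃ l ∈ E.Sg ⊔ zpowers y, l * v * l⁻¹ ∈ zpowers y := by
  have sy : IsSyl 3 (zpowers y) (E.Sg ⊔ zpowers y) := ⟨le_sup_right, isPGroup_zpowers (k := 1) y3,
    fun Q hQ h1 h2 => le_antisymm (fun x hx => by
      obtain ⟨s, hs, w, hw, rfl⟩ := (mem_sup_right_norm (zpowers_le.2 hy)).1 (h2 hx)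
      obtain ⟨k, hk⟩ := isPGroup_iff_forall.1 hQ s ((mul_mem_cancel_right (h1 hw)).1 hx)
      rwa [(pow_eq_one_iff_of_coprime (Nat.Coprime.pow_left k (by decide : Nat.Coprime 3 4))).1
        ⟨hk, s4 e sf hs⟩, one_mul]) h1⟩
  obtain ⟨l, hl, k⟩ := sy.exists_cj_le (isPGroup_zpowers (k := 1) v3) (zpowers_le.2 hv)
  exact ⟨l, hl, k (conj_mem_cj (mem_zpowers v))⟩

include e nj rf yf sf in
theorem Y_nor (g6 : G6.{u}) : E.Y ≤ nr E.Sg := by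
  have h := e.h3
  have H := e.hj
  have h1 : E.Y ⊓ Ce (E.r 2) ≤ nr E.Sg := yf.hr.gen _ (fun g a => sf.nz ⟨a.1.1.2, a.2⟩)
    fun g a => sf.nI ⟨a.1.1.2, a.2⟩
  obtain ⟨F, _, _, hF, ⟨φ⟩⟩ := yf.iso
  obtain ⟨m, m1, m2⟩ := nj.sw
  have QY : E.Q 1 ≤ E.Y := (le_sup_of_le_left le_sup_left).trans rf.SY
  have h2 := g6 E.Y ((X2 E).subgroupOf E.Y) ((nr E.Sg).subgroupOf E.Y)
    ⟨fun x a g => X_conj g.2 a⟩ F hF ⟨(subgroupOfEquivOfLe X2Y).trans φ⟩ ⟨E.r 2, X2Y yf.rX⟩ yf.rX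
    (by
      rw [orderOf_mk]
      exact orderOf_eq_prime ((pow_two _).trans (H.rsq 2)) fun c => neg_ne (by
        rw [← H.rm 2, c, mQ h (one_mem _)]))
    (by
      rw [← (co h 1).card, ← Nat.card_congr (subgroupOfEquivOfLe QY).toEquiv]
      exact card_dvd_of_le fun x a => ⟨yf.SX (mem_sup_left (mem_sup_left a)),
        mem_Ce.2 (Subtype.ext (H.rc 2 1 (by decide) _ a))⟩)
    (fun x a => h1 ⟨x.2, mem_Ce.2 (congrArg Subtype.val (mem_Ce.1 a.2))⟩) ⟨m, m1.1⟩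
    (sf.nI ⟨m1.1.2, m1.2⟩)
    (fun c => neg_ne (by
      rw [← H.rm 1, ← m2, show m * E.r 2 * m⁻¹ = E.r 2 from congrArg Subtype.val c,
        H.rm' 2 1 (by decide)]))
    (mem_Ce.2 (Subtype.ext (by
      show m * E.r 2 * m⁻¹ * E.r 2 = E.r 2 * (m * E.r 2 * m⁻¹)
      rw [m2, H.rr])))
  intro g hg
  obtain ⟨k, k1, k2⟩ := yf.frat g hg
  have k3 : k ∈ nr E.Sg := h2 (x := ⟨k, X2Y k1⟩) k1
  exact (mul_mem_cancel_left (inv_mem k3)).1 (sf.nz ⟨(mul_mem (inv_mem (X2Y k1)) hg).2, k2⟩)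

variable (hY : E.Y ≤ nr E.Sg)
include e rf yf sf hY

theorem YS {y : G} (h1 : y ∈ E.Y) (h2 : y ∈ E.Sg) : y = 1 := by
  obtain ⟨F, _, _, hF, ⟨φ⟩⟩ := yf.iso
  have := H59.isSimpleGroup_PSU (q := 2) (n := 6) hF (by decide) (by decide)
  have := φ.isSimpleGroup
  have z3 : E.z ^ 3 = 1 := e.h3.ord ▸ pow_orderOf_eq_one _
  have nb : E.Sg.subgroupOf (X2 E) = ⊥ := (IsSimpleGroup.eq_bot_or_eq_top_of_normal
    (E.Sg.subgroupOf (X2 E))
    ⟨fun x a g => conj_mem_of_mem_normalizer (H := E.Sg) (hY (X2Y g.2)) a⟩).resolve_right fun c => by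
      have := s4 (s := E.z) e sf (c.ge (mem_top
        (⟨E.z, yf.SX (mem_sup_left (mem_sup_left (e.h3.sd 1).zmem))⟩ : X2 E)))
      have o := e.h3.ord
      rw [pow_succ, z3, one_mul] at this
      rw [show E.D.z = 1 from this, orderOf_one] at o
      omega
  refine mem_bot.1 (yf.cen.le ⟨h1, fun x hx => ?_⟩)
  have : (⟨x * y * x⁻¹ * y⁻¹, by
      rw [mul_assoc, mul_assoc, ← mul_assoc y]; exact mul_mem hx (X_conj h1 (inv_mem hx))⟩ : X2 E) ∈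
      E.Sg.subgroupOf (X2 E) := mul_mem (conj_mem_of_mem_normalizer (hY (X2Y hx)) h2) (inv_mem h2)
  have := congrArg Subtype.val (mem_bot.1 (nb.le this))
  exact mul_inv_eq_iff_eq_mul.1 (mul_inv_eq_one.1 this)

theorem NS : E.K ⊓ nr E.Sg ≤ E.Sg ⊔ E.Y := by
  let N := E.K ⊓ nr E.Sg
  have : (E.Sg.subgroupOf N).Normal := ⟨fun x a g => conj_mem_of_mem_normalizer (H := E.Sg) g.2.2 a⟩
  have YN : E.Y ≤ N := le_inf inf_le_right hY
  let p := QuotientGroup.mk' (E.Sg.subgroupOf N)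
  let ψ := p.comp (inclusion YN)
  have z3 : E.z ^ 3 = 1 := e.h3.ord ▸ pow_orderOf_eq_one _
  have hi : Function.Injective ψ := (injective_iff_map_eq_one ψ).2 fun y k =>
    Subtype.ext (YS e rf yf sf hY y.2 ((QuotientGroup.eq_one_iff (inclusion YN y)).1 k))
  have hH : ∀ (g : N) (y : E.Y), p g = ψ y → g.1 ∈ E.Sg ⊔ zpowers y.1 := fun g y k => by
    obtain ⟨s, hs, k⟩ := (QuotientGroup.mk'_eq_mk' _).1 k.symm
    exact k ▸ mul_mem (mem_sup_right (mem_zpowers _)) (mem_sup_left hs)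
  have le : ∀ y ∈ E.Y, E.Sg ⊔ zpowers y ≤ E.Sg ⊔ E.Y := fun y hy =>
    sup_le_sup_left (zpowers_le.2 hy) _
  have key : ∀ (g : N) (y : E.Y), p g * ψ ⟨_, zY e⟩ * (p g)⁻¹ = ψ y → y.1 ^ 3 = 1 →
      ∃ l ∈ E.Sg ⊔ E.Y, l * g * E.z * (l * g)⁻¹ ∈ zpowers y.1 := fun g y k y3 => by
    obtain ⟨l, hl, k⟩ := cjS e sf (hY y.2) y3 (hH (g * inclusion YN ⟨_, zY e⟩ * g⁻¹) y k)
      (show (g.1 * E.z * g.1⁻¹) ^ 3 = 1 by rw [conj_pow, z3]; simp)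
    exact ⟨l, le _ y.2 hl, by simpa [mul_assoc] using k⟩
  have top := yf.rig _ ψ ⟨_, zY e⟩ rfl hi (fun x hx => by
      obtain ⟨g, rfl⟩ := QuotientGroup.mk'_surjective _ x
      obtain ⟨k, hk⟩ := mem_Nz.1 hx
      obtain ⟨l, hl, k1⟩ := key g (⟨_, zY e⟩ ^ k) ((map_zpow ψ _ k).trans hk).symm (by
        show (E.z ^ k) ^ 3 = 1
        rw [← zpow_natCast, ← zpow_mul, mul_comm, zpow_mul, zpow_natCast, z3, one_zpow])
      obtain ⟨q, q1, q2⟩ := rf.cz _ ⟨mem_Nz.2 (zpowers_le.2 (zpow_mem (mem_zpowers _) k) k1),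
        mul_mem (sup_le sf.le inf_le_right hl) g.2.1⟩
      have q3 : q ∈ E.Sg := subset_closure ⟨1, one_mem _, by rwa [cj_one]⟩
      obtain ⟨s, hs, y, hy, k2⟩ := (mem_sup_right_norm hY).1 ((mul_mem_cancel_left hl).1
        ((mul_mem_cancel_left (inv_mem (mem_sup_left q3))).1 (mem_sup_right q2)))
      have sN : s ∈ N := ⟨sf.le hs, le_normalizer hs⟩
      refine ⟨⟨y, hy⟩, ?_⟩
      rw [show g = ⟨s, sN⟩ * inclusion YN ⟨y, hy⟩ from Subtype.ext k2, map_mul,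
        show p ⟨s, sN⟩ = 1 from (QuotientGroup.eq_one_iff _).2 hs, one_mul]
      rfl)
    fun x y hy k => by
      obtain ⟨g, rfl⟩ := QuotientGroup.mk'_surjective _ x
      have y3 := cubeQ e.h3 (sup_le (Qle 1) (Qle 2) hy)
      obtain ⟨l, -, k1⟩ := key g y k y3
      rcases (H19.A8.mem_zp3 y3).1 k1 with k2 | k2 | k2
      · have := e.h3.ord
        rw [show E.D.z = 1 from conj_eq_one_iff.1 k2, orderOf_one] at this
        omega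
      exacts [wc12 e hy ⟨_, .inl k2⟩, wc12 e hy ⟨_, .inr k2⟩]
  intro g hg
  obtain ⟨y, k⟩ := top.ge (mem_top (p ⟨g, hg⟩))
  exact le _ y.2 (hH _ y k.symm)

omit e rf yf sf hY in
theorem jobL : H46.E6B.JobL.{u} := fun g6 _ _ _ _ e nj rf yf sf =>
  have k := Y_nor e nj rf yf sf g6
  ⟨k, NS e rf yf sf k⟩

end H39.E6B.L
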