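import Cfsg.Agent.H39.E6BK
import Cfsg.Agent.H33.E6N1

/-! `JobN1` of `H46.E6BSpec` (blueprint `E6B.md`); port of `H33.E6N1a`, `H33.E6N1`. -/

set_option autoImplicit false
set_option linter.unusedSectionVars false
set_option maxRecDepth 100000
set_option synthInstance.maxSize 2048

open Cfsg Subgroup H98 H42.L3 H7.PS H39.F22 H39.E6
open H78.F22 hiding jty jtf jnQ jfr QO QiO zO tO memS sylz sylc SO SJ zreal
open H46.E6B (HV1 HJ4 E1 NJ1 bt bt_P)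
open H33.E6 (two_fix card_q8 MR card_v)
open H56.L3 (Ce Nz)
open H28.PS (SL3 Zt)
open H84.PS (V2)
open scoped Matrix

namespace H39.E6B.N

universe u

variable {G : Type*} [Group G] [Finite G] {E : Dat G} {a g p q y : G} {i j : Fin 3}
  {T : Subgroup G}

section

variable (e : E1 E)
include e

theorem ty (i : Fin 3) : Ty E.D i (E.r i) := jty e.h3 e.hj i

theorem B_two (hp : p ∈ Ce E.z) (n : ∀ j, j ≠ i → p ∈ Ce (E.c j)) : p ∈ E.D.B :=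
  B_of e.h3 hp (two_fix _ i fun j k => sg_eq e.h3 (CeN hp) (e.hj.cQ j) (e.hj.cz j)
    ((mem_Ce'.1 (n j k)).symm ▸ e.hj.cQ j))

theorem P_two (hp : p ∈ E.D.B) (n : ∀ j, j ≠ i → E.D.m j p = 1) : E.D.P p :=
  (bt_P e.h3 hp).2 ((by decide +kernel : ∀ (i : Fin 3) (v : Fin 3 → ZMod 3), (∀ j, j ≠ i → v j = 0) →
    v 0 + v 1 + v 2 = 0 → v = 0) i _ (fun j k => (chi_eq _).2 (by rw [n j k, one_pow])) (e.hv.sum p hp))

/-- an element that centralizes `r i` and the two other factors lies in `NN` -/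
theorem toN (hp : p ∈ Ce (E.r i)) (n : ∀ j, j ≠ i → p ∈ cn (E.Q j)) : p ∈ NN e.h3 E.r := by
  have h := e.h3
  obtain ⟨l, hl⟩ := exists_ne i
  have hB := B_two e ((co h l).cn_le (n l hl)).1 fun j k => mem_Ce.2 (n j k _ (e.hj.cQ j)).symm
  refine ⟨P_two e hB fun j k => (co h j).m_cn (n j k), fun j => ?_⟩
  by_cases k : j = i
  · exact k ▸ hp
  obtain ⟨s, hs⟩ := exists_zp h.ord ((co h j).center ((ty e j).comQ h hB)
    (mul_mem (conj_cn' (BN (ty e j).B j).2 (n j k)) (inv_mem (n j k))))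
  rw [mul_inv_eq_iff_eq_mul] at hs
  have h2 : E.r j * (E.r j * p * (E.r j)⁻¹) * (E.r j)⁻¹ = p := by
    calc _ = E.r j * E.r j * p * (E.r j * E.r j)⁻¹ := by group
      _ = p := by rw [(ty e j).sq]; simp
  rw [hs, ← conj_mul, zp_conj (Bz (ty e j).B), hs, ← mul_assoc, ← zp_add h.ord, mul_eq_right] at h2
  rw [(by decide : ∀ k : ZMod 3, k + k = 0 → k = 0) s (zp_eq_one h.ord h2), zp_zero, one_mul] at hs
  exact Ce_symm (mem_Ce'.2 hs)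

theorem MRN (hp : MR E i p) : p ∈ NN e.h3 E.r := toN e hp.1 hp.2.1

theorem four_mul (hp : p ∈ NN e.h3 E.r) (hq : q ∈ NN e.h3 E.r) (h1 : p ^ 4 = 1) (h2 : q ^ 4 = 1) :
    (p * q) ^ 4 = 1 := by
  obtain ⟨R, hR, R4, dec⟩ := exR e.h3 (ty e)
  have k : ∀ p ∈ NN e.h3 E.r, p ^ 4 = 1 → p ∈ R := fun p hp h1 => by
    obtain ⟨u, hu, p', hp', rfl⟩ := dec p hp
    rw [(show Commute u p' from (comm_of_mem (Bz (hR hp').1.1) hu).symm).mul_pow, R4 p' hp',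
      mul_one] at h1
    rwa [eq_one_of_four e.h3.ord hu h1, one_mul]
  exact R4 _ (mul_mem (k p hp h1) (k q hq h2))

theorem memR : p ∈ E.R i ↔ MR E i p := by
  let S : Subgroup G :=
    { carrier := {p | MR E i p}
      one_mem' := ⟨one_mem _, fun _ _ => one_mem _, one_pow _⟩
      mul_mem' := fun ha hb => ⟨mul_mem ha.1 hb.1, fun j k => mul_mem (ha.2.1 j k) (hb.2.1 j k),
        four_mul e (MRN e ha) (MRN e hb) ha.2.2 hb.2.2⟩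
      inv_mem' := fun ha => ⟨inv_mem ha.1, fun j k => inv_mem (ha.2.1 j k), by
        rw [inv_pow, ha.2.2, inv_one]⟩ }
  exact SetLike.ext_iff.1 (closure_eq S) p

theorem RN (hp : p ∈ E.R i) : p ∈ NN e.h3 E.r := MRN e ((memR e).1 hp)

theorem RB (hp : p ∈ E.R i) : p ∈ E.D.B := (RN e hp).1.1

theorem Rc (hp : p ∈ E.R i) (k : j ≠ i) : p ∈ cn (E.Q j) := ((memR e).1 hp).2.1 j k

theorem R4 (hp : p ∈ E.R i) : p ^ 4 = 1 := ((memR e).1 hp).2.2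

theorem Rm (hp : p ∈ E.R i) (k : j ≠ i) : E.D.m j p = 1 := (co e.h3 j).m_cn (Rc e hp k)

theorem Rinj (hp : p ∈ E.R i) (k : E.D.m i p = 1) : p = 1 :=
  eq_one_of_four e.h3.ord (Nz1 e.h3 (ty e) (RN e hp) fun j => by
    by_cases l : j = i
    exacts [l ▸ k, Rm e hp l]) (R4 e hp)

theorem Ronto (i : Fin 3) (A : SL3) (hA : A ^ 4 = 1) : ∃ p ∈ E.R i, E.D.m i p = A := by
  have h := e.h3
  obtain ⟨p, hp, k⟩ := e.full (Function.update 1 i A) fun j => by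
    by_cases l : j = i
    · rw [l, Function.update_self, hA]
    · rw [Function.update_of_ne l, Pi.one_apply, one_pow]
  obtain ⟨p', hp', k'⟩ := onN h (ty e) hp
  obtain ⟨R, hR, R4, dec⟩ := exR h (ty e)
  obtain ⟨u, hu, s, hs, rfl⟩ := dec p' hp'
  have k2 : ∀ j, E.D.m j s = Function.update (1 : Fin 3 → SL3) i A j := fun j => by
    rw [← k, ← k', m_mul h (QB h (zQ h hu)) (hR hs).1.1, mQ h (zQ h hu), one_mul]
  exact ⟨s, (memR e).2 ⟨(hR hs).2 i, fun j l => (co h j).cn_of_four (BN (hR hs).1.1 j)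
    (by rw [k2, Function.update_of_ne l, Pi.one_apply]) (R4 s hs), R4 s hs⟩,
    by rw [k2, Function.update_self]⟩

theorem cardR (i : Fin 3) : Nat.card (E.R i) = 8 := by
  rw [← card_q8]
  refine Nat.card_congr (Equiv.ofBijective (fun p => ⟨E.D.m i p, (RN e p.2).1.2 i⟩)
    ⟨fun p q k => Subtype.ext (inv_mul_eq_one.1 (Rinj e (mul_mem (inv_mem p.2) q.2) ?_)),
      fun A => ?_⟩)
  · rw [m_mul e.h3 (inv_mem (RB e p.2)) (RB e q.2), m_inv e.h3 (RB e p.2), inv_mul_eq_one]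
    exact congrArg Subtype.val k
  · obtain ⟨p, hp, k⟩ := Ronto e i A.1 A.2
    exact ⟨⟨p, hp⟩, Subtype.ext k⟩

theorem rR (i : Fin 3) : E.r i ∈ E.R i := (memR e).2 ⟨mem_Ce.2 rfl, e.hj.rc i, by
  rw [show (4 : ℕ) = 2 * 2 from rfl, pow_mul, pow_two (E.r i), e.hj.rsq, one_pow]⟩

theorem RR (k : i ≠ j) : E.R i ≤ cn (E.R j) := fun p hp q hq => by
  have h := e.h3
  have h1 := mul_mem (mul_mem (RN e hq) (RN e hp)) (inv_mem (RN e hq))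
  have := eq_one_of_four h.ord (Nz1 h (ty e) (mul_mem h1 (inv_mem (RN e hp))) fun l => by
    rw [m_mul h h1.1.1 (inv_mem (RB e hp)), m_conj h (RB e hq) (RB e hp), m_inv h (RB e hp)]
    by_cases n : l = i
    · rw [Rm e hq (n ▸ k)]; simp
    · rw [Rm e hp n]; simp) (four_mul e h1 (inv_mem (RN e hp)) (by
      rw [conj_pow, R4 e hp]; simp) (by rw [inv_pow, R4 e hp, inv_one]))
  rwa [mul_inv_eq_one, mul_inv_eq_iff_eq_mul] at this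

theorem R3 (hp : p ∈ Ce E.z ⊓ Ce (E.r i)) (n : ∀ j, j ≠ i → p ∈ Ce (E.c j))
    (o : (orderOf p).Coprime 3) : p ∈ E.R i := by
  have h := e.h3
  have hB := B_two e hp.1 n
  obtain ⟨s, hs⟩ := exists_pow_eq_self_of_coprime o.symm
  have k : ∀ j, j ≠ i → E.D.m j p = 1 := fun j l => by
    rw [← hs, m_pow h (pow_mem hB 3), m_pow h hB, (H84.PS.sl_stab _ _ (H84.PS.lne (co h j)
      (e.hj.cQ j) (e.hj.cz j)) (H84.PS.fix_of_comm (co h j) (BN hB j) (e.hj.cQ j)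
        (mem_Ce.1 (n j l)).symm)).1, one_pow]
  have k1 : ∀ j, j ≠ i → p ∈ cn (E.Q j) := fun j l =>
    hs ▸ pow_mem ((co h j).cube_cn (BN hB j) (k j l)) s
  have k2 := toN e hp.2 k1
  have k3 := cube_of_mem h.ord (Nz1 h (ty e) (pow_mem k2 4) fun j => by rw [m_pow h hB, k2.1.2])
  refine (memR e).2 ⟨hp.2, k1, ?_⟩
  rw [← hs, ← pow_mul, ← pow_mul, show 3 * (s * 4) = 4 * 3 * s by ring, pow_mul, pow_mul, k3, one_pow]

theorem sg_r (hg : g ∈ Nz E.z) (k : g * E.r i * g⁻¹ = E.r j) : sg E.D g i = j := by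
  obtain ⟨l, rfl⟩ := (sg E.D g).surjective j
  refine congrArg _ (by_contra fun n => neg_ne ((ty e (sg E.D g l)).neg.symm.trans
    ((co e.h3 _).m_cn ?_)))
  exact k ▸ sg_cn e.h3 hg (e.hj.rc i l (Ne.symm n))

theorem cjR (hg : g ∈ Nz E.z) (k : g * E.r i * g⁻¹ = E.r j) : cj g (E.R i) = E.R j := by
  refine eq_of_le_of_card_ge ?_ (by rw [card_cj, cardR e, cardR e])
  rintro _ ⟨p, hp, rfl⟩
  refine (memR e).2 ⟨k ▸ conj_mem_Ce ((RN e hp).2 i) g, fun l n => ?_, by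
    rw [← map_pow, R4 e hp, map_one]⟩
  obtain ⟨l, rfl⟩ := (sg E.D g).surjective l
  exact sg_cn e.h3 hg (Rc e hp fun n' => n (n' ▸ sg_r e hg k))

theorem nR (hg : g ∈ Nz E.z ⊓ Ce (E.r i)) : g ∈ nr (E.R i) :=
  cj_eq_self_iff.1 (cjR e hg.1 (mem_Ce'.1 hg.2))

theorem πQ (i : Fin 3) : cj E.π (E.Q i) = E.Q (i + 1) :=
  sg_r e (CeN e.hj.πz) (e.hj.πr i) ▸ sg_spec e.h3 (CeN e.hj.πz) i

theorem mv (ha : a ∈ E.Q i) (n : a ∉ zpowers E.z) (hq : q ∈ E.Q i) (n' : q ∉ zpowers E.z) :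
    ∃ p ∈ E.R i, ∃ k, p * a * p⁻¹ = zp E.z k * q := by
  have C := co e.h3 i
  obtain ⟨A, hA, k⟩ := H84.PS.sl_tr _ _ (H84.PS.lne C ha n) (H84.PS.lne C hq n')
  obtain ⟨p, hp, rfl⟩ := Ronto e i A hA
  exact ⟨p, hp, C.eq_zp (C.conj_mem (BN (RB e hp) i) ha) hq (by rw [C.act _ (BN (RB e hp) i) _ ha, k])⟩

theorem cz (hg : g ∈ Nz E.z ⊓ E.K) : ∃ p ∈ E.R 0, p⁻¹ * g ∈ E.Y := by
  have h := e.h3
  have h1 : g * E.c 0 * g⁻¹ ∈ E.Q 0 := by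
    have := sg_spec h hg.1 0
    rw [sg_r e hg.1 (mem_Ce'.1 hg.2)] at this
    exact this.le (conj_mem_cj (e.hj.cQ 0))
  obtain ⟨p, hp, k, hk⟩ := mv e (e.hj.cQ 0) (e.hj.cz 0) h1 fun n => e.hj.cz 0 (by
    rwa [← cj_eq_self hg.1, conj_mem_cj_iff] at n)
  have iv : ∀ u ∈ E.K, E.r 0 * (u * E.c 0 * u⁻¹) * (E.r 0)⁻¹ = (u * E.c 0 * u⁻¹)⁻¹ := fun u hu => by
    rw [← conj_mul, ← conj_mul, ← conj_inv, mem_Ce'.1 (Ce_symm hu), e.hj.rcr, conj_inv]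
  have h2 := iv p ((RN e hp).2 0)
  rw [hk, ← conj_mul, iv g hg.2, zp_conj (Bz (ty e 0).B), mul_inv_rev (zp _ _), ← zp_neg h.ord,
    zp_comm ((co h 0).le_Ce (inv_mem h1)), mul_left_inj] at h2
  rw [(by decide : ∀ k : ZMod 3, k = -k → k = 0) k (zp_inj h.ord h2), zp_zero, one_mul] at hk
  refine ⟨p, hp, mem_inf.2 ⟨mem_Ce'.2 ?_, mul_mem (inv_mem ((RN e hp).2 0)) hg.2⟩⟩
  calc _ = p⁻¹ * (g * E.c 0 * g⁻¹) * p := by group
    _ = _ := by rw [← hk]; group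

theorem zJ' : E.z ∈ E.J := zJ4 e.h3 e.hj

theorem cJ' (i : Fin 3) : E.c i ∈ E.J := cJ4 e.h3 e.hj i

theorem tJ' : E.t ∈ E.J := tJ e.h3 e.hj

theorem nrJ' (hz : g ∈ Ce E.z) (hc : ∀ i, ∃ j, g * E.c i * g⁻¹ = E.c j) : g ∈ nr E.J :=
  e.hj.nJ (nrJ (D := E.D) ((mem_Ce'.1 hz).symm ▸ z_cnJ) fun i =>
    let ⟨j, k⟩ := hc i; k ▸ c_cnJ j)

theorem S0K : E.S0 ≤ E.K := (SO e.h3 e.hj).trans OO_le

theorem SY : E.S0 ≤ E.Y := le_inf (sup_le (sup_le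
  (fun _ k => mem_Ce.2 (QQc e.h3 (by decide) k (e.hj.cQ 0)))
  fun _ k => mem_Ce.2 (QQc e.h3 (by decide) k (e.hj.cQ 0))) (zpowers_le.2 (mem_Ce.2 (e.hj.tc 0))))
  (S0K e)

theorem S3J (hy : y ∈ E.S0) (y3 : y ^ 3 = 1) (n : y ∉ E.Q 1 ⊔ E.Q 2) : y ∈ E.J := by
  obtain ⟨q, hq, k, rfl⟩ := (memS e.h3 e.hj).1 hy
  rcases z3 k with rfl | rfl | rfl
  · exact (n (by rwa [zp_zero, mul_one])).elim
  · rw [zp_one] at y3 ⊢
    exact SJ e.h3 e.hj hq y3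
  · rw [zp_neg (e.hj.hz ▸ (H3.dc e.h3 E.h).ord), zp_one] at y3 ⊢
    have h2 : (q * E.t⁻¹)⁻¹ = E.t * q⁻¹ * E.t⁻¹ * E.t := by group
    refine inv_mem_iff.1 (h2 ▸ SJ e.h3 e.hj (conj_mem_of_mem_normalizer (le_normalizer_sup
      (H := E.D.B) (fun _ k => (BN k 1).2) (fun _ k => (BN k 2).2) e.hj.tB) (inv_mem hq)) ?_)
    rw [← h2, inv_pow, y3, inv_one]

theorem ab12 (hT : T ≤ E.Q 1 ⊔ E.Q 2) (ab : T ≤ cn T) : Nat.card T ≠ 81 := fun k => by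
  have h := e.h3
  have h1 := H12.card_sup_mul_card_inf ((h.QQ 1 2 (by decide)).trans (centralizer_le_normalizer _))
  rw [le_antisymm (fun _ e => infQ h (by decide) e.1 e.2) (le_inf (co h 1).zle (co h 2).zle :
    zpowers E.D.z ≤ E.D.Q 1 ⊓ E.D.Q 2), Nat.card_zpowers, h.ord, (co h 1).card, (co h 2).card] at h1
  change Nat.card ↥(E.Q 1 ⊔ E.Q 2) * _ = _ at h1
  have h2 : ∀ i, Nat.card ↥(T ⊔ E.Q i) * Nat.card ↥(T ⊓ E.Q i) = 81 * 27 := fun i => by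
    rw [H12.card_sup_mul_card_inf fun x hx => (BN (QB h (sup_le (Qle 1) (Qle 2) (hT hx))) i).2, k,
      (co h i).card]
  have h3 : Nat.card ↥(T ⊓ E.Q 2) ≤ 9 := by
    obtain ⟨n, hn, k⟩ := (Nat.dvd_prime_pow (m := 3) Nat.prime_three).1
      (((co h 2).card ▸ card_dvd_of_le inf_le_right : Nat.card ↥(T ⊓ E.Q 2) ∣ 27))
    rcases hn.eq_or_lt with rfl | hn
    · have := inf_eq_right.1 (eq_of_le_of_card_ge inf_le_right ((co h 2).card.trans k.symm).le)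
      exact ((co h 2).not_le_cn (this.trans (ab.trans (centralizer_anti this)))).elim
    · exact k ▸ Nat.pow_le_pow_right three_pos (Nat.le_of_lt_succ hn)
  have h4 : T ⊔ E.Q 2 = E.Q 1 ⊔ E.Q 2 := eq_of_le_of_card_ge (sup_le hT le_sup_right) (by
    have := h2 2
    have := Nat.mul_le_mul_left (Nat.card ↥(T ⊔ E.Q 2)) h3
    omega)
  have h5 : T ⊓ E.Q 1 ≤ zpowers E.z := fun a ha => (co h 1).center ha.2 (centralizer_anti
    (le_sup_left.trans h4.ge) (le_centralizer_iff.1 (sup_le (le_centralizer_iff.1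
      (zpowers_le.2 (ab ha.1))) (le_centralizer_iff.1 (zpowers_le.2 (h.QQ 1 2 (by decide) ha.2))))
      (mem_zpowers a)))
  have h6 := card_le_of_le h5
  have h7 := card_le_of_le (sup_le hT le_sup_left : T ⊔ E.Q 1 ≤ _)
  rw [Nat.card_zpowers, h.ord] at h6
  have := Nat.mul_le_mul h7 h6
  rw [h2] at this
  omega

theorem mvJ (hq : q ∈ E.Q i) : ∃ p ∈ E.R i, p * q * p⁻¹ ∈ E.J := by
  by_cases n : q ∈ zpowers E.z
  · exact ⟨1, one_mem _, by simpa using zpowers_le.2 (zJ' e) n⟩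
  obtain ⟨p, hp, k, hk⟩ := mv e hq n (e.hj.cQ i) (e.hj.cz i)
  exact ⟨p, hp, hk ▸ mul_mem (zp_mem' (zJ' e) k) (cJ' e i)⟩

theorem ord3 (hy : y ∈ E.S0) (y3 : y ^ 3 = 1) : ∃ k ∈ E.Y, k * y * k⁻¹ ∈ E.I := by
  by_cases n : y ∈ E.Q 1 ⊔ E.Q 2
  swap
  · exact ⟨1, one_mem _, by simpa using mem_inf.2 ⟨S3J e hy y3 n, S0K e hy⟩⟩
  obtain ⟨a, ha, b, hb, rfl⟩ := (mem_sup_left_norm
    ((e.h3.QQ 1 2 (by decide)).trans (centralizer_le_normalizer _))).1 n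
  obtain ⟨p, hp, k1⟩ := mvJ e ha
  obtain ⟨q, hq, k2⟩ := mvJ e hb
  have RY : ∀ i, 0 ≠ i → E.R i ≤ E.Y := fun i k p hp =>
    mem_inf.2 ⟨mem_Ce.2 (Rc e hp k _ (e.hj.cQ 0)).symm, (RN e hp).2 0⟩
  have h1 := mul_mem (RY 1 (by decide) hp) (RY 2 (by decide) hq)
  refine ⟨_, h1, mem_inf.2 ⟨?_, mul_mem (mul_mem h1.2 (S0K e hy)) (inv_mem h1.2)⟩⟩
  have h2 := Rc e hp (j := 2) (by decide) _ ((co e.h3 2).conj_mem (BN (RB e hq) 2) hb)
  have : p * q * (a * b) * (p * q)⁻¹ = p * a * p⁻¹ * (q * b * q⁻¹) := by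
    calc _ = p * (q * a) * q⁻¹ * p⁻¹ * (p * (q * b * q⁻¹)) * p⁻¹ := by group
      _ = _ := by rw [← h2, ← Rc e hq (j := 1) (by decide) a ha]; group
  exact this ▸ mul_mem k1 k2

theorem el_Ce (hy : y ∈ Ce E.t) (hz : y ∈ Ce E.z) (a b : ZMod 3) :
    y * el E.z E.t E.c a b (Pi.single 0 1) * y⁻¹ = zp E.t a * zp E.z b * (y * E.c 0 * y⁻¹) := by
  rw [el_eq, cc_single, ← conj_mul, ← conj_mul, zp_conj hy, zp_conj hz]

theorem cI (hy : y ∈ cn E.I) (y3 : y ^ 3 = 1) : y ∈ JJ E.D E.c := by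
  have h := e.h3
  have C := co h 0
  have k : ∀ x ∈ E.J, x ∈ E.K → y ∈ Ce x := fun x h1 h2 => mem_Ce.2 (hy x ⟨h1, h2⟩).symm
  have yz := k _ (zJ' e) (Ce_symm (Bz (ty e 0).B))
  have yt := k _ (tJ' e) (mem_Ce.2 (e.hj.tr 0))
  have yc : ∀ j, j ≠ 0 → y ∈ Ce (E.c j) := fun j n =>
    k _ (cJ' e j) (mem_Ce.2 (e.hj.rc 0 j n _ (e.hj.cQ j)))
  have hB := BN (B_two e yz yc) 0
  have tB := BN e.hj.tB 0
  have h1 := C.conj_mem hB (e.hj.cQ 0)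
  have h2 := (((H84.PS.sl_one _).2 (m3 h e.hj.tB e.hj.t3 0)).2.2
    (fun n => e.hj.tm 0 (by rw [n, one_pow])) _
    (H84.PS.fix_of_comm C tB (e.hj.cQ 0) (e.hj.tc 0).symm)).2 _ (H84.PS.fix_of_comm C tB h1
      (mem_Ce.1 (mul_mem (mul_mem yt (mem_Ce.2 (e.hj.tc 0).symm)) (inv_mem yt))))
  obtain ⟨s, hs⟩ := C.conj_of_m hB (e.hj.cQ 0) (H84.PS.fix_of C hB
    (m3 h (B_two e yz yc) y3 0) (e.hj.cQ 0) ((C.comm_iff h1 (e.hj.cQ 0)).2 h2))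
  have h3 := Zt_cj ((e.hj.zset 1 (-1) (Pi.single 0 1)).2
    ⟨fun n => one_ne_zero (e.hj.el_inj _ _ _ n).1, by decide⟩) y
  rw [el_Ce e yt yz, hs, ← mul_assoc, mul_assoc (zp _ _), ← zp_add h.ord, ← cc_single (c := E.c) 0,
    ← el_eq] at h3
  rw [(by decide : ∀ s : ZMod 3, ∀ a : Fin 3 → ZMod 3, a = Pi.single 0 1 →
    a 0 * a 0 + a 1 * a 1 + a 2 * a 2 + 1 * 1 * (-1 + s) = 0 → s = 0) s _ rfl
    ((e.hj.zset _ _ _).1 h3).2, zp_zero, one_mul] at hs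
  refine mem_JJ.2 ⟨yz, fun j => ?_⟩
  by_cases n : j = 0
  exacts [n ▸ mem_Ce'.2 hs, yc j n]

end

variable (n : NJ1 E)
include n

theorem φ0 : E.φ 0 = 1 := left_eq_mul.1 ((n.add 0 0).symm.trans (by rw [add_zero])).symm

theorem Jab : E.J ≤ cn E.J := fun x hx y hy => by
  obtain ⟨u, rfl⟩ := (n.memJ x).1 hx
  obtain ⟨v, rfl⟩ := (n.memJ y).1 hy
  rw [← n.add, ← n.add, add_comm]

theorem J3 (hy : y ∈ E.J) : y ^ 3 = 1 := by
  obtain ⟨v, rfl⟩ := (n.memJ y).1 hy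
  rw [pow_three', ← n.add, ← n.add, (by decide +kernel : ∀ v : V5, v + v + v = 0), φ0 n]

theorem cardI : Nat.card E.I = 81 := by
  rw [← card_v]
  refine (Nat.card_congr (Equiv.ofBijective (fun v : {v : V5 // v 2 = 0} =>
    (⟨E.φ v, (n.memI _).2 ⟨v, v.2, rfl⟩⟩ : E.I)) ⟨fun u v k => Subtype.ext (sub_eq_zero.1
      (n.inj _ (mul_eq_right.1 (show _ * E.φ v = _ from ?_)))), fun y => ?_⟩)).symm
  · rw [← n.add, sub_add_cancel]
    exact congrArg Subtype.val k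
  · obtain ⟨v, hv, k⟩ := (n.memI y).1 y.2
    exact ⟨⟨v, hv⟩, Subtype.ext k⟩

variable (e : E1 E)
include e

theorem IS : E.I ≤ E.S0 := fun y hy => by
  obtain ⟨v, hv, rfl⟩ := (n.memI y).1 hy
  have q1 : E.Q 1 ≤ E.S0 := le_sup_left.trans le_sup_left
  refine mul_mem (mul_mem (zp_mem' (mem_sup_right (mem_zpowers _)) _)
    (zp_mem' (q1 (e.h3.sd 1).zmem) _)) (mul_mem (mul_mem ?_ (zp_mem' (q1 (e.hj.cQ 1)) _))
    (zp_mem' (mem_sup_left (mem_sup_right (e.hj.cQ 2))) _))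
  change zp _ (v 2) ∈ _
  rw [hv, zp_zero]
  exact one_mem _

theorem wcI (hT : T ≤ E.S0) (ab : T ≤ cn T) (t3 : ∀ a ∈ T, a ^ 3 = 1) (k : Nat.card T = 81) :
    T = E.I := by
  obtain ⟨s, hs, ns⟩ := SetLike.not_le_iff_exists.1 fun l => ab12 e l ab k
  refine eq_of_le_of_card_ge (le_inf (fun y hy => ?_) (hT.trans (S0K e))) ((cardI n).trans k.symm).le
  by_cases l : y ∈ E.Q 1 ⊔ E.Q 2
  · exact (mul_mem_cancel_right (S3J e (hT hs) (t3 s hs) ns)).1 (S3J e (hT (mul_mem hy hs))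
      (t3 _ (mul_mem hy hs)) fun l' => ns ((mul_mem_cancel_left l).1 l'))
  · exact S3J e (hT hy) (t3 y hy) l

theorem SI : E.S0 ≤ nr E.I := fun s hs => cj_eq_self_iff.1 (wcI n e
  ((cj_mono s (IS n e)).trans (cj_eq_self (le_normalizer hs)).le)
  ((cj_mono s (inf_le_left.trans ((Jab n).trans (centralizer_anti inf_le_left)))).trans
    (cj_centralizer s _).le) (by
    rintro _ ⟨a, ha, rfl⟩
    rw [← map_pow, J3 n ha.1, map_one]) (by rw [card_cj, cardI n]))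

omit n in
theorem nI : nr E.I ≤ nr E.J := fun g hg => e.hj.nJ (mem_normalizer_of_cj_le (by
  rintro _ ⟨a, ha, rfl⟩
  exact cI e (conj_cn' hg (centralizer_anti (inf_le_left.trans (J_JJ e.hj)) (e.hj.Jab ha)))
    (by rw [← map_pow, e.hj.J3 a ha, map_one])))

theorem nIY (hg : g ∈ E.K ⊓ nr E.I) : g ∈ E.Y ∨ g * E.r 0 ∈ E.Y := by
  have oc : orderOf (E.c 0) = 3 := orderOf_eq_prime (J3 n (cJ' e 0)) fun k =>
    e.hj.cz 0 (k ▸ one_mem _)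
  obtain ⟨v, hv⟩ := (n.memJ _).1 (conj_mem_of_mem_normalizer (nI e hg.2) (cJ' e 0))
  have h1 : E.φ (Pi.single 2 (v 2)) = zp (E.c 0) (v 2) := by
    simp [Dat.φ, el_eq, cc, zp_zero]
  have h2 := (n.memI _).2 ⟨v - Pi.single 2 (v 2), by simp, rfl⟩
  rw [← sub_add_cancel v (Pi.single 2 (v 2)), n.add, h1] at hv
  generalize E.φ (v - Pi.single 2 (v 2)) = w at hv h2
  have h3 : E.r 0 * (g * E.c 0 * g⁻¹) * (E.r 0)⁻¹ = (g * E.c 0 * g⁻¹)⁻¹ := by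
    rw [← conj_mul, ← conj_mul, ← conj_inv, mem_Ce'.1 (Ce_symm hg.1), e.hj.rcr, conj_inv]
  rw [← hv, ← conj_mul, mem_Ce'.1 (Ce_symm h2.2), zp_cj, e.hj.rcr, zp, zp, inv_pow, mul_inv_rev,
    ← Jab n (inv_mem (pow_mem (cJ' e 0) _)) _ (inv_mem h2.1), mul_left_inj, eq_inv_iff_mul_eq_one] at h3
  rw [show w = 1 by rw [← J3 n h2.1, pow_three, h3, mul_one], one_mul] at hv
  rcases z3 (v 2) with k | k | k <;> rw [k] at hv
  · rw [zp_zero, eq_comm, conj_eq_one_iff] at hv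
    exact (e.hj.cz 0 (hv ▸ one_mem _)).elim
  · exact .inl (mem_inf.2 ⟨mem_Ce'.2 (by rw [← hv, zp_one]), hg.1⟩)
  · refine .inr (mem_inf.2 ⟨mem_Ce'.2 ?_, mul_mem hg.1 (mem_Ce.2 rfl)⟩)
    calc _ = g * (E.r 0 * E.c 0 * (E.r 0)⁻¹) * g⁻¹ := by group
      _ = _ := by rw [e.hj.rcr, ← conj_inv, ← hv, zp_neg oc, zp_one, inv_inv]

theorem rf : RF E where
  memR _ _ := memR e
  RB _ _ := RB e
  Rinj _ _ := Rinj e
  Ronto := Ronto e
  cardR := cardR e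
  Rr _ j _ hp := (RN e hp).2 j
  rR := rR e
  RR _ _ := RR e
  R3 _ _ := R3 e
  nR _ _ := nR e
  πQ := πQ e
  πR i := cjR e (CeN e.hj.πz) (e.hj.πr i)
  πJ := nrJ' e e.hj.πz fun i => ⟨_, e.πc i⟩
  cz _ := cz e
  nI := nI e
  nIY _ := nIY n e
  cardI := cardI n
  IS := IS n e
  SY := SY e
  SI := SI n e
  wcI _ := wcI n e
  ord3 _ := ord3 e

omit n e in
theorem jobN1 : H46.E6B.JobN1.{u} := fun _ _ _ _ e n => rf n e

end H39.E6B.N
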