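import Cfsg.Agent.H47.E6V
import Cfsg.Agent.H39.E6BK

/-! `JobN2` of `H46.E6BSpec` (blueprint `E6B.md`); port of `H47.E6N2`. -/

set_option autoImplicit false
set_option linter.unusedSectionVars false
set_option maxRecDepth 100000

open Cfsg Subgroup H98 H42.L3 H7.PS H39.F22 H39.E6 H47.E6
open H78.F22 hiding jty jtf jnQ jfr QO QiO zO tO memS sylz sylc SO SJ zreal
open H46.E6B (HV1 HJ4 E1 NJ1)
open H56.L3 (Ce Nz)
open H28.PS (SL3 Zt)
open scoped Matrix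

namespace H39.E6B

universe u

variable {G : Type*} [Group G] [Finite G] {D : D3 G} {g k t π : G} {c r x : Fin 3 → G}
  {ε : ZMod 3} {J : Subgroup G}

section

variable (h : H3 D) (full : Full D) (H : HJ4 D t c r x π k ε J)
include h full H

theorem mvc (hg : g ∈ Nz D.z) : ∃ p ∈ NN h r, ∀ i, ∃ n,
    p * g * c i * (p * g)⁻¹ = zp D.z n * c (sg D g i) := by
  have h1 : ∀ i, g * c i * g⁻¹ ∈ D.Q (sg D g i) := fun i => sg_spec h hg i ▸ conj_mem_cj (H.cQ i)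
  have h2 : ∀ i, g * c i * g⁻¹ ∉ zpowers D.z := fun i e => H.cz i (by
    rwa [← cj_eq_self hg, conj_mem_cj_iff] at e)
  choose A hA e using fun j => H84.PS.sl_tr _ _
    (H84.PS.lne (co h _) (h1 ((sg D g).symm j)) (h2 _)) (H84.PS.lne (co h j) (H.cQ j) (H.cz j))
  obtain ⟨p, hp, e1⟩ := full A hA
  obtain ⟨p', hp', e2⟩ := onN h (jty h H) hp
  refine ⟨p', hp', fun i => ?_⟩
  rw [show p' * g * c i * (p' * g)⁻¹ = p' * (g * c i * g⁻¹) * p'⁻¹ by group]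
  refine (co h _).eq_zp ((co h _).conj_mem (BN hp'.1.1 _) (h1 i)) (H.cQ _) ?_
  have := e (sg D g i)
  rw [Equiv.symm_apply_apply] at this
  rw [(co h _).act _ (BN hp'.1.1 _) _ (h1 i), e2, e1, this]

theorem exπ : ∃ π ∈ Ce D.z, (∀ i, π * r i * π⁻¹ = r (i + 1)) ∧ ∀ i, π * c i * π⁻¹ = c (i + 1) := by
  obtain ⟨p, hp, e⟩ := mvc h full H (CeN H.πz)
  have h1 : ∀ i, p * π * r i * (p * π)⁻¹ = r (i + 1) := fun i => by
    rw [← mem_Ce'.1 (hp.2 (i + 1)), ← H.πr]; group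
  refine ⟨p * π, mul_mem (Bz hp.1.1) H.πz, h1, fun i => ?_⟩
  have h2 : sg D π i = i + 1 := by_contra fun n => neg_ne ((H.rm (i + 1)).symm.trans
    ((H.πr i ▸ (jty h H i).conj h H.πz).one _ (Ne.symm n)))
  obtain ⟨n, e⟩ := e i
  rw [h2] at e
  have h3 : r (i + 1) * (zp D.z n * c (i + 1)) * (r (i + 1))⁻¹ = (zp D.z n * c (i + 1))⁻¹ := by
    rw [← e, ← h1, conj_inv (a := c i), ← H.rcr i]; group
  rw [← conj_mul, H.rcr, zp_conj (Bz (H.rB _)), mul_inv_rev, ← zp_neg h.ord, zp_comm ((co h _).le_Ce (inv_mem (H.cQ _))), mul_left_inj] at h3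
  rw [e, (by decide : ∀ n : ZMod 3, n = -n → n = 0) n (zp_inj h.ord h3), zp_zero, one_mul]

theorem flip (v : HV1 D) (e : ε = -1) : ∃ k', HJ4 D t⁻¹ c r (fun i => (x i)⁻¹) π k' 1 J := by
  subst e
  have ot : orderOf t = 3 := H.hz ▸ (H3.dc h k).ord
  obtain ⟨s, hs⟩ := zreal h H v
  have h0 : s ∈ Nz D.z := mem_Nz.2 (hs ▸ inv_mem (mem_zpowers _))
  obtain ⟨p, hp, e⟩ := mvc h full H h0
  have h1 : p * s * D.z * (p * s)⁻¹ = D.z⁻¹ := by
    rw [show p * s * D.z * (p * s)⁻¹ = p * (s * D.z * s⁻¹) * p⁻¹ by group, hs, ← conj_inv,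
      mem_Ce'.1 (Bz hp.1.1)]
  have h2 : p * s ∈ nr J := H.nJ (nrJ (h1 ▸ inv_mem z_cnJ) fun i =>
    let ⟨n, e⟩ := e i; e ▸ mul_mem (zp_mem' z_cnJ n) (c_cnJ _))
  have h3 : ∀ a b α, el D.z t⁻¹ c a b α = el D.z t c (-a) b α := fun a b α => by
    rw [el_eq, el_eq, zp_neg ot, zp, inv_pow]; rfl
  have h4 := fun i α => xel (α := α) h (jtf h H) (H.xQ i) (H.xt i) (H.xc i)
  have h5 : ∀ i a b, el D.z t c a b (Pi.single i 1) = zp t a * c i * zp D.z b := fun i a b => by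
    rw [el_eq, cc_single, mul_assoc, mul_assoc, zp_comm ((co h i).le_Ce (H.cQ i))]
  refine ⟨k * (p * s), { H with
    eps := .inl rfl, tB := inv_mem H.tB, t3 := by rw [inv_pow, H.t3, inv_one]
    tm := fun i => by rw [m_inv h H.tB, inv_pow]; exact mt inv_eq_one.1 (H.tm i)
    tc := fun i => (show Commute _ _ from H.tc i).inv_left
    tr := fun i => (show Commute _ _ from H.tr i).inv_left
    xQ := fun i => inv_mem (H.xQ i), xt := fun i => ?_, xc := fun i => ?_, memJ := fun g => ?_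
    el_inj := fun a b α e => ?_, zset := fun a b α => ?_, hJ := mul_mem H.hJ h2, hz := ?_, At := ?_ }⟩
  · have := h4 i (Pi.single i 1) (-1) (-1)
    rw [h5, zp_neg ot, zp_one, Pi.single_eq_same, neg_smul, one_smul, add_neg_cancel,
      show (-1 - -1 * -1 + -1 * 1 : ZMod 3) = 0 by decide, el_eq, zp_neg ot, zp_one, zp_zero, cc_zero,
      mul_one, mul_one] at this
    conv_lhs => rw [← this]
    simp only [zp]; group
  · have := h4 i (Pi.single i 1) 0 1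
    rw [h5, Pi.single_eq_same, zero_smul, add_zero, show (1 - -1 * 0 + -1 * 1 : ZMod 3) = 0 by decide,
      h5, zp_zero, zp_zero, one_mul, mul_one] at this
    conv_lhs => rw [← this]
    simp only [zp]; group
  · rw [H.memJ]
    exact ⟨fun ⟨a, b, α, e⟩ => ⟨-a, b, α, by rw [h3, neg_neg, e]⟩, fun ⟨a, b, α, e⟩ => ⟨_, b, α, h3 a b α ▸ e⟩⟩
  · simpa using H.el_inj _ _ _ ((h3 a b α).symm.trans e)
  · rw [h3, H.zset]; simp
  · rw [← H.hz, conj_inv, ← h1]; group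
  · change J ⊓ cj _ _ = _
    rw [← H98.cj_cj, cj_eq_self (NQ h (mul_mem (CeN (Bz hp.1.1)) h0)), show J ⊓ cj k _ = _ from H.At]
    exact le_antisymm ((closure_le _).2 (Set.insert_subset (inv_mem_iff.1 (subset_closure (by simp)))
      fun _ e => subset_closure (.inr e))) ((closure_le _).2 (Set.insert_subset
      (inv_mem (subset_closure (by simp))) fun _ e => subset_closure (.inr e)))

end

variable {E : Dat G} {f f' : V5 → V5} {a a' : G} {u v : V5} {i j : Fin 3}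

theorem act_mul (ha : E.Act a f) (ha' : E.Act a' f') : E.Act (a * a') (fun v => f (f' v)) := fun v => by
  rw [← ha, ← ha']; group

/-- `f` is induced by an element of `N(J)` -/
def Re (E : Dat G) (f : V5 → V5) : Prop := ∃ g ∈ nr E.J, E.Act g f

theorem Re.mul (a : Re E f) (b : Re E f') : Re E fun v => f (f' v) :=
  let ⟨_, a1, a2⟩ := a; let ⟨_, b1, b2⟩ := b; ⟨_, mul_mem a1 b1, act_mul a2 b2⟩

theorem Re.one : Re E fun v => v := ⟨1, one_mem _, fun v => by simp⟩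

section

variable (h : H3 E.D) (H : HJ4 E.D E.t E.c E.r E.x E.π E.h 1 E.J)
include h H

theorem φ_add (u v : V5) : E.φ (u + v) = E.φ u * E.φ v := by
  rw [Dat.φ, Dat.φ, Dat.φ, ← el_add h (jtf h H)]
  congr 1
  ext i; fin_cases i <;> rfl

omit h H in
theorem φ_zero : E.φ 0 = 1 := by
  rw [← el_zero (D := E.D) (t := E.t) (c := E.c), Dat.φ]
  congr 1
  ext i; fin_cases i <;> rfl

theorem φ_neg (v : V5) : E.φ (-v) = (E.φ v)⁻¹ := by
  rw [eq_inv_iff_mul_eq_one, ← φ_add h H, neg_add_cancel, φ_zero]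

omit h in
theorem φ_one (e : E.φ v = 1) : v = 0 := by
  obtain ⟨h1, h2, h3⟩ := H.el_inj _ _ _ e
  ext i; fin_cases i
  exacts [h1, h2, congrFun h3 0, congrFun h3 1, congrFun h3 2]

theorem φ_inj (e : E.φ u = E.φ v) : u = v := sub_eq_zero.1 (φ_one H (by
  rw [sub_eq_add_neg, φ_add h H, φ_neg h H, e, mul_inv_cancel]))

omit h in
theorem φ_J : g ∈ E.J ↔ ∃ v, E.φ v = g := (H.memJ g).trans
  ⟨fun ⟨a, b, α, e⟩ => ⟨![a, b, α 0, α 1, α 2], e ▸ by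
    rw [Dat.φ]; congr 1; ext i; fin_cases i <;> rfl⟩, fun ⟨_, e⟩ => ⟨_, _, _, e.symm⟩⟩

omit h in
theorem φ_Z : Zt E.z (E.φ v) ↔ v ≠ 0 ∧ q5 v = 0 := (H.zset _ _ _).trans (and_congr
  ⟨fun n e => n (e ▸ φ_zero), fun n e => n (φ_one H e)⟩ (Eq.congr_left (by simp [q5]; ring)))

omit h H in
theorem φ_t : E.φ vt = E.t := by simp [Dat.φ, vt, el, ZMod.val_one]

omit h H in
theorem φ_z : E.φ vz = E.z := by simp [Dat.φ, vz, el, ZMod.val_one]

omit h H in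
theorem φ_c (i : Fin 3) : E.φ (vc i) = E.c i := by
  fin_cases i <;> simp [Dat.φ, vc, el, ZMod.val_one]

theorem φ_comm (u v : V5) : E.φ u * E.φ v = E.φ v * E.φ u := by
  rw [← φ_add h H, add_comm, φ_add h H]

theorem act_J (u : V5) : E.Act (E.φ u) fun v => v := fun v => by
  rw [φ_comm h H, mul_inv_cancel_right]

theorem act_nr (ha : E.Act a f) : a ∈ nr E.J := mem_normalizer_of_cj_le (by
  rintro _ ⟨b, hb, rfl⟩
  obtain ⟨v, rfl⟩ := (φ_J H).1 hb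
  exact (φ_J H).2 ⟨_, (ha v).symm⟩)

theorem act_of (hf : ∀ u v, f (u + v) = f u + f v) (ht : a * E.t * a⁻¹ = E.φ (f vt))
    (hz : a * E.z * a⁻¹ = E.φ (f vz)) (hc : ∀ i, a * E.c i * a⁻¹ = E.φ (f (vc i))) : E.Act a f :=
  fun v => ind5 (P := fun v => a * E.φ v * a⁻¹ = E.φ (f v))
    (by rw [show f 0 = 0 from (AddMonoidHom.mk' f hf).map_zero, φ_zero, mul_one, mul_inv_cancel])
    (fun u v a b => by rw [hf, φ_add h H, φ_add h H, ← a, ← b, conj_mul]) (φ_z (E := E) ▸ hz)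
    (fun i => φ_c (E := E) i ▸ hc i) v fun _ => φ_t (E := E) ▸ ht

theorem act_r (i : Fin 3) : E.Act (E.r i) (rf (vc i)) := by
  obtain ⟨h1, h2, h3, h4⟩ := (by decide +kernel : ∀ i, rf (vc i) vt = vt ∧ rf (vc i) vz = vz ∧
    rf (vc i) (vc i) = -vc i ∧ ∀ j, j ≠ i → rf (vc i) (vc j) = vc j) i
  refine act_of h H (rf_add _) (by rw [h1, φ_t, ← H.tr, mul_inv_cancel_right])
    (by rw [h2, φ_z, mem_Ce'.1 (Bz (H.rB i))]) fun j => ?_
  by_cases e : j = i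
  · rw [e, h3, φ_neg h H, φ_c, H.rcr]
  · rw [h4 j e, φ_c, ← H.rc i j e _ (H.cQ j), mul_inv_cancel_right]

theorem act_x (i : Fin 3) : E.Act (E.x i) (sie vz (vc i)) := fun v => by
  rw [Dat.φ, xel h (jtf h H) (H.xQ i) (H.xt i) (H.xc i), sie_z rfl, Dat.φ]
  congr 1
  · fin_cases i <;> simp [vc] <;> ring
  · ext j; fin_cases i <;> fin_cases j <;> simp [vc]

theorem iso (hg : g ∈ nr E.J) :
    ∃ f, E.Act g f ∧ (∀ u v, f (u + v) = f u + f v) ∧ ∀ v, q5 (f v) = q5 v := by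
  choose f hf using fun v => (φ_J H).1 (conj_mem_of_mem_normalizer hg ((φ_J H).2 ⟨v, rfl⟩))
  have h1 : ∀ u v, f (u + v) = f u + f v := fun u v => φ_inj h H (by
    rw [φ_add h H, hf, hf, hf, φ_add h H, conj_mul])
  have h2 : Function.Injective f := fun u v e => φ_inj h H (by
    simpa using (hf u).symm.trans ((congrArg E.φ e).trans (hf v)))
  have h3 : ∀ v, q5 (f v) = 0 ↔ q5 v = 0 := fun v => by
    by_cases e : v = 0
    · rw [e, show f 0 = 0 from (AddMonoidHom.mk' f h1).map_zero]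
    have : Zt E.z (E.φ (f v)) ↔ Zt E.z (E.φ v) := by
      rw [hf]; exact ⟨fun e => by simpa [mul_assoc] using Zt_cj e g⁻¹, fun e => Zt_cj e g⟩
    rwa [φ_Z H, φ_Z H, and_iff_right e, and_iff_right fun e1 => e (φ_one H (by
      simpa [e1, φ_zero] using (hf v).symm))] at this
  refine ⟨f, fun v => (hf v).symm, h1, fun v => ?_⟩
  have h4 : N5 v = N5 (f v) := Finset.card_bijective f (Finite.injective_iff_bijective.1 h2)
    fun s => by simp [← h1, h3]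
  have h5 := h3 v
  rcases N5_eq v with e | ⟨e, e'⟩ | ⟨e, e'⟩ <;> rcases N5_eq (f v) with a | ⟨a, a'⟩ | ⟨a, a'⟩ <;>
    first | exact a.trans e.symm | omega | (rw [a, e] at h5; exact absurd h5 (by decide))

/-- the maps induced by `N(J)` are isometries -/
theorem Re.iso (a : Re E f) : Function.Surjective f ∧ (∀ u v, f (u + v) = f u + f v) ∧
    (∀ (n : ZMod 3) v, f (n • v) = n • f v) ∧ (∀ u v, f (u - v) = f u - f v) ∧
    (∀ v, q5 (f v) = q5 v) ∧ ∀ u v, b5 (f u) (f v) = b5 u v := by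
  obtain ⟨g, hg, a⟩ := a
  obtain ⟨f', a', h1, h2⟩ := E6B.iso h H hg
  obtain rfl : f = f' := funext fun v => φ_inj h H ((a v).symm.trans (a' v))
  let F := AddMonoidHom.mk' f h1
  refine ⟨Finite.injective_iff_surjective.1 fun u v e => φ_inj h H (by
    simpa using (a u).trans ((congrArg E.φ e).trans (a v).symm)), h1, fun n v => ?_, F.map_sub, h2,
    fun u v => ?_⟩
  · rw [← ZMod.natCast_zmod_val n, Nat.cast_smul_eq_nsmul, Nat.cast_smul_eq_nsmul]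
    exact F.map_nsmul _ v
  · have := h2 (u + v)
    rwa [h1, q5_add, q5_add, h2, h2, add_right_inj] at this

theorem act_cj {s : V5 → V5} (ha : E.Act a f) (ha' : E.Act a' f') (e : ∀ v, f (f' v) = s (f v)) :
    E.Act (a * a' * a⁻¹) s := fun v => by
  obtain ⟨w, rfl⟩ := (Re.iso h H ⟨_, act_nr h H ha, ha⟩).1 v
  rw [← e, ← ha, ← ha, ← ha']; group

theorem Re.cj {s : V5 → V5} (a : Re E f) (b : Re E f') (e : ∀ v, f (f' v) = s (f v)) : Re E s :=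
  let ⟨_, a1, a2⟩ := a; let ⟨_, b1, b2⟩ := b
  ⟨_, mul_mem (mul_mem a1 b1) (inv_mem a1), act_cj h H a2 b2 e⟩

theorem Re.rf_eq (a : Re E f) (u v : V5) : f (rf u v) = rf (f u) (f v) := by
  obtain ⟨-, -, h1, h2, -, h3⟩ := a.iso h H
  simp only [rf, h1, h2, h3]

theorem re_z (e : u 0 = 0) : Re E (sie vz u) :=
  ind5 (P := fun u => u 0 = 0 ∧ Re E (sie vz u)) ⟨rfl, funext (sie_zero vz) ▸ Re.one⟩
    (fun u v a b => ⟨by simp [a.1, b.1], funext (sie_zz a.1 b.1) ▸ a.2.mul b.2⟩)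
    ⟨rfl, funext sie_self ▸ Re.one⟩ (fun i => ⟨rfl, _, act_nr h H (act_x h H i), act_x h H i⟩) u
    (fun n => absurd e n) |>.2

theorem re_t (e : u 1 = 0) : Re E (sie vt u) := by
  obtain ⟨f, a, -⟩ := iso h H H.hJ
  have b : Re E f := ⟨_, H.hJ, a⟩
  obtain ⟨h0, h1, h2, h3, h4, h5⟩ := b.iso h H
  have h6 : f vz = vt := φ_inj h H (by rw [← a, φ_z, φ_t, H.hz])
  obtain ⟨w, rfl⟩ := h0 u
  refine b.cj h H (re_z h H (u := w) ?_) fun v => by simp only [sie, h1, h2, h3, ← h6, h4, h5]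
  have := (h5 w vz).symm
  rw [h6] at this
  simpa [b5, vt, vz, e] using this

theorem re_rf (e : q5 u = 1) : Re E (rf u) := by
  have h1 : ∀ i, Re E (rf (vc i)) := fun i => ⟨_, act_nr h H (act_r h H i), act_r h H i⟩
  have h2 : ∀ {f u}, Re E f → Re E (rf u) → Re E (rf (f u)) := fun a b => a.cj h H b (a.rf_eq h H _)
  have h3 : ∀ {u}, Re E (rf u) → Re E (rf (-u)) := fun a => (funext (rf_neg _)).symm ▸ a
  have h4 : Re E (rf vw) := (by decide +kernel : sie vt (-vc 0) (sie vz (vc 0) (vc 0)) = vw) ▸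
    h2 (re_t h H (u := -vc 0) rfl) (h2 (re_z h H (u := vc 0) rfl) (h1 0))
  obtain ⟨i, rfl | rfl⟩ | ⟨s, hs, e⟩ := one_cases u e
  exacts [h1 i, h3 (h1 i), by
    have h5 : Re E (rf (s • vw)) := hs.elim (fun e => e.symm ▸ h4) fun e => e.symm ▸ h3 h4
    rcases e with e | e <;> rw [e]
    exacts [h2 (re_z h H (by simp [cp])) h5, h2 (re_t h H (by simp [cp])) h5]]

theorem fixr (ha : E.Act a f) (e : f (vc i) = vc j ∨ f (vc i) = -vc j) :
    ∃ n : ZMod 3, E.φ (n • vc j) * a * E.r i * (E.φ (n • vc j) * a)⁻¹ = E.r j := by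
  have h1 : E.Act (a * E.r i * a⁻¹) (rf (vc j)) := act_cj h H ha (act_r h H i) fun v => by
    rw [Re.rf_eq h H ⟨_, act_nr h H ha, ha⟩]
    rcases e with e | e <;> rw [e]
    rw [rf_neg]
  have ri : ∀ i, (E.r i)⁻¹ = E.r i := fun i => inv_eq_of_mul_eq_one_right (H.rsq i)
  have h0 : a * E.r i * a⁻¹ * (E.r j)⁻¹ ∈ JJ E.D E.c := (cnJ h H).le fun y hy => by
    obtain ⟨v, rfl⟩ := (φ_J H).1 hy
    obtain ⟨v, rfl⟩ := (Re.iso h H ⟨_, act_nr h H (act_r h H j), act_r h H j⟩).1 v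
    conv_lhs => rw [← h1]
    rw [← act_r h H j]; group
  have h0' : E.r j * (a * E.r i * a⁻¹ * (E.r j)⁻¹) * (E.r j)⁻¹ = (a * E.r i * a⁻¹ * (E.r j)⁻¹)⁻¹ := by
    conv_lhs => rw [← ri i, mul_assoc (E.r j), mul_assoc _ _ (E.r j)⁻¹, ← mul_inv_rev, H.rsq]
    group
  obtain ⟨w, hw⟩ := (φ_J H).1 (AJ h H h0 (Qle j (invQ h H h0 h0')))
  have h2 : rf (vc j) w = -w := φ_inj h H (by rw [← act_r h H j, φ_neg h H, hw, h0'])
  obtain ⟨n, rfl⟩ := (by decide +kernel : ∀ j w, rf (vc j) w = -w → ∃ n : ZMod 3, w = n • vc j) j w h2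
  refine ⟨n, ?_⟩
  have h3 : E.φ (n • vc j) * E.φ (n • vc j) * E.φ (n • vc j) = 1 := by
    rw [← φ_add h H, ← φ_add h H, ← add_smul, ← add_smul, (by decide : ∀ n : ZMod 3, n + n + n = 0),
      zero_smul, φ_zero]
  calc _ = E.φ (n • vc j) * (a * E.r i * a⁻¹ * (E.r j)⁻¹) * (E.r j * E.φ (n • vc j) * (E.r j)⁻¹)⁻¹ *
        E.r j := by group
    _ = _ := by rw [← hw, act_r h H, h2, φ_neg h H, inv_inv, h3, one_mul]

theorem YI (ha : a ∈ nr E.J) (hc : a ∈ Ce (E.c 0)) (hr : a ∈ Ce (E.r 0)) : a ∈ E.Y ⊓ nr E.I :=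
  ⟨⟨hc, hr⟩, le_normalizer_inf (H := nr E.J ⊓ Ce (E.r 0)) inf_le_left
    (inf_le_right.trans le_normalizer) ⟨ha, hr⟩⟩

theorem toY (a : Re E f) (e : f (vc 0) = vc 0) : ∃ g ∈ E.Y ⊓ nr E.I, E.Act g f := by
  obtain ⟨a, -, ha⟩ := a
  obtain ⟨n, hn⟩ := fixr h H ha (.inl e)
  have h1 := act_mul (act_J h H (n • vc 0)) ha
  exact ⟨_, YI h H (act_nr h H h1) (mem_Ce'.2 (by rw [← φ_c, h1]; exact congrArg _ e)) (mem_Ce'.2 hn), h1⟩

theorem re_z1 (e : Z1 u) : Re E (rf u) :=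
  e.elim (fun e => e ▸ funext rf_zero ▸ Re.one) (re_rf h H)

theorem nj : NJ1 E := by
  have hb : E.φ vb = E.b := by simp [Dat.φ, vb, el, ZMod.val_one]
  have h0 : ∀ u : V5, u 2 = 0 → rf u (vc 0) = vc 0 := by decide +kernel
  refine ⟨φ_add h H, fun _ => φ_one H, fun _ => φ_J H, fun g => ?_, fun _ => φ_Z H,
    fun _ => iso h H, fun _ => re_rf h H, fun u e e' => toY h H (re_rf h H e) (h0 u e'),
    fun a ha n => ?_, ?_⟩
  · have h1 : ∀ v, E.φ v ∈ Ce (E.r 0) ↔ v 2 = 0 := fun v => by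
      rw [← (by decide +kernel : ∀ v : V5, rf (vc 0) v = v ↔ v 2 = 0)]
      exact ⟨fun e => φ_inj h H ((act_r h H 0 v).symm.trans (mem_Ce'.1 (Ce_symm e))),
        fun e => Ce_symm (mem_Ce'.2 (by rw [act_r h H, e]))⟩
    exact ⟨fun e => let ⟨v, e1⟩ := (φ_J H).1 e.1; ⟨v, (h1 v).1 (e1 ▸ e.2), e1⟩,
      fun ⟨v, e, e1⟩ => e1 ▸ ⟨(φ_J H).2 ⟨v, rfl⟩, (h1 v).2 e⟩⟩
  · obtain ⟨v, rfl⟩ := (φ_J H).1 ha.1
    obtain ⟨h1, h2, h3, h4⟩ := typ_tab v ((by decide +kernel : ∀ v : V5, rf (vc 0) v = v → v 2 = 0) v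
      (φ_inj h H ((act_r h H 0 v).symm.trans (mem_Ce'.1 (Ce_symm ha.2))))) fun e => n (e ▸ φ_zero)
    obtain ⟨g, hg, e⟩ := toY h H ((re_z1 h H h3).mul ((re_z1 h H h2).mul (re_z1 h H h1)))
      (by rw [h0 _ rfl, h0 _ rfl, h0 _ rfl])
    refine ⟨g, hg, ?_⟩
    rw [e v, ← φ_z, ← φ_c, ← hb]
    simp only [List.mem_cons, List.not_mem_nil, or_false] at h4
    exact h4.imp (congrArg _) (Or.imp (congrArg _) (congrArg _))
  · obtain ⟨g, hg, e⟩ := toY h H ((re_rf h H (u := ![1, 2, 0, 1, 2]) (by decide)).mul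
      (re_rf h H (u := ![1, 2, 0, 2, 1]) (by decide))) (by decide +kernel)
    obtain ⟨n, hn⟩ := fixr h H (i := 2) (j := 1) e (by decide +kernel)
    refine ⟨_, mul_mem (YI h H (act_nr h H (act_J h H _)) (mem_Ce.2 (φ_c (E := E) 0 ▸ φ_comm h H _ _))
      (Ce_symm (mem_Ce'.2 ?_))) hg, hn⟩
    rw [act_r h H, (by decide +kernel : ∀ n : ZMod 3, rf (vc 0) (n • vc 1) = n • vc 1)]

theorem πt (hz : g ∈ Ce E.z) (hc : ∀ i, g * E.c i * g⁻¹ = E.c (i + 1)) : g * E.t = E.t * g := by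
  have h1 : g ∈ nr E.J := H.nJ (nrJ (by rw [mem_Ce'.1 hz]; exact z_cnJ) fun i => hc i ▸ c_cnJ _)
  obtain ⟨f, a, -⟩ := iso h H h1
  obtain ⟨-, -, -, -, h2, h3⟩ := Re.iso h H ⟨_, h1, a⟩
  have h4 : f vz = vz := φ_inj h H (by rw [← a, φ_z, mem_Ce'.1 hz])
  have h5 : ∀ i, f (vc i) = vc (i + 1) := fun i => φ_inj h H (by rw [← a, φ_c, φ_c, hc])
  rw [← mul_inv_eq_iff_eq_mul, ← φ_t, a, (by decide +kernel : ∀ w, q5 w = q5 vt →
    b5 w vz = b5 vt vz → (∀ i, b5 w (vc (i + 1)) = b5 vt (vc i)) → w = vt) _ (h2 vt) (by rw [← h3 vt vz, h4])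
    fun i => h5 i ▸ h3 vt (vc i)]

end

theorem jobN2 : H46.E6B.JobN2.{u} := fun G _ _ D t c r x π k ε J h full v H => by
  obtain ⟨t, x, k, H⟩ : ∃ t x k, HJ4 D t c r x π k 1 J := H.eps.elim (fun e => ⟨t, x, k, e ▸ H⟩)
    fun e => let ⟨k', H'⟩ := flip h full H v e; ⟨_, _, k', H'⟩
  obtain ⟨π', h1, h2, h3⟩ := exπ h full H
  have H' : HJ4 D t c r x π' k 1 J := { H with πz := h1, πr := h2 }
  exact ⟨⟨D, t, c, r, x, π', k, J⟩, rfl, ⟨h, full, v, H',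
    πt (E := ⟨D, t, c, r, x, π', k, J⟩) h H' h1 h3, h3⟩, nj (E := ⟨D, t, c, r, x, π', k, J⟩) h H'⟩

end H39.E6B
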