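import Cfsg.Agent.H21.F22W
import Cfsg.Agent.H46.E6BKit

/-! `JobW` of `H46.E6BSpec` (blueprint `E6B.md`); port of `H21.F22W` without `Nine`. -/

set_option autoImplicit false
set_option linter.unusedSectionVars false
set_option maxRecDepth 100000
set_option synthInstance.maxSize 2048

open Cfsg Subgroup H98 H42.L3 H7.PS H39.F22
open H21.F22 hiding Pr zQ' ab fusQ cyc_rel cyc_pair small wne fixC exC rr comp not3 one diagF jobW
open H46.E6B (bt bt_mul bt_inv bt_zp bt_Q Q_bt bt_diag relR)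
open H56.L3 (Ce Nz)
open H28.PS (SL3 Zt)
open H84.PS (sl_one adj lne zfus fixv cov fix_of_comm)
open scoped Matrix

namespace H39.E6B.W

universe u

variable {G : Type*} [Group G] [Finite G] {D E : D3 G} {a b c d e f g r x y : G} {i j k : Fin 3}
  {s : ZMod 3}

/-- a pair of commuting conjugates -/
structure Pr (D E : D3 G) : Prop where
  h : H3 D
  h' : H3 E
  cj : IsConj D.z E.z
  ce : E.z ∈ Ce D.z
  ne : E.z ∉ zpowers D.z

theorem Pr.mk' (h : H3 D) (e : g * D.z * g⁻¹ ∈ Ce D.z) (e' : g * D.z * g⁻¹ ∉ zpowers D.z) :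
    Pr D (cjD g D) := ⟨h, H3_cj h g, isConj_iff.2 ⟨g, rfl⟩, e, e'⟩

theorem Pr.symm (p : Pr D E) : Pr E D := ⟨p.h', p.h, p.cj.symm, mem_Ce.2 (mem_Ce.1 p.ce).symm,
  fun e => p.ne (of_ne_one p.h'.ord e (fun k => by simpa [k] using p.h.ord) (mem_zpowers _))⟩

theorem Pr.cube (p : Pr D E) : E.z ^ 3 = 1 := z_cube p.h'.ord

theorem Ce_sw (e : a ∈ Ce b) : b ∈ Ce a := mem_Ce.2 (mem_Ce.1 e).symm

theorem ce0 {z : G} (e : y * c * y⁻¹ = zp z 0 * c) : c ∈ Ce y := by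
  rw [zp_zero, one_mul] at e
  exact mem_Ce.2 (mul_inv_eq_iff_eq_mul.1 e).symm

theorem sl_par : ∀ A : SL3, A ^ 3 = 1 → A ≠ 1 → ∀ v : W2, A.1 *ᵥ v = v → ∀ w : W2, A.1 *ᵥ w = w →
    om2 v w = 0 ∧ ∃ α β : ZMod 3, ¬ (α = 0 ∧ β = 0) ∧ α • v + β • w = 0 := by decide +kernel

theorem m_bt (h : H3 D) (hy : y ∈ D.B) (y3 : y ^ 3 = 1) : D.m i y = 1 ↔ bt D y i = 0 :=
  ⟨fun e => (H78.F22.chi_eq _).2 (by rw [e, one_pow]), fun e =>
    (H78.F22.sl_q8 _ ((H78.F22.chi_eq _).1 e)).1 (m_cube h hy y3 i)⟩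

/-- an element that commutes with `y` and acts trivially on `Q j / ⟨z⟩` centralizes `[Q j, y]` -/
theorem cen_im (h : H3 D) (hy : y ∈ D.B) (hd : d ∈ D.B) (e : d ∈ Ce y) (n : D.m j d = 1)
    (hc : c ∈ D.Q j) (im : ∃ u : W2, D.l j c = u - (D.m j y).1 *ᵥ u) : d ∈ Ce c := by
  obtain ⟨u, hu⟩ := im
  obtain ⟨q, hq, rfl⟩ := (co h j).l_surj u
  have h1 := (co h j).conj_mem (Bi hy j) hq
  obtain ⟨n', hn⟩ := (co h j).eq_zp hc (mul_mem hq (inv_mem h1)) (by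
    rw [(co h j).l_mul _ hq _ (inv_mem h1), (co h j).l_inv h1, (co h j).act _ (Bi hy j) q hq, hu,
      sub_eq_add_neg])
  obtain ⟨t, ht⟩ := (co h j).conj_of_m (Bi hd j) hq (by simp [n])
  have h2 : d * (y * q * y⁻¹) * d⁻¹ = zp D.z t * (y * q * y⁻¹) := by
    calc _ = d * y * q * (d * y)⁻¹ := by group
      _ = y * (d * q * d⁻¹) * y⁻¹ := by rw [mem_Ce.1 e]; group
      _ = _ := by rw [ht, ← conj_mul, zp_conj (Bz hy)]
  refine mem_Ce'.2 ?_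
  rw [hn, ← conj_mul, zp_conj (Bz hd), ← conj_mul, ht, ← conj_inv, h2,
    ← zp_comm ((co h j).le_Ce hq), ← zp_comm ((co h j).le_Ce h1), mul_assoc q, mul_inv_rev,
    mul_inv_cancel_left]

/-- two independent elements of `C_Q(y)` -/
theorem two (h : H3 D) (hy : y ∈ D.B) (y3 : y ^ 3 = 1) : ∃ e1 ∈ D.QQ ⊓ Ce y, ∃ e2 ∈ D.QQ ⊓ Ce y,
    ∃ i j, L D e1 i ≠ 0 ∧ L D e2 i = 0 ∧ L D e2 j ≠ 0 := by
  choose c hc nc f using fun i => fixv (co h i) (m_cube h hy y3 i)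
  choose s hs using fun i => (co h i).conj_of_m (Bi hy i) (hc i) (f i)
  have l : ∀ i, L D (c i) i ≠ 0 := fun i => L_self h (hc i) ▸ lne (co h i) (hc i) (nc i)
  by_cases s0 : ∀ i, s i = 0
  · exact ⟨_, ⟨Q_le 0 (hc 0), ce0 (s0 0 ▸ hs 0)⟩, _, ⟨Q_le 1 (hc 1), ce0 (s0 1 ▸ hs 1)⟩, 0, 1, l 0,
      L_ne h (hc 1) (by decide), l 1⟩
  obtain ⟨k, hk⟩ := not_forall.1 s0
  have ex : ∀ j, j ≠ k → ∃ e ∈ D.QQ ⊓ Ce y, L D e j ≠ 0 ∧ ∀ i, j ≠ i → k ≠ i → L D e i = 0 :=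
    fun j n => by
      obtain ⟨m, hm⟩ := adj h.ord ((co h k).le_Ce (hc k)) (hs k) hk (hs j)
      have eL := L_mul h (Q_le k (pow_mem (hc k) m)) (Q_le j (hc j))
      exact ⟨_, ⟨mul_mem (Q_le k (pow_mem (hc k) m)) (Q_le j (hc j)), hm⟩,
        by simpa [eL, L_ne h (pow_mem (hc k) m) n.symm] using l j,
        fun i h1 h2 => by simp [eL, L_ne h (pow_mem (hc k) m) h2, L_ne h (hc j) h1]⟩
  obtain ⟨i, j, ij, ik, jk⟩ := others k
  obtain ⟨c, hc, c2, -⟩ := ex i ik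
  obtain ⟨d, hd, d2, d3⟩ := ex j jk
  exact ⟨c, hc, d, hd, i, j, c2, d3 i ij.symm ik.symm, d2⟩

theorem L_rel (h : H3 D) (ha : a ∈ D.QQ) (hb : b ∈ D.QQ) (α β γ : ZMod 3) :
    zp a α * zp b β * zp D.z γ ∈ D.QQ ∧
      L D (zp a α * zp b β * zp D.z γ) = α • L D a + β • L D b := by
  have q1 : zp a α ∈ D.QQ := pow_mem ha _
  have q2 : zp b β ∈ D.QQ := pow_mem hb _
  have q3 := zQ h (zp_mem γ)
  exact ⟨mul_mem (mul_mem q1 q2) q3, by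
    rw [L_mul h (mul_mem q1 q2) q3, L_mul h q1 q2, L_zz h, add_zero, L_zp h ha, L_zp h hb]⟩

theorem ind (h : H3 D) (ha : a ∈ D.QQ) (hb : b ∈ D.QQ) (a1 : L D a i ≠ 0) (a2 : L D b i = 0)
    (a4 : L D b j ≠ 0) {α β γ : ZMod 3} (e : zp a α * zp b β * zp D.z γ = 1) :
    α = 0 ∧ β = 0 ∧ γ = 0 := by
  have eL := (L_rel h ha hb α β γ).2
  rw [e, L_one h] at eL
  obtain rfl : α = 0 := by simpa [a1, a2] using (congrFun eL i).symm
  obtain rfl : β = 0 := by simpa [a4] using (congrFun eL j).symm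
  exact ⟨rfl, rfl, zp_eq_one h.ord (by simpa [zp_zero] using e)⟩

variable (p : Pr D E) (w : WC D) (w' : WC E)

include p w' in
theorem zQ' (hx : x ∈ zpowers D.z) (e : x ∈ E.QQ) : x = 1 :=
  by_contra fun n => p.symm.ne (w' _ (of_ne_one p.h.ord hx n e) p.cj.symm)

include p w' in
theorem com1 (ha : a ∈ D.QQ) (hb : b ∈ D.QQ) (e : a * b * a⁻¹ * b⁻¹ ∈ E.QQ) : a * b = b * a :=
  mul_inv_eq_iff_eq_mul.1 (mul_inv_eq_one.1 (zQ' p w' (comz p.h ha hb) e))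

include p w' in
theorem FE (ha : a ∈ D.QQ ⊓ Ce E.z) (hf : f ∈ D.QQ ⊓ E.QQ) : a * f = f * a :=
  com1 p w' ha.1 hf.1 (mul_mem (cjQ p.h' ha.2 hf.2) (inv_mem hf.2))

include p w' in
theorem NB (ha : a ∈ D.QQ ⊓ E.B) (hb : b ∈ D.QQ ⊓ E.B) : a * b = b * a := by
  have h1 := cjB p.h' (Bz ha.2) hb.2
  refine com1 p w' ha.1 hb.1 (Q_bt p.h' (mul_mem h1 (inv_mem hb.2))
    (cube_of_mem p.h.ord (comz p.h ha.1 hb.1)) ?_)
  rw [bt_mul p.h' h1 (inv_mem hb.2), bt_mul p.h' (mul_mem ha.2 hb.2) (inv_mem ha.2),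
    bt_mul p.h' ha.2 hb.2, bt_inv p.h' ha.2, bt_inv p.h' hb.2]
  abel

include p w w'

theorem fusQ (hx : x ∈ D.QQ) (hx' : x ∈ E.QQ) (e : IsConj E.z (x * E.z)) : x = 1 :=
  zQ' p.symm w ((Subgroup.mul_mem_cancel_right _ (mem_zpowers _)).1
    (w' _ (mul_mem hx' (zmem p.h')) e)) hx

section

variable (ha : a ∈ D.QQ ⊓ Ce E.z) (hb : b ∈ D.QQ ⊓ Ce E.z) (n : a * b ≠ b * a) (na : a ∉ E.B)
include ha hb n na

theorem eB (he : e ∈ D.QQ ⊓ Ce E.z) (e1 : e ∈ Ce a) (e2 : e ∈ Ce b) : e ∈ E.B := by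
  by_contra ne
  have k : ∀ {a}, a ∈ D.QQ ⊓ Ce E.z → ∃ m : ℕ, e ^ m * a ∈ D.QQ ⊓ E.B := fun {a} ha => by
    obtain ⟨m, hm⟩ := (by decide : ∀ σ : Equiv.Perm (Fin 3), σ ^ 3 = 1 → σ ≠ 1 →
      ∀ τ : Equiv.Perm (Fin 3), τ ^ 3 = 1 → ∃ m : Fin 3, σ ^ m.val * τ = 1) _
      (sg_cube p.h' he.2 (cubeQ p.h he.1)) (mt (B_iff p.h' he.2).2 ne) _
      (sg_cube p.h' ha.2 (cubeQ p.h ha.1))
    exact ⟨m, mul_mem (pow_mem he.1 _) ha.1, (B_iff p.h' (mul_mem (pow_mem he.2 _) ha.2)).2 (by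
      rw [sg_mul p.h' (pow_mem he.2 _) ha.2, sg_pow p.h' he.2, hm])⟩
  obtain ⟨m, hm⟩ := k ha
  obtain ⟨m', hm'⟩ := k hb
  have := NB p w' hm hm'
  rw [mul_assoc, mul_assoc, ← mul_assoc a, ← mul_assoc b, ← mem_Ce.1 (pow_mem e1 m'),
    ← mem_Ce.1 (pow_mem e2 m), ← mul_assoc, ← mul_assoc, ← mul_assoc, ← mul_assoc, pow_mul_comm,
    mul_assoc, mul_assoc _ b, mul_right_inj] at this
  exact n this

theorem diag (he : e ∈ D.QQ ⊓ Ce E.z) (e1 : e ∈ Ce a) (e2 : e ∈ Ce b) (i : Fin 3) :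
    bt E e i = bt E e 0 :=
  bt_diag p.h' ha.2 (cubeQ p.h ha.1) na (eB p w w' ha hb n na he e1 e2) (by
    rw [mem_Ce'.1 (Ce_sw e1), mul_inv_cancel]; exact one_mem _) i

theorem zB : D.z ∈ E.B ∧ bt E D.z 0 ≠ 0 ∧ ∀ i, bt E D.z i = bt E D.z 0 := by
  have k : D.z ∈ D.QQ ⊓ Ce E.z := ⟨zmem p.h, p.symm.ce⟩
  have k1 := Ce_sw (Qz p.h ha.1)
  have k2 := Ce_sw (Qz p.h hb.1)
  have k3 := diag p w w' ha hb n na k k1 k2
  have k4 := eB p w w' ha hb n na k k1 k2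
  exact ⟨k4, fun e => p.symm.ne (w' _ (Q_bt p.h' k4 p.symm.cube (funext fun i => (k3 i).trans e))
    p.cj.symm), k3⟩

theorem toF (he : e ∈ D.QQ ⊓ Ce E.z) (e1 : e ∈ Ce a) (e2 : e ∈ Ce b) :
    ∃ f ∈ D.QQ ⊓ E.QQ, L D f = L D e := by
  obtain ⟨k1, k2, k3⟩ := zB p w w' ha hb n na
  have k4 := eB p w w' ha hb n na he e1 e2
  obtain ⟨t, ht⟩ := (by decide : ∀ x y : ZMod 3, y ≠ 0 → ∃ t, x + t * y = 0) (bt E e 0) _ k2
  have q := mul_mem he.1 (zQ p.h (zp_mem t))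
  refine ⟨_, ⟨q, Q_bt p.h' (mul_mem k4 (pow_mem k1 _)) (cubeQ p.h q) (funext fun i => ?_)⟩, by
    rw [L_mul p.h he.1 (zQ p.h (zp_mem t)), L_zz p.h, add_zero]⟩
  rw [bt_mul p.h' k4 (show zp D.z t ∈ E.B from pow_mem k1 _), bt_zp p.h' k1, Pi.add_apply,
    Pi.smul_apply, diag p w w' ha hb n na he e1 e2, k3]
  exact ht

theorem cycF (hf : f ∈ D.QQ ⊓ E.QQ) (hg : g ∈ D.QQ ⊓ E.QQ) :
    ∃ α β : ZMod 3, ¬ (α = 0 ∧ β = 0) ∧ α • L D f + β • L D g = 0 := by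
  obtain ⟨k1, k2, -⟩ := zB p w w' ha hb n na
  obtain ⟨α, β, h1, h2⟩ := (sl_par _ (m_cube p.h' k1 p.symm.cube 0)
    (mt (m_bt p.h' k1 p.symm.cube).1 k2) _ (fixL p.h' k1 hf.2 (Ce_sw (Qz p.h hf.1)) 0) _
    (fixL p.h' k1 hg.2 (Ce_sw (Qz p.h hg.1)) 0)).2
  have q : zp f α * zp g β ∈ D.QQ ⊓ E.QQ := mul_mem (pow_mem hf _) (pow_mem hg _)
  have := zQ' p.symm w (cycz p.h' ha.2 na (cubeQ p.h ha.1) (mem_Ce.2 (FE p w' ha q))
    (cn_of_L p.h' (i := 0) q.2 (by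
      rw [L_mul p.h' (x := zp f α) (y := zp g β) (pow_mem hf.2 _) (pow_mem hg.2 _), L_zp p.h' hf.2,
        L_zp p.h' hg.2]
      exact h2))) q.1
  refine ⟨α, β, h1, ?_⟩
  rw [← L_zp p.h hf.1, ← L_zp p.h hg.1, 
    ← L_mul p.h (x := zp f α) (y := zp g β) (pow_mem hf.1 _) (pow_mem hg.1 _)]
  exact (congrArg (L D) this).trans (L_one p.h)

variable (yB : E.z ∈ D.B)
include yB

omit hb n na in
theorem parE (m : D.m i E.z ≠ 1) (hc : c ∈ D.Q i) (f : (D.m i E.z).1 *ᵥ D.l i c = D.l i c) :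
    c ∈ Ce a := Ce_sw ((comm_iff p.h ha.1 (Q_le i hc)).2 (by
  rw [L_single p.h hc, om_single]
  exact (sl_par _ (m_cube p.h yB p.cube i) m _ (fixL p.h yB ha.1 (Ce_sw ha.2) i) _ f).1))

theorem caseA (ij : i ≠ j) (mi : D.m i E.z ≠ 1) (mj : D.m j E.z ≠ 1) : False := by
  have h := p.h
  choose c hc nc f using fun i => fixv (co h i) (m_cube h yB p.cube i)
  choose s hs using fun i => (co h i).conj_of_m (Bi yB i) (hc i) (f i)
  have l : ∀ i, D.l i (c i) ≠ 0 := fun i => lne (co h i) (hc i) (nc i)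
  have key : ∀ i j, i ≠ j → D.m i E.z ≠ 1 → D.m j E.z ≠ 1 → s i = 0 := fun i j ij mi mj => by
    by_contra s0
    obtain ⟨m, hm⟩ := adj h.ord ((co h i).le_Ce (hc i)) (hs i) s0 (hs j)
    obtain ⟨x, hx, eL⟩ := toF p w w' ha hb n na
      ⟨mul_mem (Q_le i (pow_mem (hc i) m)) (Q_le j (hc j)), hm⟩
      (mul_mem (pow_mem (parE p w w' ha yB mi (hc i) (f i)) m) (parE p w w' ha yB mj (hc j) (f j)))
      (mul_mem (pow_mem (parE p w w' hb yB mi (hc i) (f i)) m) (parE p w w' hb yB mj (hc j) (f j)))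
    rw [L_mul h (Q_le i (pow_mem (hc i) m)) (Q_le j (hc j)), L_pow h (Q_le i (hc i)),
      ← one_smul (ZMod 3) (L D (c j))] at eL
    have := fusQ p w w' hx.1 hx.2 (fus h yB ((co h i).le_Ce (hc i)) (hs i) s0 hx.1 (eL ▸ Im.lin
      (L_single h (hc i) ▸ Im_single (sl_im _ (m_cube h yB p.cube i) mi _ (f i)).1)
      (L_single h (hc j) ▸ Im_single (sl_im _ (m_cube h yB p.cube j) mj _ (f j)).1) _ _))
    rw [this, L_one h] at eL
    exact l j (by simpa [L_ne h (hc i) ij, L_self h (hc j)] using (congrFun eL j).symm)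
  obtain ⟨x, hx, e1⟩ := toF p w w' ha hb n na ⟨Q_le i (hc i), ce0 (key i j ij mi mj ▸ hs i)⟩
    (parE p w w' ha yB mi (hc i) (f i)) (parE p w w' hb yB mi (hc i) (f i))
  obtain ⟨x', hx', e2⟩ := toF p w w' ha hb n na ⟨Q_le j (hc j), ce0 (key j i ij.symm mj mi ▸ hs j)⟩
    (parE p w w' ha yB mj (hc j) (f j)) (parE p w w' hb yB mj (hc j) (f j))
  obtain ⟨α, β, h1, h2⟩ := cycF p w w' ha hb n na hx hx'
  rw [e1, e2] at h2
  exact h1 ⟨by simpa [L_ne h (hc j) ij.symm, L_self h (hc i), l i] using congrFun h2 i,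
    by simpa [L_ne h (hc i) ij, L_self h (hc j), l j] using congrFun h2 j⟩

theorem caseB (ij : i ≠ j) (ik : i ≠ k) (jk : j ≠ k) (mi : D.m i E.z = 1) (mj : D.m j E.z = 1)
    (mk : D.m k E.z ≠ 1) : False := by
  have h := p.h
  obtain ⟨c, hc, nc, f⟩ := fixv (co h k) (m_cube h yB p.cube k)
  obtain ⟨s, hs⟩ := (co h k).conj_of_m (Bi yB k) hc f
  have fx : ∀ x ∈ D.QQ, L D x k = 0 → ∃ n, E.z * x * E.z⁻¹ = zp D.z n * x := fun x hx e =>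
    conj_of_fix h yB hx fun l => by
      rcases third i j k l ij ik jk with rfl | rfl | rfl
      exacts [by simp [mi], by simp [mj], by simp [e]]
  choose σ hσ eσ using fun v : W2 × W2 => L_surj h (Pi.single i v.1 + Pi.single j v.2)
  have σk : ∀ v, L D (σ v) k = 0 := fun v => by simp [eσ, ik.symm, jk.symm]
  choose n1 h1 using fun v => fx _ (hσ v) (σk v)
  obtain ⟨u, v, uv, e⟩ := Fintype.exists_ne_map_eq_of_card_lt (fun v =>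
    (n1 v, om (L D a) (L D (σ v)), om (L D b) (L D (σ v)))) (by simp)
  simp only [Prod.mk.injEq] at e
  have cc : ∀ g t, g * σ u * g⁻¹ = t * σ u → g * σ v * g⁻¹ = t * σ v → (σ v)⁻¹ * σ u ∈ Ce g :=
    fun g t e1 e2 => Ce_sw (mem_Ce'.2 (by rw [← conj_mul, ← conj_inv, e1, e2]; group))
  have q := mul_mem (inv_mem (hσ v)) (hσ u)
  have eL := L_mul h (inv_mem (hσ v)) (hσ u)
  obtain ⟨x, hx, e1⟩ := toF p w w' ha hb n na ⟨q, cc _ _ (h1 u) (e.1 ▸ h1 v)⟩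
    (cc _ _ (conjQ h ha.1 (hσ u)) (e.2.1 ▸ conjQ h ha.1 (hσ v)))
    (cc _ _ (conjQ h hb.1 (hσ u)) (e.2.2 ▸ conjQ h hb.1 (hσ v)))
  rw [eL, L_inv h (hσ v)] at e1
  have xk : L D x k = 0 := by simp [e1, σk]
  obtain ⟨l, lk, xl⟩ : ∃ l, l ≠ k ∧ L D x l ≠ 0 := by
    by_contra! k0
    have e2 := k0 i ik
    have e3 := k0 j jk
    simp only [e1, eσ, Pi.add_apply, Pi.neg_apply, Pi.single_eq_same, Pi.single_eq_of_ne ij,
      Pi.single_eq_of_ne ij.symm, add_zero, zero_add, neg_add_eq_zero] at e2 e3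
    exact uv (Prod.ext e2.symm e3.symm)
  by_cases s0 : s = 0
  · obtain ⟨x', hx', e2⟩ := toF p w w' ha hb n na ⟨Q_le k hc, ce0 (s0 ▸ hs)⟩
      (parE p w w' ha yB mk hc f) (parE p w w' hb yB mk hc f)
    obtain ⟨α, β, h1, h2⟩ := cycF p w w' ha hb n na hx hx'
    rw [e2] at h2
    exact h1 ⟨by simpa [L_ne h hc lk.symm, xl] using congrFun h2 l,
      by simpa [xk, L_self h hc, lne (co h k) hc nc] using congrFun h2 k⟩
  · obtain ⟨t, ht⟩ := om2_nd _ xl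
    obtain ⟨q, hq, rfl⟩ := (co h l).l_surj t
    obtain ⟨t, e2⟩ := fx q (Q_le l hq) (L_ne h hq lk)
    obtain ⟨m, hm⟩ := adj h.ord ((co h k).le_Ce hc) hs s0 e2
    refine ht ?_
    rw [← om_single, ← L_single h hq, ← comm_iff h hx.1 (Q_le l hq)]
    exact Ce_sw ((mul_mem_cancel_left (pow_mem (Ce_sw (mem_Ce.2 (cn_of_L h hx.1 xk c hc).symm)) m)).1
      (mem_Ce.2 (FE p w' ⟨mul_mem (Q_le k (pow_mem hc m)) (Q_le l hq), hm⟩ hx)))

omit yB in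
theorem ab0 : False := by
  have h := p.h
  by_cases yB : E.z ∈ D.B
  · obtain ⟨k, mk⟩ := not_forall.1 fun e => zQ' p.symm w (mem_zpowers _) (h.ker _ yB e) ▸ p.ne <|
      one_mem _
    obtain ⟨i, j, ij, ik, jk⟩ := others k
    exact caseB p w w' ha hb n na yB ij ik jk (by_contra fun e => caseA p w w' ha hb n na yB ik e mk)
      (by_contra fun e => caseA p w w' ha hb n na yB jk e mk) mk
  · obtain ⟨s, u, hu, rfl⟩ := cyc_dec h p.ce yB p.cube ha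
    obtain ⟨t, v, hv, rfl⟩ := cyc_dec h p.ce yB p.cube hb
    have N1 := Qz h (Nm_spec h p.ce yB p.cube hu).1.1
    have N2 := Qz h (Nm_spec h p.ce yB p.cube hv).1.1
    have k : Commute (Nm E.z u) (Nm E.z v) := by
      have z1 : ∀ t, Nm E.z (zp D.z t) = 1 := fun t => by
        rw [Nm, zp_conj p.ce, zp_conj p.ce, ← pow_three', cube_of_mem h.ord (zp_mem t)]
      rw [Commute, SemiconjBy, ← Nm_mul h p.ce yB p.cube hu hv, ← Nm_mul h p.ce yB p.cube hv hu,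
        (co h 0).comm u hu v hv, Nm_mul h p.ce yB p.cube ((co h 0).zp_mem _) (mul_mem hv hu), z1,
        one_mul]
    exact n (Commute.mul_left (Commute.mul_right (zp_comm (Qz h (zQ h (zp_mem s))) t)
      (zp_comm N2 s).symm) (Commute.mul_right (zp_comm N1 t) k))

end

theorem ab (ha : a ∈ D.QQ ⊓ Ce E.z) (hb : b ∈ D.QQ ⊓ Ce E.z) : a * b = b * a := by_contra fun n =>
  n (NB p w' ⟨ha.1, by_contra (ab0 p w w' ha hb n)⟩ ⟨hb.1, by_contra (ab0 p w w' hb ha (Ne.symm n))⟩)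

theorem cyc_rel (nB : E.z ∉ D.B) (ha : a ∈ D.QQ ⊓ E.QQ) (hb : b ∈ D.QQ ⊓ E.QQ) :
    ∃ α β : ZMod 3, ¬ (α = 0 ∧ β = 0) ∧ zp a α * zp b β = 1 := by
  have h := p.h
  obtain ⟨n, u, hu, e⟩ := cyc_dec h p.ce nB p.cube ⟨ha.1, Qz p.h' ha.2⟩
  obtain ⟨n', u', hu', e'⟩ := cyc_dec h p.ce nB p.cube ⟨hb.1, Qz p.h' hb.2⟩
  obtain ⟨α, β, h1, h2⟩ := (by decide : ∀ n n' : ZMod 3, ∃ α β : ZMod 3, ¬ (α = 0 ∧ β = 0) ∧
    α * n + β * n' = 0) n n'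
  have k : ∀ (n α : ZMod 3) (x : G), x ∈ Ce D.z → zp (zp D.z n * x) α = zp D.z (α * n) * zp x α :=
    fun n α x hx => by
      rw [zp, (show Commute (zp D.z n) x from (zp_comm hx n).symm).mul_pow, zp, ← pow_mul,
        ← zp_natCast h.ord, Nat.cast_mul, ZMod.natCast_zmod_val, ZMod.natCast_zmod_val, mul_comm n]
      rfl
  have N1 := (Nm_spec h p.ce nB p.cube hu).1.1
  have N2 := (Nm_spec h p.ce nB p.cube hu').1.1
  have h3 : zp a α * zp b β = Nm E.z (zp u α * zp u' β) := by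
    rw [Nm_zp h p.ce nB p.cube hu hu', e, e', k _ _ _ (Qz h N1), k _ _ _ (Qz h N2), mul_assoc,
      ← mul_assoc (zp (Nm _ u) α), zp_comm (g := zp (Nm _ u) α) (Qz h (pow_mem N1 _)), mul_assoc, ← mul_assoc,
      ← zp_add h.ord, h2, zp_zero, one_mul]
  refine ⟨α, β, h1, fusQ p w w' (mul_mem (pow_mem ha.1 _) (pow_mem hb.1 _))
    (mul_mem (pow_mem ha.2 _) (pow_mem hb.2 _)) ?_⟩
  exact h3 ▸ (Nm_spec h p.ce nB p.cube (mul_mem (pow_mem hu _) (pow_mem hu' _))).2.1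

theorem cyc_pair (nB : E.z ∉ D.B) : ∃ y ∈ E.B, IsConj E.z y ∧ y ∉ zpowers E.z := by
  have h := p.h
  obtain ⟨a, ha, b, hb, e1, e2⟩ := (co h 0).basis
  have N1 := (Nm_spec h p.ce nB p.cube ha).1
  have N2 := (Nm_spec h p.ce nB p.cube hb).1
  obtain ⟨α, β, h1, h2⟩ := (by decide : ∀ σ : Equiv.Perm (Fin 3), σ ^ 3 = 1 → ∀ τ : Equiv.Perm (Fin 3),
    τ ^ 3 = 1 → ∃ α β : ZMod 3, ¬ (α = 0 ∧ β = 0) ∧ σ ^ α.val * τ ^ β.val = 1) _
    (sg_cube p.h' N1.2 (cubeQ h N1.1)) _ (sg_cube p.h' N2.2 (cubeQ h N2.1))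
  have hu : zp a α * zp b β ∈ D.Q 0 := mul_mem (pow_mem ha _) (pow_mem hb _)
  obtain ⟨k1, k2, k3⟩ := Nm_spec h p.ce nB p.cube hu
  refine ⟨_, mul_mem ((B_iff p.h' k1.2).2 ?_) (QB p.h' (zmem p.h')), k2, fun e => h1 ?_⟩
  · rw [Nm_zp h p.ce nB p.cube ha hb, zp, zp, sg_mul p.h' (pow_mem N1.2 _) (pow_mem N2.2 _), sg_pow p.h' N1.2,
      sg_pow p.h' N2.2, h2]
  · rw [zQ' p.symm w ((Subgroup.mul_mem_cancel_right _ (mem_zpowers _)).1 e) k1.1, L_one h, zp, zp,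
      (co h 0).l_mul _ (pow_mem ha _) _ (pow_mem hb _), (co h 0).l_pow ha, (co h 0).l_pow hb, e1, e2,
      ZMod.natCast_zmod_val, ZMod.natCast_zmod_val] at k3
    exact ⟨by simpa using (congrFun k3 0).symm, by simpa using (congrFun k3 1).symm⟩

variable (yB : E.z ∈ D.B)
include yB

omit w w' in
theorem rho (hr : r ∈ D.B) (hx : r * E.z * r⁻¹ * E.z⁻¹ ∈ D.QQ) (m : ∀ j, D.m j r * D.m j r = 1)
    (im : Im D E.z (L D (r * E.z * r⁻¹ * E.z⁻¹))) :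
    ∃ ρ ∈ D.B, ρ ∈ Ce E.z ∧ ρ * ρ = 1 ∧ ∀ j, D.m j ρ = D.m j r := by
  have h := p.h
  obtain ⟨q, hq, n, hn⟩ := cov3 h yB hx im
  have tB := mul_mem (inv_mem (QB h hq)) hr
  have tm : ∀ j, D.m j (q⁻¹ * r) = D.m j r := fun j => by
    rw [m_mul h (inv_mem (QB h hq)) hr, mQ h (inv_mem hq), one_mul]
  have e : q⁻¹ * r * E.z * (q⁻¹ * r)⁻¹ = zp D.z (-n) * E.z := by
    calc _ = q⁻¹ * (r * E.z * r⁻¹ * E.z⁻¹ * E.z) * q := by group
      _ = q⁻¹ * (zp D.z (-n) * (q * E.z * q⁻¹)) * q := by rw [hn, zp_neg h.ord, inv_mul_cancel_left]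
      _ = _ := by rw [← mul_assoc q⁻¹, zp_comm (Qz h (inv_mem hq))]; group
  generalize q⁻¹ * r = t at tB tm e
  refine ⟨t ^ 3, pow_mem tB 3, mem_Ce.2 ((co h 0).cube_comm (Bz tB) e), ?_, fun j => by
    rw [m_pow h tB, tm, pow_three', m, one_mul]⟩
  rw [← (Commute.refl t).mul_pow]
  exact cubeQ h (h.ker _ (mul_mem tB tB) fun j => by rw [m_mul h tB tB, tm, m])

omit yB in
theorem relρ (hr : r ∈ D.B) (r1 : r ∈ Ce E.z) (hc : c ∈ D.Q i) (hd : d ∈ D.Q j) (c1 : c ∈ Ce E.z)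
    (d1 : d ∈ Ce E.z) (mi : D.m i r = -1) (mj : D.m j r = -1) :
    ∃ α β γ : ZMod 3, ¬ (α = 0 ∧ β = 0 ∧ γ = 0) ∧ zp c α * zp d β * zp D.z γ ∈ E.QQ := by
  have h := p.h
  have k : ∀ {i c}, c ∈ D.Q i → D.m i r = -1 → r * c * r⁻¹ * c ∈ zpowers D.z := fun {i c} hc mi => by
    have h1 := (co h i).conj_mem (Bi hr i) hc
    rw [← (co h i).l_ker _ (mul_mem h1 hc), (co h i).l_mul _ h1 _ hc, (co h i).act _ (Bi hr i) c hc, mi,
      H78.F22.neg_vec, neg_add_cancel]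
  exact relR p.h' c1 d1 p.symm.ce (cubeQ h (Q_le i hc)) (cubeQ h (Q_le j hd)) (z_cube h.ord)
    (ab p w w' ⟨Q_le i hc, c1⟩ ⟨Q_le j hd, d1⟩) (mem_Ce.1 ((co h i).le_Ce hc))
    (mem_Ce.1 ((co h j).le_Ce hd)) r1 (k hc mi) (k hd mj) (mem_Ce.1 (Bz hr))

theorem small (hb : b ∈ Ce D.z) (e : E.z * b * E.z⁻¹ = zp D.z s * b) (hs : s ≠ 0) (ij : i ≠ j)
    (ik : i ≠ k) (jk : j ≠ k) (mi : D.m i E.z ≠ 1) (mj : D.m j E.z ≠ 1) (hc : c ∈ D.Q i)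
    (hd : d ∈ D.Q j) (nc : c ∉ zpowers D.z) (nd : d ∉ zpowers D.z) (c1 : c ∈ Ce E.z)
    (d1 : d ∈ Ce E.z) : False := by
  have h := p.h
  obtain ⟨r1, t1⟩ := H78.F22.ex_ty h i
  obtain ⟨r2, t2⟩ := H78.F22.ex_ty h j
  have rB := mul_mem t1.B t2.B
  have ri : D.m i (r1 * r2) = -1 := by rw [m_mul h t1.B t2.B, t1.neg, t2.one i ij, mul_one]
  have rj : D.m j (r1 * r2) = -1 := by rw [m_mul h t1.B t2.B, t2.neg, t1.one j ij.symm, one_mul]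
  have rk := mul_mem (t1.cn h ik.symm) (t2.cn h jk.symm)
  generalize r1 * r2 = r at rB ri rj rk
  have rm : ∀ l, D.m l r = 1 ∨ D.m l r = -1 := fun l => by
    rcases third i j k l ij ik jk with rfl | rfl | rfl
    exacts [.inr ri, .inr rj, .inl ((co h _).m_cn rk)]
  have hx : r * E.z * r⁻¹ * E.z⁻¹ ∈ D.QQ :=
    h.ker _ (mul_mem (cjB h (Bz rB) yB) (inv_mem yB)) fun l => by
      rw [m_com h rB yB]
      rcases rm l with e | e <;> simp [e]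
  have f : ∀ {l c}, c ∈ D.Q l → c ∈ Ce E.z → (D.m l E.z).1 *ᵥ D.l l c = D.l l c := fun hc c1 =>
    fix_of_comm (co h _) (Bi yB _) hc (mem_Ce.1 c1)
  have im : ∀ {l c}, c ∈ D.Q l → c ∉ zpowers D.z → c ∈ Ce E.z → D.m l E.z ≠ 1 → D.m l r = -1 →
      ∃ u : W2, L D (r * E.z * r⁻¹ * E.z⁻¹) l = u - (D.m l E.z).1 *ᵥ u := fun {l c} hc nc c1 m m' => by
    refine (sl_im _ (m_cube h yB p.cube l) m _ (f hc c1)).2 (lne (co h l) hc nc) _ ?_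
    have h0 := (co h l).conj_mem (Bi (inv_mem rB) l) hc
    obtain ⟨t, ht⟩ := (co h l).eq_zp h0 (inv_mem hc) (by
      rw [(co h l).act _ (Bi (inv_mem rB) l) c hc, m_inv h rB, m', (co h l).l_inv hc,
        show (-1 : SL3)⁻¹ = -1 by decide, H78.F22.neg_vec])
    have h1 : r⁻¹ * c * r⁻¹⁻¹ ∈ Ce E.z := ht ▸ mul_mem (pow_mem p.symm.ce _) (inv_mem c1)
    have h2 : c ∈ Ce (r * E.z * r⁻¹) := by simpa [mul_assoc] using conj_mem_Ce h1 r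
    rw [← om_single, ← L_single h hc, ← comm_iff h hx (Q_le l hc)]
    exact mul_mem (Ce_sw h2) (inv_mem (Ce_sw c1))
  obtain ⟨ρ, ρB, ρ1, -, ρm⟩ := rho p yB rB hx (fun l => by rcases rm l with e | e <;> simp [e])
    fun l => by
      rcases third i j k l ij ik jk with rfl | rfl | rfl
      exacts [im hc nc c1 mi ri, im hd nd d1 mj rj, ⟨0, by
        rw [L_cn h, Matrix.mulVec_zero, sub_zero]
        rw [mul_assoc, mul_assoc, ← mul_assoc E.z]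
        exact mul_mem rk (H78.F22.conj_cn' (Bi yB _).2 (inv_mem rk))⟩]
  obtain ⟨α, β, γ, n, hx⟩ := relρ p w w' ρB ρ1 hc hd c1 d1 ((ρm i).trans ri) ((ρm j).trans rj)
  obtain ⟨xQ, eL⟩ := L_rel h (Q_le i hc) (Q_le j hd) α β γ
  exact n (ind h (Q_le i hc) (Q_le j hd) (L_self h hc ▸ lne (co h i) hc nc) (L_ne h hd ij.symm)
    (L_self h hd ▸ lne (co h j) hd nd) (fusQ p w w' xQ hx (fus h yB hb e hs xQ (eL ▸ Im.lin
      (L_single h hc ▸ Im_single (sl_im _ (m_cube h yB p.cube i) mi _ (f hc c1)).1)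
      (L_single h hd ▸ Im_single (sl_im _ (m_cube h yB p.cube j) mj _ (f hd d1)).1) α β))))

theorem wne (k : Fin 3) : D.m k E.z ≠ 1 := fun e => by
  have h := p.h
  have fx : ∀ j, j ≠ k → ∀ c ∈ D.Q j, (D.m j E.z).1 *ᵥ D.l j c = D.l j c → c ∈ Ce E.z :=
    fun j n c hc f => by
      obtain ⟨s, hs⟩ := (co h j).conj_of_m (Bi yB j) hc f
      by_cases s0 : s = 0
      · exact ce0 (s0 ▸ hs)
      · obtain ⟨a, ha, b, hb, n'⟩ := nab h yB e hc n hs s0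
        exact absurd (ab p w w' ha hb) n'
  have nle : ∀ j, ¬ D.Q j ≤ Ce E.z := fun j k =>
    (co h j).not_le_cn fun a ha b hb => ab p w w' ⟨Q_le j hb, k hb⟩ ⟨Q_le j ha, k ha⟩
  have m : ∀ j, j ≠ k → D.m j E.z ≠ 1 := fun j n e' => nle j fun c hc => fx j n c hc (by simp [e'])
  obtain ⟨i, j, ij, ik, jk⟩ := others k
  obtain ⟨c, hc, nc, f⟩ := fixv (co h i) (m_cube h yB p.cube i)
  obtain ⟨d, hd, nd, f'⟩ := fixv (co h j) (m_cube h yB p.cube j)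
  obtain ⟨b, hb, nb⟩ := SetLike.not_le_iff_exists.1 (nle k)
  obtain ⟨s, hs⟩ := (co h k).conj_of_m (Bi yB k) hb (by simp [e])
  exact small p w w' yB ((co h k).le_Ce hb) hs (fun s0 => nb (ce0 (s0 ▸ hs))) ij ik jk (m i ik)
    (m j jk) hc hd nc nd (fx i ik c hc f) (fx j jk d hd f')

theorem covF (F1 : ∀ f ∈ D.QQ, f ∈ E.QQ → f = 1) : D.z ∈ E.B ∧
    ∀ v, ∃ x ∈ D.QQ ⊓ Ce E.z, x ∈ E.B ∧ bt E x = v := by
  have h := p.h
  obtain ⟨e1, h1, e2, h2, i, j, a1, a2, a3⟩ := two h yB p.cube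
  rcases H46.E6B.cov p.h' h1.2 h2.2 p.symm.ce (cubeQ h h1.1) (cubeQ h h2.1) (z_cube h.ord)
    (ab p w w' h1 h2) (mem_Ce.1 (Qz h h1.1)) (mem_Ce.1 (Qz h h2.1)) with
    ⟨α, β, γ, n, hx⟩ | ⟨b1, b2, b3, k⟩
  · exact absurd (ind h h1.1 h2.1 a1 a2 a3 (F1 _ (L_rel h h1.1 h2.1 α β γ).1 hx)) n
  · refine ⟨b3, fun v => ?_⟩
    obtain ⟨α, β, γ, e⟩ := k v
    have b4 : zp e1 α * zp e2 β * zp D.z γ ∈ E.B :=
      mul_mem (mul_mem (pow_mem b1 _) (pow_mem b2 _)) (pow_mem b3 _)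
    exact ⟨_, ⟨(L_rel h h1.1 h2.1 α β γ).1, Bz b4⟩, b4, e⟩

theorem fixC (ha : a ∈ D.Q k) (f : (D.m k E.z).1 *ᵥ D.l k a = D.l k a) : a ∈ Ce E.z := by
  have h := p.h
  obtain ⟨s, hs⟩ := (co h k).conj_of_m (Bi yB k) ha f
  by_contra na
  have s0 : s ≠ 0 := fun s0 => na (ce0 (s0 ▸ hs))
  have m := wne p w w' yB
  have im := fun j => sl_im _ (m_cube h yB p.cube j) (m j)
  have F1 : ∀ f ∈ D.QQ, f ∈ E.QQ → f = 1 := fun f hf hf' => fusQ p w w' hf hf'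
    (fus h yB ((co h k).le_Ce ha) hs s0 hf fun j =>
      (im j _ (fixL h yB hf (Ce_sw (Qz p.h' hf')) j)).1)
  have key : ∀ i, i ≠ k → ∀ c ∈ D.Q i, (D.m i E.z).1 *ᵥ D.l i c = D.l i c → c ∈ Ce E.z :=
    fun i ik c hc f' => by
      obtain ⟨t, ht⟩ := (co h i).conj_of_m (Bi yB i) hc f'
      by_contra nc
      obtain ⟨n, hn⟩ := adj h.ord ((co h i).le_Ce hc) ht (fun t0 => nc (ce0 (t0 ▸ ht))) hs
      obtain ⟨d, hd, dB, e⟩ := (covF p.symm w' w (covF p w w' yB F1).1 fun f a b => F1 f b a).2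
        (Pi.single k (bt D E.z k))
      have dy := Qz p.h' hd.1
      have q := mul_mem (Q_le i (pow_mem hc n)) (Q_le k ha)
      have d1 : d ∈ Ce (c ^ n * a) := by
        refine mem_Ce'.2 (mul_inv_eq_one.1 (F1 _ (mul_mem (cjQ h hd.2 q) (inv_mem q)) ?_))
        rw [mul_assoc, mul_assoc, ← mul_assoc (c ^ n * a)]
        exact mul_mem hd.1 (cjQ p.h' hn (inv_mem hd.1))
      have d2 : d ∈ Ce c := cen_im h yB dB dy ((m_bt h dB (cubeQ p.h' hd.1)).2 (by simp [e, ik])) hc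
        (im i _ f').1
      have d3 : a ∈ Ce d := (mul_mem_cancel_left (pow_mem (Ce_sw d2) n)).1 (Ce_sw d1)
      have q' := mul_mem yB (inv_mem dB)
      have d4 := cen_im h yB q' (mul_mem (mem_Ce.2 rfl) (inv_mem dy))
        ((m_bt h q' (cubeQ p.h' (mul_mem (zmem p.h') (inv_mem hd.1)))).2 (by
          simp [bt_mul h yB (inv_mem dB), bt_inv h dB, e])) ha (im k _ f).1
      exact na (Ce_sw ((mul_mem_cancel_right (inv_mem (Ce_sw d3))).1 d4))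
  obtain ⟨i, j, ij, ik, jk⟩ := others k
  obtain ⟨c, hc, nc, f1⟩ := fixv (co h i) (m_cube h yB p.cube i)
  obtain ⟨d, hd, nd, f2⟩ := fixv (co h j) (m_cube h yB p.cube j)
  exact small p w w' yB ((co h k).le_Ce ha) hs s0 ij ik jk (m i) (m j) hc hd nc nd
    (key i ik c hc f1) (key j jk d hd f2)

theorem exC (k : Fin 3) : ∃ c ∈ D.Q k, c ∉ zpowers D.z ∧ c ∈ Ce E.z := by
  obtain ⟨c, hc, nc, f⟩ := fixv (co p.h k) (m_cube p.h yB p.cube k)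
  exact ⟨c, hc, nc, fixC p w w' yB hc f⟩

theorem rr (i : Fin 3) : ∃ r, Sg D i r ∧ r ∈ Ce E.z ∧ r * r = 1 := by
  have h := p.h
  obtain ⟨r, hr⟩ : ∃ r, Sg D i r := h.neg i
  have hx := hr.com h yB
  obtain ⟨ρ, h1, h2, h3, h4⟩ := rho p yB hr.1 hx (fun j => by
    by_cases k : j = i
    · rw [k, hr.2.1]; simp
    · rw [hr.2.2 j k, one_mul]) fun j => by
    obtain ⟨c, hc, nc, e⟩ := exC p w w' yB j
    have f := fix_of_comm (co h j) (Bi yB j) hc (mem_Ce.1 e)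
    refine (sl_im _ (m_cube h yB p.cube j) (wne p w w' yB j) _ f).2 (lne (co h j) hc nc) _ ?_
    have h1 := fixC p w w' yB ((co h j).conj_mem (Bi (inv_mem hr.1) j) hc) (by
      rw [(co h j).act _ (Bi (inv_mem hr.1) j) c hc, Matrix.mulVec_mulVec, m_inv h hr.1,
        ← Matrix.SpecialLinearGroup.coe_mul, ((show Commute _ _ from hr.cen j _).inv_left).eq.symm,
        Matrix.SpecialLinearGroup.coe_mul, ← Matrix.mulVec_mulVec, f])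
    have h2 : c ∈ Ce (r * E.z * r⁻¹) := by simpa [mul_assoc] using conj_mem_Ce h1 r
    rw [← om_single, ← L_single h hc, ← comm_iff h hx (Q_le j hc)]
    exact mul_mem (mem_Ce.2 (mem_Ce.1 h2).symm) (inv_mem (mem_Ce.2 (mem_Ce.1 e).symm))
  exact ⟨ρ, ⟨h1, (h4 i).trans hr.2.1, fun j k => (h4 j).trans (hr.2.2 j k)⟩, h2, h3⟩

theorem comp (hx : x ∈ D.QQ ⊓ E.QQ) (n : L D x i ≠ 0) :
    ∃ c ∈ D.Q i, c ∈ E.QQ ∧ c ∉ zpowers D.z := by
  have h := p.h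
  obtain ⟨r, hr, r1, -⟩ := rr p w w' yB i
  have h1 := cjQ h (Bz hr.1) hx.1
  have eL : ∀ j, L D (r * x * r⁻¹ * x⁻¹) j = (D.m j r).1 *ᵥ L D x j - L D x j := fun j => by
    rw [L_mul h h1 (inv_mem hx.1), L_inv h hx.1, Pi.add_apply, act h hr.1 hx.1, sub_eq_add_neg]; rfl
  refine ⟨_, memQi h (mul_mem h1 (inv_mem hx.1)) fun j k => by simp [eL, hr.2.2 j k],
    mul_mem (cjQ p.h' r1 hx.2) (inv_mem hx.2), fun e => n ?_⟩
  have := (eL i).symm.trans (congrFun (L_z h e) i)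
  rw [hr.2.1] at this
  exact (by decide +kernel : ∀ v : W2, (-1 : SL3).1 *ᵥ v - v = 0 → v = 0) _ this

theorem not3 (H : ∀ i, ∃ c ∈ D.Q i, c ∈ E.QQ ∧ c ∉ zpowers D.z) : False := by
  have h := p.h
  choose c hc hc' nc using H
  choose q hq n e using fun i => cov (co h i) (Bi yB i) (m_cube h yB p.cube i) (wne p w w' yB i) (hc i)
    (fix_of_comm (co h i) (Bi yB i) (hc i) (mem_Ce.1 (Qz p.h' (hc' i))))
  obtain ⟨a, a1, a2, a3⟩ := (by decide : ∀ n : Fin 3 → ZMod 3, ∃ a : Fin 3 → ZMod 3,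
    (∀ i, a i = 0 ∨ a i = 1) ∧ a ≠ 0 ∧ a 0 * n 0 + a 1 * n 1 + a 2 * n 2 = 0) n
  have key : ∀ i, ∃ u ∈ D.Q i, ∃ x ∈ D.Q i, x ∈ E.QQ ∧ D.l i x = a i • D.l i (c i) ∧
      u * E.z * u⁻¹ = zp D.z (a i * n i) * x * E.z := fun i => by
    rcases a1 i with k | k <;> rw [k]
    · exact ⟨1, one_mem _, 1, one_mem _, one_mem _, by simp [(co h i).l_one], by simp [zp_zero]⟩
    · exact ⟨q i, hq i, c i, hc i, hc' i, by simp, by rw [one_mul, e]⟩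
  choose u hu x hx hx' l e using key
  have cj2 : ∀ {u u' x x' : G} {n n'}, u * E.z * u⁻¹ = zp D.z n * x * E.z →
      u' * E.z * u'⁻¹ = zp D.z n' * x' * E.z → u' ∈ Ce x → u' ∈ Ce D.z → x ∈ Ce D.z →
      u' * u * E.z * (u' * u)⁻¹ = zp D.z (n + n') * (x * x') * E.z := fun {u u' x x' n n'} e1 e2 k1 k2 k3 => by
    calc _ = u' * (u * E.z * u⁻¹) * u'⁻¹ := by group
      _ = _ := by
        rw [e1, ← conj_mul, ← conj_mul, zp_conj k2, mem_Ce'.1 k1, e2, zp_add h.ord, ← mul_assoc,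
          ← mul_assoc, mul_assoc _ x, zp_comm k3]
        group
  have z0 := fun i => (co h i).le_Ce (hx i)
  have e2 := cj2 (cj2 (e 0) (e 1) (mem_Ce.2 (QQc h (hu 1) (hx 0) (by decide))) ((co h 1).le_Ce (hu 1))
    (z0 0)) (e 2) (mem_Ce.2 (Commute.mul_right (QQc h (hu 2) (hx 0) (by decide))
      (QQc h (hu 2) (hx 1) (by decide)))) ((co h 2).le_Ce (hu 2)) (mul_mem (z0 0) (z0 1))
  rw [a3, zp_zero, one_mul] at e2
  have q0 := fun i => Q_le i (hx i)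
  have x1 := congrArg (L D) (fusQ p w w' (mul_mem (mul_mem (q0 0) (q0 1)) (q0 2))
    (mul_mem (mul_mem (hx' 0) (hx' 1)) (hx' 2)) (isConj_iff.2 ⟨_, e2⟩))
  rw [L_mul h (mul_mem (q0 0) (q0 1)) (q0 2), L_mul h (q0 0) (q0 1), L_single h (hx 0),
    L_single h (hx 1), L_single h (hx 2), L_one h, l, l, l] at x1
  refine a2 (funext fun i => ?_)
  have := congrFun x1 i
  have k := lne (co h i) (hc i) (nc i)
  fin_cases i <;> simpa using (smul_eq_zero.1 (by simpa using this)).resolve_right k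

theorem one (n : j ≠ k) : (∃ c ∈ D.Q j, c ∈ E.QQ ∧ c ∉ zpowers D.z) ∨
    ∃ c ∈ D.Q k, c ∈ E.QQ ∧ c ∉ zpowers D.z := by
  have h := p.h
  obtain ⟨c, hc, nc, c1⟩ := exC p w w' yB j
  obtain ⟨d, hd, nd, d1⟩ := exC p w w' yB k
  obtain ⟨r, hr, r1, -⟩ := rr p w w' yB j
  obtain ⟨r', hr', r2, -⟩ := rr p w w' yB k
  obtain ⟨α, β, γ, h1, hx⟩ := relρ p w w' (mul_mem hr.1 hr'.1) (mul_mem r1 r2) hc hd c1 d1
    (by rw [m_mul h hr.1 hr'.1, hr.2.1, hr'.2.2 j n, mul_one])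
    (by rw [m_mul h hr.1 hr'.1, hr'.2.1, hr.2.2 k n.symm, one_mul])
  obtain ⟨xQ, eL⟩ := L_rel h (Q_le j hc) (Q_le k hd) α β γ
  by_cases a0 : α = 0
  · by_cases b0 : β = 0
    · rw [a0, b0, zp_zero, zp_zero, one_mul, one_mul] at hx
      exact absurd ⟨a0, b0, zp_eq_one h.ord (zQ' p w' (zp_mem γ) hx)⟩ h1
    · refine .inr (comp p w w' yB ⟨xQ, hx⟩ ?_)
      rw [eL]
      simpa [a0, b0, L_self h hd] using lne (co h k) hd nd
  · refine .inl (comp p w w' yB ⟨xQ, hx⟩ ?_)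
    simpa [eL, a0, L_self h hc, L_ne h hd n.symm] using lne (co h j) hc nc

theorem diagF : False := by
  have h := p.h
  obtain ⟨k, hk⟩ := not_forall.1 (not3 p w w' yB)
  obtain ⟨i, j, ij, ik, jk⟩ := others k
  obtain ⟨c, hc, c1, nc⟩ := (one p w w' yB ik).resolve_right hk
  obtain ⟨d, hd, d1, nd⟩ := (one p w w' yB jk).resolve_right hk
  obtain ⟨r, hr, r1, r2⟩ := rr p w w' yB k
  have rF : ∀ f ∈ D.QQ ⊓ E.QQ, r ∈ Ce f := fun f hf => inv_comm h hr.1 r2 hf.1 fun n => by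
    by_cases e : n = k
    · rw [e, by_contra fun e' => hk (comp p w w' yB hf e'), Matrix.mulVec_zero]
    · simp [hr.2.2 n e]
  have rE : ∀ e ∈ E.QQ ⊓ Ce D.z, r ∈ Ce e := fun e he => by
    have eB : e ∈ D.B := (B_iff h he.2).2 ((by decide : ∀ σ : Equiv.Perm (Fin 3), ∀ i j, i ≠ j →
      σ i = i → σ j = j → σ = 1) _ i j ij
      (sg_fix h he.2 hc nc (mem_Ce.2 (ab p.symm w' w he ⟨c1, (co h i).le_Ce hc⟩)))
      (sg_fix h he.2 hd nd (mem_Ce.2 (ab p.symm w' w he ⟨d1, (co h j).le_Ce hd⟩))))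
    have f1 := hr.com h eB
    have f2 := mem_Ce'.1 (rF _ ⟨f1, E.QQ.mul_mem (cjQ p.h' r1 he.1) (E.QQ.inv_mem he.1)⟩)
    have f3 := cubeQ h f1
    have f4 : r * e * r⁻¹ * e⁻¹ * (r * e * r⁻¹ * e⁻¹) = 1 := by
      nth_rewrite 1 [← f2]
      calc _ = r * r * e * (r * r)⁻¹ * e⁻¹ := by group
        _ = _ := by rw [r2]; group
    rw [pow_three', f4, one_mul] at f3
    exact mem_Ce'.2 (mul_inv_eq_one.1 f3)
  by_cases zB : D.z ∈ E.B
  · choose c' h1 h2 h3 using exC p.symm w' w zB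
    have h4 := fun n => rE _ ⟨Q_le n (h1 n), h3 n⟩
    have rB := (B_iff p.h' r1).2 (Equiv.ext fun n => sg_fix p.h' r1 (h1 n) (h2 n) (h4 n))
    have h5 := cubeQ p.h' (p.h'.ker r rB fun n => sl_fix _
      (by rw [← m_mul p.h' rB rB, r2, (co p.h' n).m_one]) _ (lne (co p.h' n) (h1 n) (h2 n))
      (fix_of_comm (co p.h' n) (Bi rB n) (h1 n) (mem_Ce.1 (h4 n)).symm))
    rw [pow_three', r2, one_mul] at h5
    exact absurd ((co h k).m_one.symm.trans (h5 ▸ hr.2.1)) (by decide)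
  · obtain ⟨α, β, h1, h2⟩ := cyc_rel p.symm w' w zB ⟨c1, Q_le i hc⟩ ⟨d1, Q_le j hd⟩
    have h3 := congrArg (L D) h2
    rw [zp, zp, L_mul h (pow_mem (Q_le i hc) _) (pow_mem (Q_le j hd) _), L_pow h (Q_le i hc),
      L_pow h (Q_le j hd), L_one h, ZMod.natCast_zmod_val, ZMod.natCast_zmod_val] at h3
    exact h1 ⟨by simpa [L_self h hc, L_ne h hd ij.symm, lne (co h i) hc nc] using congrFun h3 i,
      by simpa [L_self h hd, L_ne h hc ij, lne (co h j) hd nd] using congrFun h3 j⟩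

omit p w w' yB in
theorem jobW : H46.E6B.JobW.{u} := fun _ _ _ D h ⟨y, hy, ⟨g, hg⟩, ny⟩ => by_contra fun k => by
  have w : WC D := fun x hx e => by_contra fun e' =>
    k ⟨x, hx, (isConj_iff.1 e).imp fun _ => .inl, e'⟩
  have p := Pr.mk' (g := g) h (hg.elim (· ▸ hy) (· ▸ inv_mem hy))
    (hg.elim (· ▸ ny) (· ▸ mt inv_mem_iff.1 ny))
  by_cases yB : (cjD g D).z ∈ D.B
  · exact diagF p w (WC_cj w g) yB
  · obtain ⟨x, h1, h2, h3⟩ := cyc_pair p w (WC_cj w g) yB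
    obtain ⟨a, rfl⟩ := isConj_iff.1 h2
    exact diagF (Pr.mk' p.h' (Bz h1) h3) (WC_cj w g) (WC_cj (WC_cj w g) a) h1

end H39.E6B.W
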