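import Cfsg.Agent.H39.F22Asm
import Cfsg.Agent.H33.E6Ya
import Cfsg.Agent.H46.E6BSpec

/-! Chapter E6 of `blueprints/PS3B.md`, job HR: the centralizer of a transvection. -/

set_option autoImplicit false
set_option maxRecDepth 100000
set_option linter.unusedSectionVars false

open Cfsg Subgroup H98 H42.L3 H56.L3 H59.U6 H28.PS H39.F22
open H46.E6B (HR0 HubR0)
open H39.E6 (HR Inv HubR JobHR)

namespace H39.E6R

universe u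

theorem dgk : ∀ a b c d : ZMod 3, ∀ k : Fin 4,
    app (dg ![a, b, c, d]) (4 ^ k.val) = 4 ^ k.val ↔ ![a, b, c, d] k = 0 := by decide +kernel

theorem dgn : ∀ a b c d : ZMod 3, ∀ n < 256, app (dg ![a, b, c, d]) n = n → ∀ k : Fin 4,
    n / 4 ^ k.val % 4 ≠ 0 → ![a, b, c, d] k = 0 := by decide +kernel

theorem exk : ∀ n < 256, n ≠ 0 → ∃ k : Fin 4, n / 4 ^ k.val % 4 ≠ 0 := by decide +kernel

/-- the four matrix entries -/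
def be (v : W) : Fin 4 → ZMod 3 := ![v 2 - v 0, v 3 - v 0, v 4 - v 0, v 5 - v 0]

theorem cnt : ∀ k : Fin 4, (Finset.univ.filter fun p : T5 => ∑ i, nv p i = 0 ∧ nv p 0 = nv p 1 ∧
    be (nv p) k = 0).card ≤ 9 ∧ ∃ w ∈ H17.PS.L20, w 0 = w 1 ∧ be w k = 0 := by decide +kernel

theorem nosw : ∀ σ : S6, Cst (pm σ zv - zv) → ∀ i j : ZMod 3,
    ¬ Cst (pm σ H17.PS.av - (i • zv + j • xv)) := by decide +kernel

section Model

variable {G : Type*} [Group G] [Finite G] {C : CD G} {cd : G → ℕ} {μ : G → MG} (h : Ctx C)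
  (x2 : XF2 C) (F : SF C cd μ) {Θ M : Subgroup G}
include h

theorem Sg_le (h1 : C.R1 ≤ M) (h2 : Ce C.r ⊓ nr C.J ≤ nr M) : C.Sg ≤ M := by
  have k : ∀ k : Fin 6, Equiv.swap 2 k * Equiv.swap 0 1 = Equiv.swap 0 1 * Equiv.swap 2 k →
      C.Rk k ≤ M := fun k e => cj_le_of_le h1 (h2 ⟨h.ρ_mem_r e, h.ρ_mem _⟩)
  exact sup_le (sup_le (sup_le h1 (k 3 (by decide))) (k 4 (by decide))) (k 5 (by decide))

include x2 F

theorem inv_le (i : Inv (Ce C.r) C.z C.x Θ) : Θ ≤ C.Sg :=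
  H52.PS2.U h x2 F i.1 i.2.1 i.2.2.1 i.2.2.2

theorem onto_of (gf : GF) (h1 : Ce C.r ⊓ nr C.J ≤ M) (h2 : C.R2 ≤ M) :
    XM ≤ (M.subgroupOf (nr C.Sg)).map F.hom := by
  have n1 : ∀ {c}, c ∈ nr C.Sg → c ∈ M → μ c ∈ (M.subgroupOf (nr C.Sg)).map F.hom :=
    fun hc hm => ⟨⟨_, hc⟩, hm, rfl⟩
  have n2 : ∀ {c}, c ∈ Ce C.r ⊓ nr C.J → μ c ∈ (M.subgroupOf (nr C.Sg)).map F.hom :=
    fun e => n1 (F.nJ e) (h1 e)
  have hg : C.ρ kap * C.a * (C.ρ kap)⁻¹ ∈ C.R2 := conj_mem_cj h.a_mem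
  have hn := H52.PS2.R2_nr h x2 F hg
  have e := H52.PS2.R2_fix h x2 F hg
  exact gf.gen _ (F.iso hn) e.1 e.2.1 e.2.2 (by
      rw [← F.μ_mul hn hn, conj_mul, h.asq, ← map_inv, ← map_mul, ← map_mul, ← F.μ34]
      exact congrArg (fun σ => μ (C.ρ σ)) (by decide)) _
    (F.μ23 ▸ n2 ⟨h.ρ_mem_r (by decide), h.ρ_mem _⟩) (F.μ34 ▸ n2 ⟨h.ρ_mem_r (by decide), h.ρ_mem _⟩)
    (F.μ45 ▸ n2 ⟨h.ρ_mem_r (by decide), h.ρ_mem _⟩)
    (by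
      have := n2 (h.SK_le (mem_sup_left (h.φ_mem_I dom_xw rfl)))
      rwa [F.μφ _ dom_xw rfl] at this) (n1 hn (h2 hg))

theorem hr0 (gf : GF) (hL : ∀ c ∈ Ce C.r, InL C.Sg μ c) :
    HR0 (Ce C.r) C.z C.r C.x C.R1 C.J where
  com := fun _ _ i i' a ha b hb => by
    rcases F.comm a (inv_le h x2 F i ha) b (inv_le h x2 F i' hb) with e | e
    · rw [e, mul_inv_cancel_right, mul_inv_cancel]; exact one_mem _
    · rw [e, mul_assoc (b * a), F.z_comm _ (inv_mem (inv_le h x2 F i ha)), ← mul_assoc,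
        mul_inv_cancel_right, mul_assoc, F.z_comm _ (inv_mem (inv_le h x2 F i' hb)),
        mul_inv_cancel_left]
      exact mem_zpowers _
  le := fun _ _ i h1 h2 => (inv_le h x2 F i).trans (Sg_le h h1 h2)
  gen := fun M h1 h2 c hc => by
    have k : Ce C.r ⊓ Ce C.z ≤ M := fun g hg => h1 ⟨hg.1, H33.E6.CeN' hg.2⟩
    have r2 : C.R2 ≤ M := (le_inf h.R2_le (h.R2_fix dom_zv rfl rfl)).trans k
    have hS : C.Sg ≤ M := Sg_le h ((le_inf h.R1_le_r h.R1_z).trans k) (h2.trans le_normalizer)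
    have zI := h.φ_mem_I dom_zv rfl
    have zn := F.nJ (h.SK_le (mem_sup_left zI))
    have hd : c * C.z * c⁻¹ ∈ nr C.Sg := mul_mem (mul_mem (hL c hc).1 zn) (inv_mem (hL c hc).1)
    have hX : μ (c * C.z * c⁻¹) ∈ XM := by
      rw [F.μ_conj (hL c hc).1 zn]
      exact conj_mem_of_mem_normalizer (hL c hc).2
        (by rw [F.μφ _ dom_zv rfl, gf.dgX]; decide)
    obtain ⟨m, hm, e⟩ := onto_of h x2 F gf h2 r2 hX
    have hM : c * C.z * c⁻¹ ∈ M := (mul_mem_cancel_right (inv_mem (mem_subgroupOf.1 hm))).1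
      (hS (F.mem_of_μ_eq (H52.PS2.cent h x2 F) hd m.2 e.symm))
    obtain ⟨l, hl, e1⟩ := h.conj_I (H := M ⊓ Ce C.r) (h.SK_le.trans (le_inf h2 inf_le_left))
      (le_inf r2 h.R2_le) inf_le_right ⟨hM, F.nr_le hd⟩
      (by rw [conj_pow, h.φ_cube dom_zv]; simp)
    rw [mem_inf] at hl
    obtain ⟨n, hn, e2⟩ := h.fusI zI (mul_mem hl.2 hc) (by
      rwa [show l * c * C.z * (l * c)⁻¹ = l * (c * C.z * c⁻¹) * l⁻¹ by group])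
    have := k (mem_inf.2 ⟨mul_mem (inv_mem (mem_inf.1 hn).1) (mul_mem hl.2 hc), e2⟩)
    rwa [mul_mem_cancel_left (inv_mem (h2 hn)), mul_mem_cancel_left hl.1] at this

theorem ext0 (nb : ¬ C.big) (zs : ∀ v, IsZ v → Zt C.z (C.φ v)) (i : Inv (Ce C.r) C.z C.x Θ)
    {E : Subgroup G} (h1 : E ≤ C.J ⊓ Ce C.r) (h2 : Nat.card E = 9) (h3 : ∀ e ∈ E, ¬ Zt C.z e) :
    Θ ⊓ cn E ≤ zpowers C.r := fun s hs => by
  have m := inv_le h x2 F i hs.1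
  by_cases e : cd s = 0
  · rcases F.ker s m e with rfl | rfl
    exacts [one_mem _, mem_zpowers _]
  obtain ⟨k, hk⟩ := exk _ (F.lt s) e
  obtain ⟨a, ha, ea⟩ := F.surj (4 ^ k.val) ((by decide : ∀ k : Fin 4, 4 ^ k.val < 256) k)
  have n : ∀ {v}, C.φ v ∈ C.I → C.φ v ∈ nr C.Sg := fun m => F.nJ (h.SK_le (mem_sup_left m))
  have key : ∀ v, dom C.big v → v 0 = v 1 → (C.φ v ∈ Ce a ↔ be v k = 0) := fun v hv e0 => by
    have := n (h.φ_mem_I hv e0)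
    rw [be, ← dgk, ← F.μφ v hv e0, ← ea]
    exact ⟨fun c => F.fix_of_comm this ha (mem_Ce.1 c),
      fun c => mem_Ce.2 (F.comm_of_cube this (h.φ_cube hv) ha c)⟩
  have l1 : E ≤ C.I ⊓ Ce a := fun y hy => by
    obtain ⟨v, hv, e0, rfl⟩ := h.mem_I.1 (h1 hy)
    refine ⟨h1 hy, (key v hv e0).2 (dgn _ _ _ _ _ (F.lt s) ?_ k hk)⟩
    rw [← F.μφ v hv e0]
    exact F.fix_of_comm (n (h1 hy)) m (hs.2 _ hy)
  obtain ⟨c1, w, hw, e0, e1⟩ := cnt k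
  have z1 := ((H17.PS.L20_iff w hw).2)
  have d1 : dom C.big w := .inr z1.1
  have l2 := (h.card_le (K := C.I ⊓ Ce a) (inf_le_left.trans h.I_le_J) _ fun p d m =>
    ⟨d.resolve_left nb, (h.φ_mem_r d).1 m.1.2, (key _ d ((h.φ_mem_r d).1 m.1.2)).1 m.2⟩).trans c1
  exact absurd (zs w z1) (h3 _ ((eq_of_le_of_card_ge l1 (h2 ▸ l2)).ge
    ⟨h.φ_mem_I d1 e0, (key w d1 e0).2 e1⟩))

theorem two16 (gf : GF) (hι : C.ι ≠ 1) : 2 ^ 16 ∣ Nat.card G := by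
  have h1 : WM ≤ F.hom.range := fun g hg => by
    have k : XM ≤ F.hom.range := (onto_of h x2 F gf F.nJ (H52.PS2.R2_nr h x2 F)).trans
      (map_le_range _ _)
    rcases WM_cases hg with e | ⟨a, ha, rfl⟩
    exacts [k e, mul_mem (k ha) ⟨⟨_, F.nJ ⟨h.ι_mem_r, h.ι_mem⟩⟩, F.μι hι⟩]
  have h2 : C.Sg.subgroupOf (nr C.Sg) ≤ F.hom.ker := fun g hg => F.μ_of_mem hg
  have h3 := mul_dvd_mul (card_dvd_of_le h2) (card_dvd_of_le h1)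
  rw [cardWM, ← index_ker, card_mul_index,
    Nat.card_congr (subgroupOfEquivOfLe le_normalizer).toEquiv, F.card] at h3
  exact ((by norm_num : 2 ^ 16 ∣ 512 * 51840).trans h3).trans (card_subgroup_dvd_card _)

end Model

section Push

variable {Y Γ : Type*} [Group Y] [Group Γ] {ψ : Y →* Γ} {C R J : Subgroup Y} {z r c c' : Y}

open H33.E6 in
theorem hr0_push (hψ : Function.Injective ψ) (h : HR0 C z r c R J) :
    HR0 (C.map ψ) (ψ z) (ψ r) (ψ c) (R.map ψ) (J.map ψ) := by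
  have k : ∀ Θ, Inv (C.map ψ) (ψ z) (ψ c) Θ → ∃ Θ0 : Subgroup Y, Θ0.map ψ = Θ ∧ Inv C z c Θ0 :=
    fun Θ i => by
      obtain ⟨Θ0, rfl⟩ := of_le_map i.1
      exact ⟨Θ0, rfl, (map_le_map_iff_of_injective hψ).1 i.1, card_map_of_injective hψ ▸ i.2.1,
        (nr_map hψ).1 i.2.2.1, (nr_map hψ).1 i.2.2.2⟩
  refine ⟨fun Θ Θ' i i' => ?_, fun Θ N i h1 h2 => ?_,
    fun M h1 h2 => map_le_iff_le_comap.2 (h.gen _
      (fun g hg => h1 ⟨mem_map_of_mem ψ hg.1, (Nz_map hψ).2 hg.2⟩)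
      fun g hg => h2 ⟨mem_map_of_mem ψ hg.1, (nr_map hψ).2 hg.2⟩)⟩
  · obtain ⟨Θ, rfl, i0⟩ := k Θ i
    obtain ⟨Θ', rfl, i1⟩ := k Θ' i'
    rintro _ ⟨a, ha, rfl⟩ _ ⟨b, hb, rfl⟩
    simpa only [map_mul, map_inv] using (zp_map hψ).2 (h.com Θ Θ' i0 i1 a ha b hb)
  · obtain ⟨Θ, rfl, i0⟩ := k Θ i
    exact map_le_iff_le_comap.2 (h.le Θ _ i0 (map_le_iff_le_comap.1 h1) fun g hg =>
      le_normalizer_comap ψ (h2 ⟨mem_map_of_mem ψ hg.1, (nr_map hψ).2 hg.2⟩))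

theorem inv_chg {Θ : Subgroup Y} (e : c * c'⁻¹ ∈ zpowers z) (i : Inv C z c' Θ) : Inv C z c Θ :=
  ⟨i.1, i.2.1, i.2.2.1, by simpa using mul_mem (zpowers_le.2 i.2.2.1 e) i.2.2.2⟩

end Push

open H7.PS H84.PS H17.PS

variable {G : Type u} [Group G] [Finite G] {D : HD G} (hA : HA D) {a1 a2 b1 b2 r g : G}
include hA

/-- `R₁ R₂` is transitive on the pairs of lines -/
theorem mv (p : Pt D a1 a2) (q : Pt D b1 b2) : ∃ g ∈ Ce D.z, g ∈ nr D.R1 ∧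
    (∀ r ∈ D.R1, D.m1 r = -1 → g ∈ Ce r) ∧ g * a1 * g⁻¹ * b1⁻¹ ∈ zpowers D.z ∧
      g * a2 * g⁻¹ * b2⁻¹ ∈ zpowers D.z := by
  obtain ⟨p1, h1, e1⟩ := Rtr hA.ord hA.s1 q.m1 q.n1 p.m1 p.n1
  obtain ⟨p2, h2, e2⟩ := Rtr hA.ord hA.s2 q.m2 q.n2 p.m2 p.n2
  have n1 := mem_inf.1 (hA.s1.R_le h1)
  have n2 := mem_inf.1 (hA.s2.R_le h2)
  obtain ⟨k1, f1⟩ := (co1 hA).eq_zp ((co1 hA).conj_mem n1.1 p.m1) q.m1 e1
  obtain ⟨k2, f2⟩ := (co2 hA).eq_zp ((co2 hA).conj_mem n2.1 p.m2) q.m2 e2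
  have c2 : p2 ∈ cn D.R1 := fun a ha => (hA.RR ha p2 h2).symm
  refine ⟨p1 * p2, mul_mem (mem_inf.1 n1.1).1 (mem_inf.1 n2.1).1,
    mul_mem (le_normalizer h1) (centralizer_le_normalizer _ c2), fun r hr e =>
    mul_mem (R_Ce hA hA.s1 hr e h1) (mem_Ce.2 (c2 r hr).symm), ?_, ?_⟩
  · rw [show p1 * p2 * a1 * (p1 * p2)⁻¹ = p1 * (p2 * a1 * p2⁻¹) * p1⁻¹ by group,
      ← n2.2 a1 p.m1, mul_inv_cancel_right, f1, mul_inv_cancel_right]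
    exact zp_mem k1
  · rw [show p1 * p2 * a2 * (p1 * p2)⁻¹ = p1 * (p2 * a2 * p2⁻¹) * p1⁻¹ by group,
      ← n1.2 _ ((co2 hA).conj_mem n2.1 p.m2), mul_inv_cancel_right, f2, mul_inv_cancel_right]
    exact zp_mem k2

omit hA [Finite G] in
theorem ce_chg {z a b j : G} (e : g * a * g⁻¹ * b⁻¹ ∈ zpowers z) (hj : j ∈ Ce z) :
    g⁻¹ * j * g ∈ Ce a ↔ j ∈ Ce b := by
  have k : b * j = j * b ↔ g * a * g⁻¹ * j = j * (g * a * g⁻¹) := by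
    obtain ⟨u, hu, e⟩ : ∃ u ∈ zpowers z, g * a * g⁻¹ = u * b := ⟨_, e, by simp⟩
    rw [e, ← mul_assoc, comm_of_mem hj hu, mul_assoc, mul_assoc, mul_right_inj]
  rw [← mem_cj, cj_Ce, mem_Ce, mem_Ce, eq_comm, ← k, eq_comm]

omit hA in
theorem cj_cnA {z : G} (hg : g ∈ Ce z) (e1 : g * a1 * g⁻¹ * b1⁻¹ ∈ zpowers z)
    (e2 : g * a2 * g⁻¹ * b2⁻¹ ∈ zpowers z) : cj g (cn (AA z a1 a2)) = cn (AA z b1 b2) := by
  ext j
  rw [mem_cj, mem_cnA, mem_cnA, mul_mem_cancel_right hg, mul_mem_cancel_left (inv_mem hg)]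
  exact and_congr_right fun hj => by rw [ce_chg e1 hj, ce_chg e2 hj]

/-- the configuration of row S2994 -/
theorem chain (w : WCQ D) (nw : NW D.z (Ce D.z)) : ∃ (C : CD G) (cd : G → ℕ) (μ : G → MG)
    (c1 c2 x1 x2 r1 r2 : G), HJ D c1 c2 C.J ∧ CO D c1 c2 C.J C.big C.φ x1 x2 r1 r2 ∧ Ctx C ∧
      XF2 C ∧ SF C cd μ ∧ ∀ c ∈ Ce C.r, InL C.Sg μ c := by
  have f1 := jobB1a G D hA w
  obtain ⟨c1, c2, J, f2⟩ := jobB1b G D hA w f1 nw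
  obtain ⟨big, φ, x1, x2, r1, r2, f3⟩ := H38.B2.jobB2 G D c1 c2 J hA w f1 f2
  obtain ⟨φ', ρ, ι, f4, f5⟩ := jobB3a G D c1 c2 J big φ x1 x2 r1 r2 hA f2 f3
  obtain ⟨a, h⟩ := jobB3b G D c1 c2 J big φ' x1 x2 r1 r2 ρ ι hA f2 f4 f5
  have t := H18.PST.jobT.{u}
  have g1 := jobL1 t G _ h
  have g2 := jobX1 t G _ h g1
  have g3 := jobX2 t G _ h g1 g2
  obtain ⟨cd, μ, g4⟩ := H52.PS1.jobS1 G _ h g2.x1
  exact ⟨_, cd, μ, c1, c2, x1, x2, r1, r2, f2, f4, h, g3, g4, H4.PK.jobK H55.GF.gf G _ _ cd μ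
    (H52.PS2.jobS2 H55.GF.gf G _ cd μ h (jobL2 t G _ h g1) g3 g4)⟩

variable {C : CD G} {c1 c2 x1 x2 r1 r2 : G} (hJ : HJ D c1 c2 C.J)
  (o : CO D c1 c2 C.J C.big C.φ x1 x2 r1 r2) (h : Ctx C)
include hJ o h

omit h in
theorem J_eq : C.J = cn (AA D.z (C.φ av) C.x) := le_antisymm
  (fun _ hj => mem_cnA.2 ⟨o.le_Ce (o.z ▸ o.mem dom_zv) hj, o.le_Ce (o.mem dom_av) hj,
    o.le_Ce (o.mem dom_xv) hj⟩)
  fun _ hj => mem_J o hA hJ (mem_cnA.1 hj).1 (mem_cnA.1 hj).2.1 (mem_cnA.1 hj).2.2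

omit hA hJ h in
theorem pt : Pt D (C.φ av) C.x := ⟨o.a1, o.a2, av_ne o, xv_ne o⟩

/-- the conjugating element -/
theorem link (hr : r ∈ D.R1) (m : D.m1 r = -1) (q : Pt D b1 b2) : ∃ g ∈ Ce D.z,
    g * C.r * g⁻¹ = r ∧ cj g C.R1 = D.R1 ∧ cj g C.J = cn (AA D.z b1 b2) ∧
      g * C.x * g⁻¹ * b2⁻¹ ∈ zpowers D.z := by
  obtain rfl : r1 = r := R_inj2 hA hA.s1 o.r1m hr (o.r1v.trans m.symm)
  have hj := cen2 o hA hJ (r1c o) (ρc h.toNJ (Equiv.swap 0 1)) (by decide)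
  have n1 := R_N hA hA.s1 hr
  have e1 : r1 * r1 = 1 := hA.s1.R_inj _ (mul_mem hr hr) (by
    rw [(co1 hA).m_mul _ n1.1 _ n1.1, m]; simp)
  obtain ⟨j, ej⟩ : ∃ j, C.r = r1 * j := ⟨r1⁻¹ * C.r, by simp⟩
  rw [show C.ρ (Equiv.swap 0 1) = r1 * j from ej, inv_mul_cancel_left] at hj
  have e4 : C.r = j * r1 * j⁻¹ := by
    calc _ = r1⁻¹ * (r1 * r1) * j ^ 3 * j⁻¹ * j⁻¹ := by rw [ej]; group
      _ = r1⁻¹ * (r1 * j * (r1 * j)) * j⁻¹ * j⁻¹ := by rw [e1, o.cube hj, ← ej, h.r_sq, mul_one]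
      _ = _ := by group
  have nj := H17.PS.JN hA o hj
  have hS := side_cj hA hA.s1 nj
  have rm : C.r ∈ cj j D.R1 := e4 ▸ conj_mem_cj hr
  have mr : D.m1 C.r = -1 := by rw [e4, m_conj hA nj n1, m]; simp
  have eR : cj j D.R1 = C.R1 := by
    refine le_antisymm (H52.PS2.Uz h (fun p hp => mem_inf.2 ⟨R_Ce hA hS rm mr hp,
      (congrArg Ce o.z).ge (hS.R_le hp).1.1⟩)
      ?_ (centralizer_le_normalizer _ fun p hp => ((hS.R_le hp).2 _ o.a2).symm)) fun p hp => ?_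
    · obtain ⟨n, e⟩ := IsPGroup.iff_card.1 
        ((isPGroup_iff_forall (p := 2)).2 fun p hp => ⟨2, hS.R_four p hp⟩)
      rw [e]; exact Nat.Coprime.pow_left _ (by norm_num)
    · refine mem_R hA hS rm mr (fun a ha => mem_Ce.1 (Q2_le (co_ρ hA hJ o h.toNJ) hA (K := Ce p)
        (o.z ▸ mem_Ce.2 (mem_Ce.1 (h.R1_z hp)).symm) (mem_Ce.2 (mem_Ce.1 (h.R1_x hp)).symm)
        (mem_Ce.2 (mem_Ce.1 (h.R1_ρ (by decide) (by decide) (by decide) hp)).symm) ha))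
        (h.R1_le_r hp) ?_
      obtain ⟨k, rfl⟩ := h.mem_R1.1 hp
      rw [← map_pow, (by decide : ∀ k : QG, k ^ 4 = 1) k, map_one]
  obtain ⟨g, hg, g1, g2, g3, g4⟩ := mv hA (pt o) q
  refine ⟨g * j⁻¹, mul_mem hg (inv_mem nj.1.1), ?_, ?_, ?_, ?_⟩
  · exact (by rw [e4]; group : _ = g * r1 * g⁻¹).trans (mem_Ce'.1 (g2 r1 hr m))
  · rw [← eR, H98.cj_cj, inv_mul_cancel_right, cj_eq_self g1]
  · rw [← H98.cj_cj, cj_eq_self_of_mem (inv_mem hj), J_eq hA hJ o, cj_cnA hg g3 g4]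
  · rwa [show g * j⁻¹ * C.x * (g * j⁻¹)⁻¹ = g * (j⁻¹ * C.x * j⁻¹⁻¹) * g⁻¹ by group,
      mem_Ce'.1 (o.le_Ce (o.mem dom_xv) (inv_mem hj))]

theorem iota_ne (hg : g ∈ Ce D.z) (e : cj g D.Q1 = D.Q2) : C.ι ≠ 1 := fun hι => by
  have e' : cj g D.Q2 = D.Q1 := by
    rcases hA.swap g (H33.E6.CeN' hg) with k | k
    exacts [absurd (k.1.symm.trans e ▸ hA.QQ) (co2 hA).not_le_cn, k.2]
  have n : ∀ {a}, a ∉ zpowers D.z → g * a * g⁻¹ ∉ zpowers D.z := fun ha m =>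
    ha (conj_mem_cj_iff.1 ((cj_eq_self (H33.E6.CeN' hg)).ge m))
  obtain ⟨p, hp, -, -, e1, e2⟩ := mv hA (a1 := g * C.x * g⁻¹) (a2 := g * C.φ av * g⁻¹)
    ⟨e' ▸ conj_mem_cj o.a2, e ▸ conj_mem_cj o.a1, n (xv_ne o), n (av_ne o)⟩ (pt o)
  have c : ∀ y, p * (g * y * g⁻¹) * p⁻¹ = p * g * y * (p * g)⁻¹ := fun y => by group
  rw [c] at e1 e2
  have hk := mul_mem hp hg
  have k : p * g ∈ nr C.J := by
    rw [← cj_eq_self_iff, J_eq hA hJ o, cj_cnA hk e2 e1]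
    exact swJ
  obtain ⟨v, σ, hv, e3 | ⟨e3, -⟩⟩ := h.nor' k
  swap
  · exact e3 hι
  rw [e3] at hk e2
  rw [h.conj1 hv dom_av] at e2
  obtain ⟨i, j, e4⟩ := JQ2 o hA (dom_av.pm σ)
    ((mul_mem_cancel_right (inv_mem o.a2)).1 ((co2 hA).zle e2))
  exact nosw σ ((h.comm1 hv dom_zv).1 (o.z ▸ hk)) i j e4

omit hA hJ o in
theorem small (n : ¬ 3 ^ 7 ∣ Nat.card G) : ¬ C.big := fun b => by
  have e := H46.card_sup_of_disjoint (K := C.J) (H := C.ρ.range) (by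
    rintro _ ⟨σ, rfl⟩; exact h.ρ_mem σ) (eq_bot_iff.2 (by
      rintro _ ⟨m, σ, rfl⟩
      rw [h.eq_one_of_mem dom_zero (σ := σ) (by simpa [h.φ_zero] using m), map_one]
      exact one_mem _))
  rw [h.card_big b, ← Nat.card_congr (MonoidHom.ofInjective h.ρ_inj).toEquiv, Nat.card_perm,
    Nat.card_fin] at e
  exact n ((by decide : 3 ^ 7 ∣ 243 * Nat.factorial 6).trans (e ▸ card_subgroup_dvd_card _))

omit hA hJ o h

theorem hubR0 : HubR0.{u} := fun G _ _ D hA w nw r hr m b1 m1 n1 b2 m2 n2 => by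
  obtain ⟨C, cd, μ, c1, c2, x1, x2, r1, r2, hJ, o, h, x, F, hL⟩ := chain hA w nw
  obtain ⟨g, hg, e1, e2, e3, e4⟩ := link hA hJ o h hr m ⟨m1, m2, n1, n2⟩
  have k := hr0_push (ψ := (MulAut.conj g).toMonoidHom) (MulAut.conj g).injective
    (hr0 h x F H55.GF.gf hL)
  change HR0 (cj g _) (g * _ * g⁻¹) (g * _ * g⁻¹) (g * _ * g⁻¹) (cj g _) (cj g _) at k
  rw [cj_Ce, e1, e2, e3, show C.z = D.z from o.z, mem_Ce'.1 hg] at k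
  exact ⟨fun _ _ i i' => k.com _ _ (inv_chg e4 i) (inv_chg e4 i'),
    fun _ _ i => k.le _ _ (inv_chg e4 i), k.gen⟩

theorem jobHR : JobHR.{u} := fun G _ _ D hA w nw n r hr m b1 m1 n1 b2 m2 n2 => by
  obtain ⟨C, cd, μ, c1, c2, x1, x2, r1, r2, hJ, o, h, x, F, hL⟩ := chain hA w nw
  refine ⟨?_, fun ⟨g, hg, e⟩ => two16 h x F H55.GF.gf (iota_ne hA hJ o h hg e)⟩
  obtain ⟨g, hg, e1, e2, e3, e4⟩ := link hA hJ o h hr m ⟨m1, m2, n1, n2⟩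
  have k0 := hr0 h x F H55.GF.gf hL
  have k := H33.E6.hr_push (ψ := (MulAut.conj g).toMonoidHom) (MulAut.conj g).injective
    ⟨k0.com, k0.le, fun _ _ i => ext0 h x F (small h n)
      (fun v hv => (congrArg (Zt · _) o.z).mpr ((o.zset v (.inr hv.1)).2 hv)) i, k0.gen⟩
  change HR (cj g _) (g * _ * g⁻¹) (g * _ * g⁻¹) (g * _ * g⁻¹) (cj g _) (cj g _) at k
  rw [cj_Ce, e1, e2, e3, show C.z = D.z from o.z, mem_Ce'.1 hg] at k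
  exact ⟨fun _ _ i i' => k.com _ _ (inv_chg e4 i) (inv_chg e4 i'),
    fun _ _ i => k.le _ _ (inv_chg e4 i), fun _ _ i => k.ext _ _ (inv_chg e4 i), k.gen⟩

end H39.E6R
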