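import Cfsg.Agent.H39.E6BN1
import Cfsg.Agent.H39.E6HR
import Mathlib.GroupTheory.SpecificGroups.ZGroup

/-! `JobY` of `H46.E6BSpec` (blueprint `E6B.md`); port of `H33.E6Ya`, `H33.E6Y`. -/

set_option autoImplicit false
set_option linter.unusedSectionVars false
set_option maxRecDepth 100000
set_option synthInstance.maxSize 2048

open Cfsg Subgroup H98 H42.L3 H7.PS H39.F22 H39.E6
open H78.F22 hiding jty jtf jnQ jfr QO QiO zO tO memS sylz sylc SO SJ zreal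
open H46.E6B (HV1 HJ4 E1 NJ1 HR0 YF1 X2 Rig0 HubR0)
open H33.E6 (two_fix dY cj_sub side_pull Ce_map nr_map zp_map Nz_map CeN' of_concl0)
open H56.L3 (Ce Nz)
open H28.PS (SL3 Zt HD HA WCQ Concl Side AA)
open H84.PS (V2)
open scoped Matrix

namespace H39.E6B.N

universe u

theorem der6 {Γ : Type*} [Group Γ] [Finite Γ] (N : Subgroup Γ) [N.Normal] (h : N.index ∣ 6) :
    ⁅commutator Γ, commutator Γ⁆ ≤ N := by
  have : IsZGroup (Γ ⧸ N) := .of_squarefree (Squarefree.squarefree_of_dvd h (by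
    rw [show 6 = 2 * 3 from rfl, Nat.squarefree_mul (by decide)]
    exact ⟨Nat.prime_two.squarefree, Nat.prime_three.squarefree⟩))
  have c := IsZGroup.isCyclic_commutator (Γ ⧸ N)
  have k : ∀ a ∈ commutator Γ, (a : Γ ⧸ N) ∈ commutator (Γ ⧸ N) := fun a ha =>
    (map_commutator_eq Γ (QuotientGroup.mk' N)).le.trans (commutator_mono le_top le_top)
      (mem_map_of_mem _ ha)
  refine commutator_le.2 fun a ha b hb => (QuotientGroup.eq_one_iff _).1 ?_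
  exact commutatorElement_eq_one_iff_mul_comm.2
    (congrArg Subtype.val (c.commGroup.mul_comm ⟨_, k a ha⟩ ⟨_, k b hb⟩))

section

variable {G : Type*} [Group G] [Finite G] {E : Dat G} {a g p q y : G} {i j : Fin 3}

variable (e : E1 E)
include e

theorem QY (k : i ≠ 0) : E.Q i ≤ E.Y := fun a ha => mem_inf.2
  ⟨mem_Ce.2 (QQc e.h3 k ha (e.hj.cQ 0)), mem_Ce.2 (e.hj.rc 0 i k a ha)⟩

theorem RY (k : i ≠ 0) : E.R i ≤ E.Y := fun _ hp =>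
  mem_inf.2 ⟨mem_Ce.2 (Rc e hp k.symm _ (e.hj.cQ 0)).symm, (RN e hp).2 0⟩

theorem zY : E.z ∈ E.Y := QY e (i := 1) (by decide) (e.h3.sd 1).zmem

theorem sideG (k : j ≠ i) : Side E.z (E.Q i) (E.Q j) (E.R i) (E.D.l i) (E.D.m i) :=
  have s := e.h3.sd i
  ⟨s.zmem, s.cube, s.l_mul, s.l_ker, s.l_surj, s.comm, s.act, s.m_mul,
    fun _ hp => ⟨BN (RB e hp) i, Rc e hp k⟩, fun _ => Rinj e, Ronto e i, fun _ => R4 e⟩

theorem cn12 : E.Q 1 ⊔ E.Q 2 ≤ cn (E.Q 0) :=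
  sup_le (e.h3.QQ 1 0 (by decide)) (e.h3.QQ 2 0 (by decide))

theorem kerY (hg : g ∈ E.Y) (hz : g ∈ Ce E.z) (n : ∀ j, j ≠ 0 → g ∈ nr (E.Q j) ∧ E.D.m j g = 1) :
    g ∈ E.Q 1 ⊔ E.Q 2 := by
  have h := e.h3
  have hB := B_of h hz (two_fix _ 0 fun j k => sg_of h (CeN hz) (cj_eq_self (n j k).1))
  have hP : E.D.P g := P_two e hB fun j k => (n j k).2
  refine (Q12 h (ty e)).2 ⟨h.ker g hB fun j => ?_, hg.2⟩
  by_cases k : j = 0
  · exact k ▸ (sl_q8 _ (hP.2 0)).2 _ (H84.PS.lne (co h 0) (e.hj.cQ 0) (e.hj.cz 0))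
      (H84.PS.fix_of_comm (co h 0) (BN hB 0) (e.hj.cQ 0) (mem_Ce.1 hg.1).symm)
  · exact (n j k).2

theorem wc12 (hy : y ∈ E.Q 1 ⊔ E.Q 2) (k : Zt E.z y) : y ∈ zpowers E.z :=
  (e.hv.wt y (sup_le (Qle 1) (Qle 2) hy) k).resolve_right fun n => W3_cn e.h3 n 0 (cn12 e hy)

theorem sg12 (hg : g ∈ Nz E.z) (k : sg E.D g 0 = 0) :
    cj g (E.Q 2) = E.Q 2 ∧ cj g (E.Q 1) = E.Q 1 ∨ cj g (E.Q 2) = E.Q 1 ∧ cj g (E.Q 1) = E.Q 2 := by
  rw [sg_spec e.h3 hg, sg_spec e.h3 hg]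
  rcases (by decide : ∀ σ : Equiv.Perm (Fin 3), σ 0 = 0 →
    σ 1 = 1 ∧ σ 2 = 2 ∨ σ 1 = 2 ∧ σ 2 = 1) _ k with ⟨k, k'⟩ | ⟨k, k'⟩ <;> rw [k, k']
  exacts [.inl ⟨rfl, rfl⟩, .inr ⟨rfl, rfl⟩]

variable {z : E.Y}

theorem eQ : (dY E z).Q = (E.Q 1 ⊔ E.Q 2).subgroupOf E.Y :=
  (sup_comm _ _).trans (subgroupOf_sup (QY e (by decide)) (QY e (by decide))).symm

variable (hz : (z : G) = E.z)
include hz

theorem sideY (hi : i ≠ 0) (hj : j ≠ 0) (k : j ≠ i) : Side z ((E.Q i).subgroupOf E.Y)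
    ((E.Q j).subgroupOf E.Y) ((E.R i).subgroupOf E.Y) (fun a => E.D.l i a) fun a => E.D.m i a :=
  side_pull E.Y.subtype_injective (l := E.D.l i) (m := E.D.m i) (by
    rw [map_subgroupOf_eq_of_le (QY e hi), map_subgroupOf_eq_of_le (QY e hj),
      map_subgroupOf_eq_of_le (RY e hi), subtype_apply, hz]
    exact sideG e k)

theorem haY : HA (dY E z) := by
  have h := e.h3
  have ι := E.Y.subtype_injective
  have nq : ∀ {j} {c : E.Y}, j ≠ 0 → c ∈ nr ((E.Q j).subgroupOf E.Y) → (c : G) ∈ nr (E.Q j) :=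
    fun k hc => map_subgroupOf_eq_of_le (QY e k) ▸ (nr_map ι).2 hc
  refine ⟨(orderOf_coe z).symm.trans (hz ▸ h.ord), sideY e hz (by decide) (by decide) (by decide),
    sideY e hz (by decide) (by decide) (by decide),
    fun a ha b hb => Subtype.ext (h.QQ 2 1 (by decide) ha b hb),
    fun a ha b hb => Subtype.ext (RR e (i := 2) (j := 1) (by decide) ha b hb), fun c k e1 e2 => ?_,
    fun c k => ?_, fun g k => ?_⟩
  · refine (eQ e).ge (kerY e c.2 (hz ▸ (Ce_map ι).2 k.1.1) fun j n => ?_)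
    rcases f3 j with rfl | rfl | rfl
    exacts [(n rfl).elim, ⟨nq n k.2, e2⟩, ⟨nq n k.1.2, e1⟩]
  · have h1 : ∀ j, j ≠ 0 → (c : G) ∈ cn (E.Q j) := fun j n a ha => congrArg Subtype.val
      (k ⟨a, QY e n ha⟩ ((eQ e).ge (by
        rcases f3 j with rfl | rfl | rfl
        exacts [(n rfl).elim, mem_sup_left ha, mem_sup_right ha])))
    have h2 := kerY e c.2 ((co h 1).cn_le (h1 1 (by decide))).1 fun j n =>
      ⟨centralizer_le_normalizer _ (h1 j n), (co h j).m_cn (h1 j n)⟩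
    refine (zp_map ι).1 (hz.symm ▸ cnQ h fun j => ?_ : (c : G) ∈ zpowers (z : G))
    by_cases n : j = 0
    exacts [n ▸ cn12 e h2, h1 j n]
  · have h1 : (g : G) ∈ Nz E.z := hz ▸ (Nz_map ι).2 k
    exact (sg12 e h1 (sg_r e h1 (mem_Ce'.1 g.2.2))).imp (fun k => ⟨cj_sub k.1, cj_sub k.2⟩)
      fun k => ⟨cj_sub k.1, cj_sub k.2⟩

theorem wcqY : WCQ (dY E z) := fun g k => (zp_map E.Y.subtype_injective).1
  (hz.symm ▸ wc12 e ((eQ e).le k) ⟨g, .inl (hz ▸ rfl)⟩ : _ ∈ zpowers (z : G))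

omit hz in
theorem c0_one (k : a ∈ zpowers (E.c 0)) (ha : a ∈ E.K) : a = 1 := by
  have c3 := (e.h3.sd 0).cube _ (e.hj.cQ 0)
  refine zpow_inf (orderOf_eq_prime c3 fun k => e.hj.cz 0 (k ▸ one_mem _)) (fun n => e.hj.cz 0 ?_) k ha
  have := e.hj.rcr 0
  rw [mem_Ce'.1 (Ce_symm n), eq_inv_iff_mul_eq_one] at this
  exact sq_mem c3 (this ▸ one_mem _)

omit hz in
theorem zc0 {s k : ZMod 3} (h : Zt E.z (zp E.z s * zp (E.c 0) k)) : k = 0 := by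
  have : el E.z E.t E.c 0 s (Pi.single 0 k) = zp E.z s * zp (E.c 0) k := by
    simp [el_eq, cc, zp_zero]
  exact (by decide : ∀ s k : ZMod 3, ∀ a : Fin 3 → ZMod 3, a = Pi.single 0 k →
    a 0 * a 0 + a 1 * a 1 + a 2 * a 2 + 1 * 0 * s = 0 → k = 0) s k _ rfl
    ((e.hj.zset _ _ _).1 (this ▸ h)).2

end

section

variable {G : Type*} [Group G] [Finite G] {E : Dat G} {a g p q y : G} {i j : Fin 3}

variable (e : E1 E)
include e

theorem nS0 : nr E.S0 ≤ Nz E.z := fun _ hg => mem_Nz.2 (sylz e.h3 e.hj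
  (conj_mem_of_mem_normalizer hg (mem_sup_left (mem_sup_left (e.h3.sd 1).zmem)))
  (conj_cn' hg fun _ k => mem_Ce.1 (sup_le (sup_le (co e.h3 1).le_Ce (co e.h3 2).le_Ce)
    (zpowers_le.2 (Bz e.hj.tB)) k)))

theorem swY (s : Swap E.D) : ∃ g ∈ E.Y, g ∈ Ce E.z ∧ cj g (E.Q 2) = E.Q 1 := by
  have h := e.h3
  obtain ⟨g, hg, k0, k1⟩ := s
  have t0 := (ty e 0).conj h hg
  rw [sg_of h (CeN hg) k0] at t0
  obtain ⟨u, hu, k2, -⟩ := t0.rel h (ty e 0)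
  have uz := mul_mem ((co h 0).le_Ce hu) hg
  obtain ⟨p, hp, k3⟩ := cz e ⟨CeN uz, mem_Ce'.2 (Eq.trans (by group) k2)⟩
  refine ⟨_, k3, mul_mem (inv_mem (Bz (RB e hp))) uz, ?_⟩
  rw [← H98.cj_cj, ← H98.cj_cj, ((sg12 e (CeN hg) (sg_of h (CeN hg) k0)).resolve_left fun k =>
    (co h 2).not_le_cn (by simpa only [k.2.symm.trans k1] using h.QQ 1 2 (by decide))).1,
    cj_eq_self (BN (QiB h 0 hu) 1).2, cj_eq_self (BN (inv_mem (RB e hp)) 1).2]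

variable (n : NJ1 E)
include n

theorem nwY {z : E.Y} (hz : (z : G) = E.z) : NW z (Ce z) := by
  have ι := E.Y.subtype_injective
  have tY := SY e (mem_sup_right (mem_zpowers E.t))
  have zt : Zt E.z E.t := ⟨_, .inl e.hj.hz⟩
  refine ⟨⟨_, tY⟩, (Ce_map ι).1 (hz.symm ▸ Bz e.hj.tB : E.t ∈ Ce (z : G)), ?_,
    fun k => jnQ e.h3 e.hj (zQ e.h3 (hz ▸ (zp_map ι).2 k : E.t ∈ zpowers E.z))⟩
  obtain ⟨g, hg, k | k | k⟩ := n.typ _ ⟨tJ' e, tY.2⟩ (Zt_ne e.h3 zt)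
  · exact ⟨⟨g, hg.1⟩⁻¹, .inl (Subtype.ext (by simp [hz, ← k, mul_assoc]))⟩
  · exact (e.hj.cz 1 (wc12 e (mem_sup_left (e.hj.cQ 1)) (k ▸ Zt_cj zt g))).elim
  · exact (e.hj.cz 2 (infQ e.h3 (i := 1) (by decide) ((mul_mem_cancel_left (e.hj.cQ 1)).1
      ((co e.h3 1).zle (wc12 e (mul_mem (mem_sup_left (e.hj.cQ 1)) (mem_sup_right (e.hj.cQ 2)))
        (k ▸ Zt_cj zt g : Zt E.z E.b)))) (e.hj.cQ 2))).elim

theorem inv_r0 (ha : a ∈ E.J) (h3 : E.r 0 * a * (E.r 0)⁻¹ = a⁻¹) : ∃ k, a = zp (E.c 0) k := by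
  obtain ⟨v, rfl⟩ := (n.memJ _).1 ha
  have h1 : E.φ (Pi.single 2 (v 2)) = zp (E.c 0) (v 2) := by
    simp [Dat.φ, el_eq, cc, zp_zero]
  have h2 := (n.memI _).2 ⟨v - Pi.single 2 (v 2), by simp, rfl⟩
  rw [← sub_add_cancel v (Pi.single 2 (v 2)), n.add, h1] at h3 ⊢
  generalize E.φ (v - Pi.single 2 (v 2)) = w at h2 h3
  rw [← conj_mul, mem_Ce'.1 (Ce_symm h2.2), zp_cj, e.hj.rcr, zp, zp, inv_pow, mul_inv_rev,
    ← Jab n (inv_mem (pow_mem (cJ' e 0) _)) _ (inv_mem h2.1), mul_left_inj,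
    eq_inv_iff_mul_eq_one] at h3
  exact ⟨_, by rw [show w = 1 by rw [← J3 n h2.1, pow_three, h3, mul_one], one_mul]⟩

theorem ccN (hg : g ∈ Nz E.z) (hc : g ∈ Ce (E.c 0)) : ∃ k : ℕ, g * E.c 0 ^ k ∈ E.K := by
  have h := e.h3
  have s0 := sg_eq h hg (e.hj.cQ 0) (e.hj.cz 0) ((mem_Ce'.1 hc).symm ▸ e.hj.cQ 0)
  have k1 : ∀ j, j ≠ 0 → g * E.r 0 * g⁻¹ * E.r 0 ∈ cn (E.Q j) := fun j k => by
    refine mul_mem ?_ (e.hj.rc 0 j k)
    obtain ⟨j, rfl⟩ := (sg E.D g).surjective j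
    exact sg_cn h hg (e.hj.rc 0 j fun l => k (l ▸ s0))
  have ri : (E.r 0)⁻¹ = E.r 0 := inv_eq_of_mul_eq_one_right (e.hj.rsq 0)
  have k2 : g * E.r 0 * g⁻¹ * E.r 0 ∈ JJ E.D E.c := mem_JJ.2
    ⟨((co h 1).cn_le (k1 1 (by decide))).1, fun j => by
      by_cases l : j = 0
      · subst l
        refine mem_Ce'.2 ?_
        calc _ = g * (E.r 0 * (g⁻¹ * (E.r 0 * E.c 0 * (E.r 0)⁻¹) * g⁻¹⁻¹) * (E.r 0)⁻¹) * g⁻¹ := by group
          _ = _ := by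
            rw [e.hj.rcr, ← conj_inv, mem_Ce'.1 (inv_mem hc), ← conj_inv, e.hj.rcr, inv_inv,
              mem_Ce'.1 hc]
      · exact mem_Ce.2 (k1 j l _ (e.hj.cQ j)).symm⟩
  have k3 : E.r 0 * (g * E.r 0 * g⁻¹ * E.r 0) * (E.r 0)⁻¹ = (g * E.r 0 * g⁻¹ * E.r 0)⁻¹ := by
    simp only [mul_inv_rev, inv_inv, ri, mul_assoc, e.hj.rsq, mul_one]
  obtain ⟨k, hk⟩ := inv_r0 e n (AJ h e.hj k2 (Qle 0 (invQ h e.hj k2 k3))) k3
  refine ⟨k.val, mem_Ce'.2 ?_⟩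
  have c3 : zp (E.c 0) k ^ 3 = 1 := J3 n (zp_mem' (cJ' e 0) k)
  have h1 : E.r 0 * (zp (E.c 0) k)⁻¹ * (E.r 0)⁻¹ = zp (E.c 0) k := by
    rw [← conj_inv, zp_cj, e.hj.rcr, zp, zp, inv_pow, inv_inv]
  calc _ = g * zp (E.c 0) k * g⁻¹ * (g * (E.r 0 * (zp (E.c 0) k)⁻¹ * (E.r 0)⁻¹) * g⁻¹) *
        (g * E.r 0 * g⁻¹ * E.r 0) * (E.r 0)⁻¹ := by simp only [zp]; group
    _ = _ := by rw [h1, zp_conj hc, hk, ← pow_three', c3, one_mul, ri]

/-- a normal subgroup of `Y` that contains all sixth powers contains `S0` and `r 2` -/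
theorem S0_le {X : Subgroup G} (hn : E.Y ≤ nr X) (h6 : ∀ g ∈ E.Y, g ^ 6 ∈ X) :
    E.S0 ≤ X ∧ E.r 2 ∈ X := by
  have h := e.h3
  have r1 : ∀ i, i ≠ 0 → E.r i ∈ X := fun i k => by
    obtain ⟨A, h1, h2⟩ := (by decide +kernel : ∃ A : SL3, A ^ 4 = 1 ∧ A ^ 6 * -1 = 1)
    obtain ⟨p, hp, rfl⟩ := Ronto e i A h1
    have := Rinj e (mul_mem (pow_mem hp 6) (rR e i)) (by
      rw [m_mul h (pow_mem (RB e hp) 6) (e.hj.rB i), m_pow h (RB e hp), e.hj.rm, h2])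
    exact inv_mem_iff.1 (eq_inv_of_mul_eq_one_left this ▸ h6 p (RY e k hp))
  have c1 : ∀ i, i ≠ 0 → ∀ a ∈ E.Q i, E.r i * a * (E.r i)⁻¹ * a⁻¹ ∈ X := fun i k a ha => by
    rw [mul_assoc, mul_assoc, ← mul_assoc a]
    exact mul_mem (r1 i k) (conj_mem_of_mem_normalizer (hn (QY e k ha)) (inv_mem (r1 i k)))
  have c2 : E.c 1 ∈ X := inv_mem_iff.1 (sq_mem (by rw [inv_pow, (h.sd 1).cube _ (e.hj.cQ 1), inv_one])
    (e.hj.rcr 1 ▸ c1 1 (by decide) _ (e.hj.cQ 1)))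
  have z1 : E.z ∈ X := by
    have := conj_mem_of_mem_normalizer (hn (QY e (by decide) (e.hj.xQ 1))) c2
    rw [e.hj.xc, mul_mem_cancel_left c2] at this
    exact zp_one (z := E.z) ▸ this
  have q1 : ∀ i, i ≠ 0 → E.Q i ≤ X := fun i k a ha => by
    obtain ⟨l, hl⟩ := (ty e i).inv h ha
    have := c1 i k a ha
    rw [hl, mul_assoc, mul_mem_cancel_left (zp_mem' z1 l)] at this
    exact inv_mem_iff.1 (sq_mem (by rw [inv_pow, (h.sd i).cube _ ha, inv_one]) this)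
  refine ⟨sup_le (sup_le (q1 1 (by decide)) (q1 2 (by decide))) (zpowers_le.2 ?_), r1 2 (by decide)⟩
  have tY := SY e (mem_sup_right (mem_zpowers E.t))
  have zt : Zt E.z E.t := ⟨_, .inl e.hj.hz⟩
  have k : ∀ g ∈ E.Y, g * E.t * g⁻¹ ∈ X → E.t ∈ X := fun g hg m => by
    simpa [mul_assoc] using conj_mem_of_mem_normalizer' (hn hg) m
  obtain ⟨g, hg, l | l | l⟩ := n.typ _ ⟨tJ' e, tY.2⟩ (Zt_ne e.h3 zt)
  exacts [k g hg.1 (l ▸ z1), k g hg.1 (l ▸ c2),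
    k g hg.1 (l ▸ mul_mem c2 (q1 2 (by decide) (e.hj.cQ 2)))]

omit e n in
theorem X2Y : X2 E ≤ E.Y := (comm_le _).trans (comm_le _)

omit e n in
theorem X2_eq : (X2 E).subgroupOf E.Y = ⁅commutator E.Y, commutator E.Y⁆ := by
  rw [commutator_def, ← comap_map_eq_self_of_injective E.Y.subtype_injective ⁅_, _⁆,
    map_commutator, map_commutator, ← MonoidHom.range_eq_map, range_subtype]
  rfl

omit e n in
theorem nX2 : E.Y ≤ nr (X2 E) :=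
  (normal_subgroupOf_iff_le_normalizer X2Y).1 (X2_eq (E := E) ▸ inferInstance)

theorem eX (c : Concl E.Y) : (X2 E).subgroupOf E.Y = generalizedFittingSubgroup E.Y := by
  obtain ⟨s1, -, i1⟩ := of_concl0 c
  rw [X2_eq]
  refine le_antisymm (der6 _ i1) ?_
  have k := (S0_le e n (X := (generalizedFittingSubgroup E.Y).map E.Y.subtype)
    ((normal_subgroupOf_iff_le_normalizer (map_subtype_le _)).1 (by
      rw [subgroupOf, comap_map_eq_self_of_injective E.Y.subtype_injective]; infer_instance))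
    fun g hg => by
      obtain ⟨m, hm⟩ := i1
      have := pow_mem (pow_index_mem (H := generalizedFittingSubgroup E.Y) ⟨g, hg⟩) m
      rw [← pow_mul, ← hm] at this
      exact ⟨_, this, rfl⟩).1
  have k1 : ⁅generalizedFittingSubgroup E.Y, generalizedFittingSubgroup E.Y⁆ =
      generalizedFittingSubgroup E.Y := by
    rcases (inferInstance : (commutator (generalizedFittingSubgroup E.Y)).Normal).eq_bot_or_eq_top
      with l | l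
    · refine ((co e.h3 1).not_le_cn fun a ha b hb => ?_).elim
      obtain ⟨a, ha', rfl⟩ := k (mem_sup_left (mem_sup_left ha))
      obtain ⟨b, hb', rfl⟩ := k (mem_sup_left (mem_sup_left hb))
      exact congrArg (fun x : generalizedFittingSubgroup E.Y => (x.1 : G))
        (commutatorElement_eq_one_iff_mul_comm.1 (l.le (commutator_mem_commutator
          (mem_top (⟨b, hb'⟩ : generalizedFittingSubgroup E.Y)) (mem_top ⟨a, ha'⟩))))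
    · have := congrArg (map (generalizedFittingSubgroup E.Y).subtype) l
      rwa [_root_.commutator_def, map_commutator, ← MonoidHom.range_eq_map, range_subtype] at this
  have k2 : generalizedFittingSubgroup E.Y ≤ commutator E.Y :=
    k1.ge.trans (commutator_mono le_top le_top)
  exact k1.ge.trans (commutator_mono k2 k2)

omit n in
/-- `N_Y(C_Y(z, c 1, c 2)) ≤ N(I)` -/
theorem nI' (hg : g ∈ E.Y) (k : g ∈ nr (JJ E.D E.c ⊓ E.K)) : g ∈ nr E.I := by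
  have k1 : ∀ a ∈ JJ E.D E.c ⊓ E.K, g * a * g⁻¹ ∈ cn (JJ E.D E.c) := fun a ha =>
    e.hj.Jab (conj_mem_of_mem_normalizer k ha).1
  refine le_normalizer_inf (H := nr E.J ⊓ E.K) inf_le_left (inf_le_right.trans le_normalizer)
    ⟨e.hj.nJ (nrJ (k1 _ ⟨zJ e.h3 e.hj.cQ, (zY e).2⟩) fun i => ?_), hg.2⟩
  by_cases l : i = 0
  · rw [l, mem_Ce'.1 hg.1]; exact c_cnJ 0
  · exact k1 _ ⟨cJ e.h3 e.hj.cQ i, (QY e l (e.hj.cQ i)).2⟩

end

variable {G : Type u} [Group G] [Finite G] {E : Dat G} (e : E1 E) (n : NJ1 E)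
include e n

theorem rigY (rig : Rig0.{u}) (Γ : Type u) [Group Γ] [Finite Γ] (ψ : E.Y →* Γ) (z : E.Y)
    (hz : (z : G) = E.z) (hψ : Function.Injective ψ) (hN : Nz (ψ z) ≤ ψ.range)
    (hW : ∀ (g : Γ) (y : E.Y), (y : G) ∈ E.Q 1 ⊔ E.Q 2 → g * ψ z * g⁻¹ = ψ y →
      (y : G) ∈ zpowers E.z) : ψ.range = ⊤ :=
  rig E.Y Γ (dY E z) ψ (haY e hz) (wcqY e hz) (nwY e n hz) hψ hN fun g y hy k =>
    (zp_map E.Y.subtype_injective).1 (hz.symm ▸ hW g y ((eQ e).le hy) k : _ ∈ zpowers (z : G))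

theorem ccY (rig : Rig0.{u}) (g : G) (hg : g ∈ Ce (E.c 0)) : ∃ k : ℕ, g * E.c 0 ^ k ∈ E.K := by
  have oc : orderOf (E.c 0) = 3 := orderOf_eq_prime (J3 n (cJ' e 0)) fun k =>
    e.hj.cz 0 (k ▸ one_mem _)
  have cC : zpowers (E.c 0) ≤ Ce (E.c 0) := zpowers_le.2 (mem_Ce.2 rfl)
  let N := (zpowers (E.c 0)).subgroupOf (Ce (E.c 0))
  have hN : N.Normal := (normal_subgroupOf_iff_le_normalizer cC).2 CeN'
  let ψ : E.Y →* Ce (E.c 0) ⧸ N := (QuotientGroup.mk' N).comp (inclusion inf_le_left)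
  have eq : ∀ (a : Ce (E.c 0)) (y : E.Y), (a : Ce (E.c 0) ⧸ N) = ψ y →
      ∃ k, (a : G) = y * zp (E.c 0) k := fun a y k =>
    (exists_zp oc ((QuotientGroup.eq (s := N) (a := ⟨y, y.2.1⟩)).1 k.symm)).imp fun _ =>
      inv_mul_eq_iff_eq_mul.1
  have rg : ∀ (a : Ce (E.c 0)) (k : ℕ), (a : G) * E.c 0 ^ k ∈ E.K →
      (a : Ce (E.c 0) ⧸ N) ∈ ψ.range := fun a k hk =>
    ⟨⟨_, mul_mem a.2 (cC (pow_mem (mem_zpowers _) k)), hk⟩, QuotientGroup.eq.2 (by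
      show ((a : G) * E.c 0 ^ k)⁻¹ * a ∈ zpowers (E.c 0)
      simp)⟩
  let z0 : Ce (E.c 0) := ⟨E.z, (zY e).1⟩
  have := rigY e n rig _ ψ ⟨_, zY e⟩ rfl ((injective_iff_map_eq_one _).2 fun y k =>
    Subtype.ext (c0_one e ((QuotientGroup.eq_one_iff (N := N) ⟨y, y.2.1⟩).1 k) y.2.2)) (fun γ k => by
      obtain ⟨a, rfl⟩ := QuotientGroup.mk_surjective γ
      obtain ⟨y, hy, k1⟩ := (MonoidHom.map_zpowers ψ _).ge (mem_Nz.1 k)
      obtain ⟨s, hs⟩ := exists_zp e.h3.ord ((zp_map E.Y.subtype_injective).2 hy)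
      obtain ⟨l, hl⟩ := eq (a * z0 * a⁻¹) y k1.symm
      rw [show (y : G) = _ from hs] at hl
      change (a : G) * E.z * (a : G)⁻¹ = _ at hl
      rw [zc0 e (s := s) (k := l) (hl ▸ Zt_conj (D := E.D) a), zp_zero, mul_one] at hl
      obtain ⟨k, hk⟩ := ccN e n (mem_Nz.2 (hl ▸ zp_mem s)) a.2
      exact rg a k hk) (fun γ y hy k => by
      obtain ⟨a, rfl⟩ := QuotientGroup.mk_surjective γ
      obtain ⟨l, hl⟩ := eq (a * z0 * a⁻¹) y k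
      change (a : G) * E.z * (a : G)⁻¹ = _ at hl
      have h1 := Zt_cj (Zt_cj (Zt_conj (D := E.D) a) (E.r 0)) (a : G)⁻¹
      have h2 : E.r 0 * (a * E.z * (a : G)⁻¹) * (E.r 0)⁻¹ = a * E.z * (a : G)⁻¹ * zp (E.c 0) l := by
        rw [hl, ← conj_mul, mem_Ce'.1 (Ce_symm y.2.2), zp_cj, e.hj.rcr, mul_assoc, ← zp_add oc,
          (by decide : ∀ l : ZMod 3, l + l = -l), zp_neg oc, zp, zp, inv_pow]
      rw [h2, ← conj_mul, zp_conj (inv_mem a.2), show (a : G)⁻¹ * (a * E.z * (a : G)⁻¹) * (a : G)⁻¹⁻¹ =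
        zp E.z 1 by rw [zp_one]; group] at h1
      rw [zc0 e h1, zp_zero, mul_one] at hl
      exact wc12 e hy (hl ▸ Zt_conj (D := E.D) a))
  obtain ⟨y, hy⟩ := this.ge (mem_top ((⟨g, hg⟩ : Ce (E.c 0)) : Ce (E.c 0) ⧸ N))
  obtain ⟨l, hl⟩ := eq _ y hy.symm
  refine ⟨(-l).val, ?_⟩
  change g = _ at hl
  rw [hl, mul_assoc, ← zp, ← zp_add oc, add_neg_cancel, zp_zero, mul_one]
  exact y.2.2

omit e n in
theorem jobY : H46.E6B.JobY.{u} := by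
  intro hub rig hr G _ _ E e n rf
  have ι := E.Y.subtype_injective
  have ha := haY e (z := ⟨_, zY e⟩) rfl
  have c := hub _ _ ha (wcqY e rfl) (nwY e n rfl)
  have eX := eX e n c
  obtain ⟨-, c1, i2⟩ := of_concl0 c
  obtain ⟨⟨F, _, _, hF, ⟨φ⟩⟩, c2⟩ := c
  rw [← eX] at φ c1 i2 c2
  rw [Nat.card_congr (subgroupOfEquivOfLe X2Y).toEquiv] at c1
  have hN := (normal_subgroupOf_iff_le_normalizer X2Y).2 (nX2 (E := E))
  obtain ⟨s1, s2⟩ := S0_le e n nX2 fun g hg => by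
    obtain ⟨m, hm⟩ := i2
    have := pow_mem (pow_index_mem (H := (X2 E).subgroupOf E.Y) ⟨g, hg⟩) m
    rwa [← pow_mul, ← hm] at this
  have sy : IsSyl 3 E.S0 (X2 E) := isSyl_of_not_dvd_relIndex s1
    (IsPGroup.of_card (n := 6) (sylc e.h3 e.hj)) fun k => by
      have := H46.card_mul_relIndex s1
      rw [c1, sylc e.h3 e.hj] at this
      omega
  have h1 := hr _ _ ha (wcqY e rfl) (nwY e n rfl) ⟨_, RY e (by decide) (rR e 2)⟩
    (rR e 2) (e.hj.rm 2) ⟨_, QY e (by decide) (e.hj.cQ 2)⟩ (e.hj.cQ 2)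
    (fun k => e.hj.cz 2 ((zp_map ι).2 k)) ⟨_, QY e (by decide) (e.hj.cQ 1)⟩ (e.hj.cQ 1)
    fun k => e.hj.cz 1 ((zp_map ι).2 k)
  refine ⟨⟨F, _, _, hF, ⟨(subgroupOfEquivOfLe X2Y).symm.trans φ⟩⟩, eq_bot_iff.2 fun g hg =>
    congrArg Subtype.val (c2.le (x := ⟨g, hg.1⟩) fun x hx => Subtype.ext (hg.2 x hx)), i2, s1, s2,
    fun y hy y3 => ?_, fun g hg => ?_, ccY e n rig, ?_, rigY e n rig⟩
  · obtain ⟨g, hg, k⟩ := sy.exists_cj_le (isPGroup_zpowers (k := 1) y3) (zpowers_le.2 hy)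
    obtain ⟨l, hl, k'⟩ := rf.ord3 _ (k (conj_mem_cj (mem_zpowers y))) (by rw [conj_pow, y3]; simp)
    exact ⟨l * g, mul_mem hl (X2Y hg), by simpa [mul_assoc] using k'⟩
  · obtain ⟨a, ha, k, hk, h⟩ := sy.frattini_mem (inv_mem (nX2 hg))
    exact ⟨k⁻¹, inv_mem hk, inv_mem_iff.1 (by
      rw [mul_inv_rev, h, inv_inv, mul_inv_cancel_right]; exact nS0 e ha)⟩
  · have := H39.E6R.hr0_push ι h1
    rw [show map E.Y.subtype (Ce _) = E.Y ⊓ Ce (E.r 2) from Subgroup.ext fun x =>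
      ⟨fun ⟨y, hy, k⟩ => k ▸ ⟨y.2, (Ce_map ι).2 hy⟩, fun k => ⟨⟨x, k.1⟩, (Ce_map ι).1 k.2, rfl⟩⟩,
      show map E.Y.subtype (dY E _).R1 = E.R 2 from map_subgroupOf_eq_of_le (RY e (by decide)),
      show map E.Y.subtype (cn _) = JJ E.D E.c ⊓ E.K from Subgroup.ext fun x => ⟨by
        rintro ⟨y, hy, rfl⟩
        obtain ⟨k0, k2, k1⟩ := H84.PS.mem_cnA.1 hy
        refine ⟨mem_JJ.2 ⟨(Ce_map ι).2 k0, fun j => ?_⟩, y.2.2⟩
        rcases f3 j with rfl | rfl | rfl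
        exacts [y.2.1, (Ce_map ι).2 k1, (Ce_map ι).2 k2], fun k =>
        have ⟨k0, k1⟩ := mem_JJ.1 k.1
        ⟨⟨x, k1 0, k.2⟩, H84.PS.mem_cnA.2 ⟨(Ce_map ι).1 k0, (Ce_map ι).1 (k1 2),
          (Ce_map ι).1 (k1 1)⟩, rfl⟩⟩] at this
    have k : E.Y ⊓ Ce (E.r 2) ⊓ nr (JJ E.D E.c ⊓ E.K) ≤ E.Y ⊓ Ce (E.r 2) ⊓ nr E.I :=
      fun g hg => ⟨hg.1, nI' e hg.1.1 hg.2⟩
    exact ⟨this.com, fun Θ N i h1 h2 => this.le Θ N i h1 (k.trans h2),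
      fun M h1 h2 => this.gen M h1 (k.trans h2)⟩

end H39.E6B.N
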