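import Cfsg.Agent.H39.F23Spec
import Cfsg.Agent.H28.PSAsm
import Cfsg.Agent.H84.PSB1a
import Cfsg.Agent.H84.PSB1b
import Cfsg.Agent.H38.PsB2
import Cfsg.Agent.H17.PSB3a
import Cfsg.Agent.H17.PSB3b
import Cfsg.Agent.H18.PST2
import Cfsg.Agent.H55.PSGF2
import Cfsg.Agent.H28.PSL1
import Cfsg.Agent.H28.PSL2
import Cfsg.Agent.H28.PSX1
import Cfsg.Agent.H28.PSX2
import Cfsg.Agent.H52.PS1
import Cfsg.Agent.H52.PS2
import Cfsg.Agent.H4.PsK2
import Cfsg.Agent.H84.PSE2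
import Cfsg.Agent.H95.Fi24A

/-! Assembly of chapter F22 of `blueprints/PS3B.md` from the jobs. -/

set_option autoImplicit false

open Cfsg Subgroup H98 H42.L3 H56.L3

universe u

namespace H39.F22

theorem hub : Hub.{u} := fun _ _ _ _ h w hy => by
  obtain ⟨C, hC⟩ := H28.PS.ctx_of H84.PS.jobB1a H84.PS.jobB1b H38.B2.jobB2 H17.PS.jobB3a
    H17.PS.jobB3b h w hy
  exact H28.PS.concl_of_ctx H18.PST.jobT H55.GF.gf H28.PS.jobL1 H28.PS.jobL2 H28.PS.jobX1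
    H28.PS.jobX2 H52.PS1.jobS1 H52.PS2.jobS2 H4.PK.jobK H84.PE.jobE hC

theorem oo_normal {G : Type*} [Group G] (d : G) : ((OO d).subgroupOf (Ce d)).Normal := by
  refine ⟨fun n hn g => ?_⟩
  have : cj (g : G) (OO d) ≤ OO d := by
    rw [OO, cj, MonoidHom.map_closure]
    refine closure_mono ?_
    rintro _ ⟨k, ⟨h1, h2⟩, rfl⟩
    exact ⟨mul_mem (mul_mem g.2 h1) (inv_mem g.2), by rw [← map_pow, h2, map_one]⟩
  exact this (conj_mem_cj hn)

theorem main22 (sn : H39.SE.JobN) (n : JobN.{u}) (w : JobW.{u}) (v : JobV.{u}) (j : JobJ.{u})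
    (k : JobK.{u}) (l : JobL.{u}) (e : JobE.{u}) (u : JobU.{u}) (f : JobF.{u}) :
    H39.F23.Main22.{u} := fun G _ _ D h hc hw => by
  have h9 := n G D h hc
  have hv := v G D h hc h9 (w G D h h9 hw)
  obtain ⟨t, c, r, x, π, g, ε, J, hj⟩ := j G D h h9 hv
  obtain ⟨R, hk⟩ := k G D t c r x π g ε J h hv hj
  obtain ⟨Γ, _, p, hl⟩ := l hub G D t r π R h hv hk
  have : Finite Γ := Finite.of_surjective p hl.1
  have hn := (oo_normal (r 0)).map p hl.1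
  obtain ⟨F, _, _, hF, hi⟩ := hl.2.2.1
  obtain ⟨ψ, h1, h2⟩ := e Γ _ hn hl.2.2.2 F hF hi
  exact f G D t r π R Γ p h hk hl (u sn Γ _ hn ψ h1 h2)

theorem aut22 {G : Type*} [Group G] [Finite G] {N : Subgroup G} [N.Normal] (h : Spor.IsoFi22 N)
    (hc : cn N = ⊥) : Spor.IsoFi22 G ∨ Nonempty (G ≃* MulAut Spor.Fi22) := by
  obtain ⟨e⟩ := h
  let ψ : G →* MulAut Spor.Fi22 := (MulAut.congr e).toMonoidHom.comp MulAut.conjNormal
  have hψ : Function.Injective ψ := by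
    refine (injective_iff_map_eq_one _).2 fun g hg => mem_bot.1 (hc ▸ fun k hk => ?_)
    have h1 : (MulAut.conjNormal g : MulAut N) = 1 := (MulAut.congr e).map_eq_one_iff.1 hg
    have h2 := MulAut.conjNormal_apply g (⟨k, hk⟩ : N)
    rw [h1] at h2
    exact (mul_inv_eq_iff_eq_mul.1 h2.symm).symm
  have h1 := card_dvd_of_injective ψ hψ
  have h2 : Nat.card N = H80.ord22 := (Nat.card_congr e.toEquiv).trans H71.Fi22.card
  have h3 := N.index_mul_card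
  rw [H95.card_aut22, ← h3, h2] at h1
  have h4 := Nat.dvd_of_mul_dvd_mul_right (h2 ▸ Nat.card_pos) h1
  rcases (Nat.dvd_prime Nat.prime_two).1 h4 with h5 | h5
  · obtain rfl := index_eq_one.1 h5
    exact .inl ⟨topEquiv.symm.trans e⟩
  · have : Finite (MulAut Spor.Fi22) :=
      Nat.finite_of_card_ne_zero (by rw [H95.card_aut22]; decide)
    exact .inr ⟨MulEquiv.ofBijective ψ ((Nat.bijective_iff_injective_and_card ψ).2
      ⟨hψ, by rw [H95.card_aut22, ← h3, h5, h2]⟩)⟩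

theorem H3.zQQ {G : Type*} [Group G] {D : D3 G} (h : H3 D) : D.z ∈ D.QQ :=
  mem_sup_right (h.sd 2).zmem

/-- the conclusion of row S3368 from that of job `A` -/
theorem s3368 (n : JobN.{u}) (w : JobW.{u}) (m : H39.F23.Main22.{u}) {G : Type u} [Group G]
    [Finite G] {Z X : Subgroup G}
    (h : ∃ D : D3 G, H3 D ∧ C128 D ∧ zpowers D.z = Z ∧ D.QQ = X ∧ NW D.z (Ce D.z)) :
    ¬ IsWeaklyClosed Z X ∧ (Spor.IsoFi22 G ∨ Nonempty (G ≃* MulAut Spor.Fi22)) := by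
  obtain ⟨D, h, hc, rfl, rfl, hw⟩ := h
  obtain ⟨N, _, h1, h2, -⟩ := m G D h hc hw
  refine ⟨fun e => ?_, aut22 h1 h2⟩
  obtain ⟨y, hy, ⟨g, hg⟩, hn⟩ := w G D h (n G D h hc) hw
  have := (H28.PS.wc_iff h.zQQ).1 e g
  rcases hg with hg | hg
  · exact hn (hg ▸ this (hg ▸ hy))
  · exact hn (inv_mem_iff.1 (hg ▸ this (hg ▸ inv_mem hy)))

end H39.F22
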