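import Cfsg.Agent.H39.F24X

/-! The quadratic form `q`, the scalar `w0` (multiplication by a cube root of unity), the four types
of vectors, counting and orbit tools on `V`. Coordinate `i < 6` over `F₄` is
`bit (2i) + ω bit (2i+1)`. -/

set_option autoImplicit false
set_option maxRecDepth 1000000
set_option Elab.async false

namespace H39.F24

open H49 H72 MulAction

/-- the quadratic form: parity of the number of non-zero `F₄`-coordinates -/
def q (v : V) : ZMod 2 :=
  (v 0 + v 1 + v 0 * v 1) + (v 2 + v 3 + v 2 * v 3) + (v 4 + v 5 + v 4 * v 5) +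
    (v 6 + v 7 + v 6 * v 7) + (v 8 + v 9 + v 8 * v 9) + (v 10 + v 11 + v 10 * v 11)

/-- the polar form -/
def bf (u v : V) : ZMod 2 :=
  (u 0 * v 1 + u 1 * v 0) + (u 2 * v 3 + u 3 * v 2) + (u 4 * v 5 + u 5 * v 4) +
    (u 6 * v 7 + u 7 * v 6) + (u 8 * v 9 + u 9 * v 8) + (u 10 * v 11 + u 11 * v 10)

theorem q_add (u v : V) : q (u + v) = q u + q v + bf u v := by
  simp only [q, bf, Pi.add_apply]; ring

theorem q_zero : q 0 = 0 := by simp [q]

theorem bf_comm (u v : V) : bf u v = bf v u := by simp only [bf]; ring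

theorem bf_add_left (u v w : V) : bf (u + v) w = bf u w + bf v w := by
  simp only [bf, Pi.add_apply]; ring

theorem bf_add_right (u v w : V) : bf w (u + v) = bf w u + bf w v := by
  simp only [bf, Pi.add_apply]; ring

theorem bf_zero_left (v : V) : bf 0 v = 0 := by simp [bf]
theorem bf_zero_right (v : V) : bf v 0 = 0 := by simp [bf]

theorem z2_add_self (a : ZMod 2) : a + a = 0 := CharTwo.add_self_eq_zero a

theorem bf_eq (u v : V) : bf u v = q (u + v) + q u + q v := by
  rw [q_add]
  linear_combination (-1 : ZMod 2) * z2_add_self (q u) - z2_add_self (q v)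

theorem bf_self (v : V) : bf v v = 0 := by
  rw [bf_eq, add_self_V, q_zero, zero_add, z2_add_self]

theorem eq_zero_of_bf {v : V} (h : ∀ u, bf u v = 0) : v = 0 := by
  funext j
  fin_cases j
  · simpa [bf] using h (Pi.single 1 1)
  · simpa [bf] using h (Pi.single 0 1)
  · simpa [bf] using h (Pi.single 3 1)
  · simpa [bf] using h (Pi.single 2 1)
  · simpa [bf] using h (Pi.single 5 1)
  · simpa [bf] using h (Pi.single 4 1)
  · simpa [bf] using h (Pi.single 7 1)
  · simpa [bf] using h (Pi.single 6 1)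
  · simpa [bf] using h (Pi.single 9 1)
  · simpa [bf] using h (Pi.single 8 1)
  · simpa [bf] using h (Pi.single 11 1)
  · simpa [bf] using h (Pi.single 10 1)

/-! ### loops over the codes -/

/-- `f` holds on all numbers below `N` -/
noncomputable def allV (f : ℕ → Bool) (N : ℕ) : Bool :=
  Nat.rec (motive := fun _ => Bool) true
    (fun i acc => Bool.rec (motive := fun _ => Bool) false acc (f i)) N

theorem allV_iff {f : ℕ → Bool} {N : ℕ} : allV f N = true ↔ ∀ i < N, f i = true := by
  induction N with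
  | zero => simp [allV]
  | succ N ih =>
    show Bool.rec (motive := fun _ => Bool) false (allV f N) (f N) = true ↔ _
    cases h : f N
    · simp only [Bool.false_eq_true, false_iff]
      exact fun h' => by rw [h' N (by omega)] at h; exact absurd h (by simp)
    · refine ih.trans ⟨fun h' i hi => ?_, fun h' i hi => h' i (by omega)⟩
      rcases Nat.lt_succ_iff_lt_or_eq.mp hi with h1 | rfl
      exacts [h' i h1, h]

/-- the number of `i < N` with `f i`, added to an accumulator -/
noncomputable def cntA (f : ℕ → Bool) (N : ℕ) : ℕ → ℕ :=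
  Nat.rec (motive := fun _ => ℕ → ℕ) (fun a => a)
    (fun i ih a => Bool.rec (motive := fun _ => ℕ) (ih a) (frc (Nat.succ a) ih) (f i)) N

theorem cntA_eq (f : ℕ → Bool) (N a : ℕ) :
    cntA f N a = a + ((Finset.range N).filter fun i => f i = true).card := by
  induction N generalizing a with
  | zero => simp [cntA]
  | succ N ih =>
    show Bool.rec (motive := fun _ => ℕ) (cntA f N a) (frc (a + 1) (cntA f N)) (f N) = _
    rw [Finset.range_add_one, Finset.filter_insert, frc_eq]
    cases h : f N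
    · simp [ih]
    · simp only [if_true]
      rw [Finset.card_insert_of_notMem (by simp), ih]; ring

/-- the number of codes of vectors passing the test -/
noncomputable def cntV (f : ℕ → Bool) : ℕ := cntA f 4096 0

theorem ncard_eq_cntV {S : Set V} {f : ℕ → Bool} (h : ∀ n < 4096, dv n ∈ S ↔ f n = true) :
    S.ncard = cntV f := by
  rw [cntV, cntA_eq, zero_add]
  have : S = dv '' (((Finset.range 4096).filter fun i => f i = true : Finset ℕ) : Set ℕ) := by
    ext v
    obtain ⟨n, hn, rfl⟩ := exists_dv v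
    constructor
    · intro hv; exact ⟨n, by simp [hn, (h n hn).1 hv], rfl⟩
    · rintro ⟨m, hm, e⟩
      simp only [Finset.coe_filter, Finset.mem_range, Set.mem_ofPred_eq] at hm
      rw [← e]; exact (h m hm.1).2 hm.2
  rw [this, Set.InjOn.ncard_image, Set.ncard_coe_finset]
  intro a ha b hb e
  simp only [Finset.coe_filter, Finset.mem_range, Set.mem_ofPred_eq] at ha hb
  exact dv_inj ha.1 hb.1 e

theorem ncard_le_cntV {S : Set V} {f : ℕ → Bool} (h : ∀ n < 4096, dv n ∈ S → f n = true) :
    S.ncard ≤ cntV f := by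
  rw [← ncard_eq_cntV (S := {v | f (enc v) = true}) (fun n hn => by simp [enc_dv hn])]
  refine Set.ncard_le_ncard (fun v hv => ?_) (Set.toFinite _)
  have := h (enc v) (enc_lt v) (by rwa [dv_enc])
  exact this

/-- table of `q` -/
def qT : ℕ := nat_lit 0x111e111e111eeee1111e111e111eeee1111e111e111eeee1eee1eee1eee1111e111e111e111eeee1111e111e111eeee1111e111e111eeee1eee1eee1eee1111e111e111e111eeee1111e111e111eeee1111e111e111eeee1eee1eee1eee1111eeee1eee1eee1111eeee1eee1eee1111eeee1eee1eee1111e111e111e111eeee1111e111e111eeee1111e111e111eeee1111e111e111eeee1eee1eee1eee1111e111e111e111eeee1111e111e111eeee1111e111e111eeee1eee1eee1eee1111e111e111e111eeee1111e111e111eeee1111e111e111eeee1eee1eee1eee1111eeee1eee1eee1111eeee1eee1eee1111eeee1eee1eee1111e111e111e111eeee1111e111e111eeee1111e111e111eeee1111e111e111eeee1eee1eee1eee1111e111e111e111eeee1111e111e111eeee1111e111e111eeee1eee1eee1eee1111e111e111e111eeee1111e111e111eeee1111e111e111eeee1eee1eee1eee1111eeee1eee1eee1111eeee1eee1eee1111eeee1eee1eee1111e111e111e111eeee1eee1eee1eee1111eeee1eee1eee1111eeee1eee1eee1111e111e111e111eeee1eee1eee1eee1111eeee1eee1eee1111eeee1eee1eee1111e111e111e111eeee1eee1eee1eee1111eeee1eee1eee1111eeee1eee1eee1111e111e111e111eeee1111e111e111eeee1111e111e111eeee1111e111e111eeee1eee1eee1eee1111e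

/-- table of the types -/
def tyT : ℕ := nat_lit 0xbdf9ed57f9edbd57edbdf957575757fdf9edbd57edbdf957bdf9ed57575757fdedbdf957bdf9ed57f9edbd57575757fd575757fd575757fd575757fdfdfdfd56f9edbd57edbdf957bdf9ed57575757fdedbdf957bdf9ed57f9edbd57575757fdbdf9ed57f9edbd57edbdf957575757fd575757fd575757fd575757fdfdfdfd56edbdf957bdf9ed57f9edbd57575757fdbdf9ed57f9edbd57edbdf957575757fdf9edbd57edbdf957bdf9ed57575757fd575757fd575757fd575757fdfdfdfd56575757fd575757fd575757fdfdfdfd56575757fd575757fd575757fdfdfdfd56575757fd575757fd575757fdfdfdfd56fdfdfd56fdfdfd56fdfdfd56565656a9f9edbd57edbdf957bdf9ed57575757fdedbdf957bdf9ed57f9edbd57575757fdbdf9ed57f9edbd57edbdf957575757fd575757fd575757fd575757fdfdfdfd56edbdf957bdf9ed57f9edbd57575757fdbdf9ed57f9edbd57edbdf957575757fdf9edbd57edbdf957bdf9ed57575757fd575757fd575757fd575757fdfdfdfd56bdf9ed57f9edbd57edbdf957575757fdf9edbd57edbdf957bdf9ed57575757fdedbdf957bdf9ed57f9edbd57575757fd575757fd575757fd575757fdfdfdfd56575757fd575757fd575757fdfdfdfd56575757f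d575757fd575757fdfdfdfd56575757fd575757fd575757fdfdfdfd56fdfdfd56fdfdfd56fdfdfd56565656a9edbdf957bdf9ed57f9edbd57575757fdbdf9ed57f9edbd57edbdf957575757fdf9edbd57edbdf957bdf9ed57575757fd575757fd575757fd575757fdfdfdfd56bdf9ed57f9edbd57edbdf957575757fdf9edbd57edbdf957bdf9ed57575757fdedbdf957bdf9ed57f9edbd57575757fd575757fd575757fd575757fdfdfdfd56f9edbd57edbdf957bdf9ed57575757fdedbdf957bdf9ed57f9edbd57575757fdbdf9ed57f9edbd57edbdf957575757fd575757fd575757fd575757fdfdfdfd56575757fd575757fd575757fdfdfdfd56575757fd575757fd575757fdfdfdfd56575757fd575757fd575757fdfdfdfd56fdfdfd56fdfdfd56fdfdfd56565656a9575757fd575757fd575757fdfdfdfd56575757fd575757fd575757fdfdfdfd56575757fd575757fd575757fdfdfdfd56fdfdfd56fdfdfd56fdfdfd56565656a9575757fd575757fd575757fdfdfdfd56575757fd575757fd575757fdfdfdfd56575757fd575757fd575757fdfdfdfd56fdfdfd56fdfdfd56fdfdfd56565656a9575757fd575757fd575757fdfdfdfd56575757fd575757fd575757fdfdfdfd56575757fd575757fd575757fdfdfdfd56fdfdfd56fdfdfd56fdfdfd56565656a9fdfdfd56fdfdfd56fdfdfd56565656a9fdfdfd56fdfdfd56fdfdfd56565656a9fdfdfd56fdfdfd56fdfdfd56565656a9565656a9565656a9565656a9a9a9a954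

/-- `q` on codes -/
def qN (n : ℕ) : Bool := tb qT n

/-- the type on codes: `0` zero vector, `1` non-singular, `2` in `Δ` (weight 2, or weight 6 with
product of the coordinates `1`; 378 vectors), `3` the other singular vectors (1701) -/
def tyN (n : ℕ) : ℕ := Nat.land (Nat.shiftRight tyT (Nat.mul 2 n)) 3

theorem q_dv {n : ℕ} (hn : n < 4096) : q (dv n) = H73.b2z (qN n) := by
  have : allV (fun n => decide (q (dv n) = H73.b2z (qN n))) 4096 = true := by decide +kernel
  exact of_decide_eq_true (allV_iff.1 this n hn)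

theorem b2z_eq_zero {b : Bool} : H73.b2z b = 0 ↔ b = false := by cases b <;> decide
theorem b2z_eq_one {b : Bool} : H73.b2z b = 1 ↔ b = true := by cases b <;> decide

theorem q_dv_eq_zero {n : ℕ} (hn : n < 4096) : q (dv n) = 0 ↔ qN n = false := by
  rw [q_dv hn, b2z_eq_zero]

theorem q_dv_eq_one {n : ℕ} (hn : n < 4096) : q (dv n) = 1 ↔ qN n = true := by
  rw [q_dv hn, b2z_eq_one]

/-- the polar form on codes -/
def bN (m n : ℕ) : Bool := xor (qN (Nat.xor m n)) (xor (qN m) (qN n))

theorem bf_dv {m n : ℕ} (hm : m < 4096) (hn : n < 4096) : bf (dv m) (dv n) = H73.b2z (bN m n) := by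
  rw [bf_eq, ← dv_xor', q_dv hm, q_dv hn, q_dv (xor_lt hm hn), bN, H73.b2z_xor, H73.b2z_xor,
    add_assoc]

/-- the type of a vector -/
noncomputable def ty (v : V) : ℕ := tyN (enc v)

theorem ty_dv {n : ℕ} (hn : n < 4096) : ty (dv n) = tyN n := by rw [ty, enc_dv hn]

theorem ty_facts (v : V) : ty v < 4 ∧ (ty v = 0 ↔ v = 0) ∧ (ty v = 1 ↔ q v = 1) := by
  have : allV (fun n => decide (tyN n < 4 ∧ (tyN n = 0 ↔ n = 0) ∧ (tyN n = 1 ↔ qN n = true))) 4096
      = true := by decide +kernel
  obtain ⟨n, hn, rfl⟩ := exists_dv v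
  rw [ty_dv hn, q_dv_eq_one hn, ← dv_zero, dv_eq_iff hn (by norm_num)]
  exact of_decide_eq_true (allV_iff.1 this n hn)

theorem ty_lt (v : V) : ty v < 4 := (ty_facts v).1
theorem ty_eq_zero {v : V} : ty v = 0 ↔ v = 0 := (ty_facts v).2.1
theorem ty_eq_one {v : V} : ty v = 1 ↔ q v = 1 := (ty_facts v).2.2

theorem q_eq_zero_iff {v : V} : q v = 0 ↔ ty v ≠ 1 := by
  rw [Ne, ty_eq_one]
  generalize q v = a
  revert a; decide

/-- non-zero singular vectors have type 2 or 3 -/
theorem ty_sing {v : V} (h0 : v ≠ 0) (hq : q v = 0) : ty v = 2 ∨ ty v = 3 := by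
  have h1 := ty_lt v
  have h2 := ty_eq_zero.not.2 h0
  have h3 := q_eq_zero_iff.1 hq
  omega

theorem q_of_ty {v : V} (h : ty v = 2 ∨ ty v = 3) : v ≠ 0 ∧ q v = 0 :=
  ⟨ty_eq_zero.not.1 (by omega), q_eq_zero_iff.2 (by omega)⟩

theorem ncard_ty2 : {v : V | ty v = 2}.ncard = 378 := by
  rw [ncard_eq_cntV (f := fun n => Nat.beq (tyN n) 2) (fun n hn => by simp [ty_dv hn])]
  decide +kernel

theorem ncard_ty3 : {v : V | ty v = 3}.ncard = 1701 := by
  rw [ncard_eq_cntV (f := fun n => Nat.beq (tyN n) 3) (fun n hn => by simp [ty_dv hn])]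
  decide +kernel

/-- multiplication by `ω` -/
noncomputable def w0 : X := UG.mk' CT 16728281407104152607163161326845828016386050
  5579269771173305251160439241557449067466755

theorem w0_pow : w0 ^ 3 = 1 := by
  rw [pow_succ, pow_two]; decide +kernel

theorem w0_ne : w0 ≠ 1 := by decide +kernel

theorem w0_sq_smul (v : V) : w0 • w0 • v = v + w0 • v := by
  have : allV (fun n => Nat.beq (ap w0.c (ap w0.c n)) (Nat.xor n (ap w0.c n))) 4096 = true := by
    decide +kernel
  obtain ⟨n, hn, rfl⟩ := exists_dv v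
  rw [smul_dv, smul_dv, ← dv_xor', Nat.eq_of_beq_eq_true (allV_iff.1 this n hn)]

/-! ### groups defined by invariants -/

/-- the stabiliser of a function on `V` -/
def StF {β : Type} (f : V → β) : Subgroup X where
  carrier := {g | ∀ v, f (g • v) = f v}
  one_mem' v := by rw [one_smul]
  mul_mem' {a b} ha hb v := by rw [mul_smul, ha, hb]
  inv_mem' {a} ha v := by rw [← ha (a⁻¹ • v), smul_inv_smul]

theorem mem_StF {β : Type} {f : V → β} {g : X} : g ∈ StF f ↔ ∀ v, f (g • v) = f v := Iff.rfl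

/-- the orthogonal group of `q` -/
def Oq : Subgroup X := StF q

/-- the elements preserving the types -/
noncomputable def St : Subgroup X := StF ty

theorem St_le_Oq : St ≤ Oq := fun g hg v => by
  have h1 := ty_eq_one (v := g • v)
  have h2 := ty_eq_one (v := v)
  rw [hg v, h2] at h1
  revert h1
  generalize q (g • v) = a
  generalize q v = b
  revert a b; decide

theorem q_smul {g : X} (hg : g ∈ Oq) (v : V) : q (g • v) = q v := hg v

theorem bf_smul {g : X} (hg : g ∈ Oq) (u v : V) : bf (g • u) (g • v) = bf u v := by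
  rw [bf_eq, bf_eq, ← smul_add, hg, hg, hg]

theorem ty_smul {g : X} (hg : g ∈ St) (v : V) : ty (g • v) = ty v := hg v

/-- test for `St` -/
noncomputable def stB (g : X) : Bool :=
  frc g.c fun c => allV (fun n => Nat.beq (tyN (ap c n)) (tyN n)) 4096

theorem mem_St_of {g : X} (h : stB g = true) : g ∈ St := fun v => by
  obtain ⟨n, hn, rfl⟩ := exists_dv v
  rw [stB, frc_eq] at h
  rw [smul_dv, ty_dv hn, ty_dv (ap_lt _ hn)]
  exact Nat.eq_of_beq_eq_true (allV_iff.1 h n hn)

/-- test for `Oq` -/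
noncomputable def oqB (g : X) : Bool :=
  frc g.c fun c => allV (fun n => qN (ap c n) == qN n) 4096

theorem mem_Oq_of {g : X} (h : oqB g = true) : g ∈ Oq := fun v => by
  obtain ⟨n, hn, rfl⟩ := exists_dv v
  rw [oqB, frc_eq] at h
  rw [smul_dv, q_dv hn, q_dv (ap_lt _ hn), beq_iff_eq.1 (allV_iff.1 h n hn)]

theorem w0_mem_St : w0 ∈ St := mem_St_of (by decide +kernel)

theorem w0_mem_Oq : w0 ∈ Oq := St_le_Oq w0_mem_St

/-- the `F₄`-linear elements -/
noncomputable def Lin : Subgroup X := Subgroup.centralizer {w0}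

theorem mem_Lin {g : X} : g ∈ Lin ↔ g * w0 = w0 * g := Subgroup.mem_centralizer_singleton_iff

theorem smul_w0 {g : X} (hg : g ∈ Lin) (v : V) : g • w0 • v = w0 • g • v := by
  rw [← mul_smul, mem_Lin.1 hg, mul_smul]

/-- the `F₄`-semilinear elements -/
noncomputable def SLin : Subgroup X where
  carrier := {g | g * w0 = w0 * g ∨ g * w0 = w0⁻¹ * g}
  one_mem' := Or.inl (by simp)
  mul_mem' {a b} ha hb := by
    have inv : ∀ {a x : X}, a * w0 = x * a → a * w0⁻¹ = x⁻¹ * a := fun {a x} h => by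
      rw [mul_inv_eq_iff_eq_mul, mul_assoc, h]; simp
    rcases hb with hb | hb <;> rcases ha with ha | ha
    · exact Or.inl (by rw [mul_assoc, hb, ← mul_assoc, ha, mul_assoc])
    · exact Or.inr (by rw [mul_assoc, hb, ← mul_assoc, ha, mul_assoc])
    · exact Or.inr (by rw [mul_assoc, hb, ← mul_assoc, inv ha, mul_assoc])
    · exact Or.inl (by rw [mul_assoc, hb, ← mul_assoc, inv ha, inv_inv, mul_assoc])
  inv_mem' {a} ha := by
    rcases ha with ha | ha
    · exact Or.inl (by rw [inv_mul_eq_iff_eq_mul, ← mul_assoc, ha]; simp)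
    · refine Or.inr ?_
      have : a * w0⁻¹ = w0 * a := by
        rw [mul_inv_eq_iff_eq_mul, mul_assoc, ha]; simp
      rw [inv_mul_eq_iff_eq_mul, ← mul_assoc, this]; simp

theorem mem_SLin {g : X} : g ∈ SLin ↔ g * w0 = w0 * g ∨ g * w0 = w0⁻¹ * g := Iff.rfl

theorem Lin_le_SLin : Lin ≤ SLin := fun _ h => Or.inl (mem_Lin.1 h)

/-- the unitary group `GU₆(2)` -/
noncomputable def GU : Subgroup X := Oq ⊓ Lin

theorem closure_le_of_all {L : List X} {K : Subgroup X} (h : ∀ x ∈ L, x ∈ K) :
    Subgroup.closure {x | x ∈ L} ≤ K := (Subgroup.closure_le _).2 h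

/-! ### orbits -/

/-- the codes of a list of elements -/
noncomputable def cds (L : List X) : List ℕ := L.map fun x => x.c

/-- evaluate a list of numbers before use -/
noncomputable def frcN {β : Type} (L : List ℕ) : (List ℕ → β) → β :=
  List.rec (motive := fun _ => (List ℕ → β) → β) (fun f => f [])
    (fun x _ ih f => frc x fun x => ih fun L => f (x :: L)) L

theorem frcN_eq {β : Type} (L : List ℕ) (f : List ℕ → β) : frcN L f = f L := by
  induction L generalizing f with
  | nil => rfl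
  | cons x L ih =>
    show frc x (fun x => frcN L fun L => f (x :: L)) = _
    rw [frc_eq, ih]

/-- the orbit of the vector `b` under the group generated by `L` is the set of codes passing `f` -/
noncomputable def orbB (L : List X) (b : ℕ) (f : ℕ → Bool) : Bool :=
  andB (Nat.blt b 4096) (frcN (cds L) fun gs => bfs ap (fun n => n) gs (fun _ => true)
    (fun _ B => allV (fun n => tb B n == f n) 4096) 5000 b)

theorem mem_orbit_iff {L : List X} {b : ℕ} {f : ℕ → Bool} (h : orbB L b f = true) {n : ℕ}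
    (hn : n < 4096) :
    dv n ∈ orbit (Subgroup.closure {x | x ∈ L}) (dv b) ↔ f n = true := by
  classical
  rw [orbB, andB_iff, frcN_eq, Nat.blt_eq] at h
  let φ : ℕ → X := fun c => if h : ∃ x : X, x.c = c then h.choose else 1
  have hφ : ∀ x : X, φ x.c = x := fun x => by
    have : ∃ y : X, y.c = x.c := ⟨x, rfl⟩
    simp only [φ, dif_pos this]
    exact UG.ext' this.choose_spec
  obtain ⟨k, B, h1, -, h3, -⟩ := bfs_spec (G := X) (φ := φ) (dec := dv) (act := ap)
    (idx := fun n => n) (ok := fun n => n < 4096)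
    (fun c d hc hd => (dv_eq_iff hc hd).symm) (gs := cds L) (fun s hs c hc => by
      obtain ⟨x, -, rfl⟩ := List.mem_map.1 hs
      exact ⟨ap_lt _ hc, by rw [hφ, smul_dv]⟩) h.1 h.2
  have e : φ '' {s | s ∈ cds L} = {x | x ∈ L} := by
    ext x
    constructor
    · rintro ⟨s, hs, rfl⟩
      obtain ⟨y, hy, rfl⟩ := List.mem_map.1 hs
      rwa [hφ]
    · intro hx
      exact ⟨x.c, List.mem_map.2 ⟨x, hx, rfl⟩, hφ x⟩
  rw [e] at h3
  rw [← h3 n hn, beq_iff_eq.1 (allV_iff.1 h1 n hn)]

theorem exists_smul_of_orbB {L : List X} {b : ℕ} {f : ℕ → Bool} (h : orbB L b f = true) {n : ℕ}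
    (hn : n < 4096) (hf : f n = true) : ∃ g ∈ Subgroup.closure {x | x ∈ L}, g • dv b = dv n :=
  mem_orbit_sub.1 ((mem_orbit_iff h hn).2 hf)

theorem ncard_orbit_of_orbB {L : List X} {b : ℕ} {f : ℕ → Bool} (h : orbB L b f = true) :
    (orbit (Subgroup.closure {x | x ∈ L}) (dv b)).ncard = cntV f :=
  ncard_eq_cntV fun _ hn => mem_orbit_iff h hn

/-! ### upper bounds for groups defined by invariants -/

/-- all sums of elements of the list -/
noncomputable def spanL (L : List ℕ) : List ℕ :=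
  List.rec (motive := fun _ => List ℕ) [0] (fun a _ ih => ih ++ ih.map (Nat.xor a)) L

theorem spanL_fix {L : List ℕ} {g : X} (h : ∀ u ∈ L, u < 4096 ∧ g • dv u = dv u) :
    ∀ u ∈ spanL L, u < 4096 ∧ g • dv u = dv u := by
  induction L with
  | nil =>
    intro u hu
    obtain rfl : u = 0 := List.mem_singleton.1 hu
    exact ⟨by norm_num, by rw [dv_zero, smul_zero]⟩
  | cons a L ih =>
    have ih' := ih fun u hu => h u (List.mem_cons_of_mem _ hu)
    obtain ⟨a1, a2⟩ := h a List.mem_cons_self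
    intro u hu
    rcases List.mem_append.1 (show u ∈ spanL L ++ (spanL L).map (Nat.xor a) from hu) with hu | hu
    · exact ih' u hu
    · obtain ⟨w, hw, rfl⟩ := List.mem_map.1 hu
      exact ⟨xor_lt a1 (ih' w hw).1, by rw [dv_xor', smul_add, a2, (ih' w hw).2]⟩

/-- bound for a group of linear elements preserving `f` and fixing `pre`, along the base `bs` -/
noncomputable def ubProd (f : ℕ → ℕ) (bs : List ℕ) : List ℕ → ℕ :=
  List.rec (motive := fun _ => List ℕ → ℕ) (fun _ => 1)
    (fun b _ ih pre => Nat.mul (frcN (spanL pre) fun U =>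
      cntV fun w => allB (fun u => Nat.beq (f (Nat.xor w u)) (f (Nat.xor b u))) U)
      (frc (ap w0.c b) fun b' => ih (b :: b' :: pre))) bs

theorem card_le_ubProd {f : ℕ → ℕ} {bs : List ℕ} (hbs : ∀ b ∈ bs, b < 4096) {P : Subgroup X}
    (hL : P ≤ Lin) (hf : ∀ g ∈ P, ∀ n < 4096, f (ap g.c n) = f n) {pre : List ℕ}
    (hpre : ∀ g ∈ P, ∀ u ∈ pre, u < 4096 ∧ g • dv u = dv u)
    (hfin : ∀ g ∈ P, (∀ b ∈ bs, g • dv b = dv b) → g = 1) : Nat.card P ≤ ubProd f bs pre := by
  induction bs generalizing P pre with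
  | nil =>
    have : P = ⊥ := (Subgroup.eq_bot_iff_forall _).2 fun g hg => hfin g hg (by simp)
    rw [this, Subgroup.card_bot]; exact le_rfl
  | cons b bs ih =>
    have hb := hbs b List.mem_cons_self
    show _ ≤ (frcN (spanL pre) fun U =>
      cntV fun w => allB (fun u => Nat.beq (f (Nat.xor w u)) (f (Nat.xor b u))) U) *
      (frc (ap w0.c b) fun b' => ubProd f bs (b :: b' :: pre))
    rw [frcN_eq, frc_eq, card_eq_orbit_mul P (dv b)]
    refine Nat.mul_le_mul (ncard_le_cntV fun n hn h => ?_) (ih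
      (fun c hc => hbs c (List.mem_cons_of_mem _ hc)) (inf_le_left.trans hL)
      (fun g hg => hf g hg.1) (fun g hg u hu => ?_) fun g hg h => hfin g hg.1 ?_)
    · obtain ⟨g, hg, e⟩ := mem_orbit_sub.1 h
      refine allB_iff.2 fun u hu => ?_
      obtain ⟨u1, u2⟩ := spanL_fix (hpre g hg) u hu
      rw [Nat.beq_eq, ← hf g hg _ (xor_lt hb u1)]
      congr 1
      refine dv_inj (xor_lt hn u1) (ap_lt _ (xor_lt hb u1)) ?_
      rw [← smul_dv, dv_xor', dv_xor', smul_add, e, u2]
    · have e : g • dv b = dv b := hg.2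
      rcases List.mem_cons.1 hu with rfl | hu
      · exact ⟨hb, e⟩
      rcases List.mem_cons.1 hu with rfl | hu
      · exact ⟨ap_lt _ hb, by rw [← smul_dv, smul_w0 (hL hg.1), e]⟩
      · exact hpre g hg.1 u hu
    · intro c hc
      rcases List.mem_cons.1 hc with rfl | hc
      · exact hg.2
      · exact h c hc

/-- A linear element fixing the base `e₀ + e₁, e₀ + ω e₁, e₂, …, e₅` is trivial. -/
theorem eq_one_of_base {g : X} (hL : g ∈ Lin)
    (h : ∀ b ∈ [5, 9, 16, 64, 256, 1024], g • dv b = dv b) : g = 1 := by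
  have h2 : ∀ u ∈ [5, 9, 16, 64, 256, 1024, 10, 14, 32, 128, 512, 2048],
      u < 4096 ∧ g • dv u = dv u := by
    have key : ∀ b ∈ [5, 9, 16, 64, 256, 1024], g • dv (ap w0.c b) = dv (ap w0.c b) :=
      fun b hb => by rw [← smul_dv, smul_w0 hL, h b hb]
    have e : [10, 14, 32, 128, 512, 2048] = [5, 9, 16, 64, 256, 1024].map (ap w0.c) := by
      decide +kernel
    intro u hu
    refine ⟨by revert u; decide, ?_⟩
    rcases List.mem_append.1 (show u ∈ [5, 9, 16, 64, 256, 1024] ++
      [10, 14, 32, 128, 512, 2048] from hu) with hu | hu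
    · exact h u hu
    · rw [e] at hu
      obtain ⟨b, hb, rfl⟩ := List.mem_map.1 hu
      exact key b hb
  have f : ∀ u ∈ spanL [5, 9, 10, 14], u < 4096 ∧ g • dv u = dv u :=
    spanL_fix fun u hu => h2 u (by revert u; decide)
  refine ext_basis fun j => ?_
  rw [one_smul]
  fin_cases j
  · exact (f 1 (by decide +kernel)).2
  · exact (f 2 (by decide +kernel)).2
  · exact (f 4 (by decide +kernel)).2
  · exact (f 8 (by decide +kernel)).2
  all_goals exact (h2 _ (by decide)).2

end H39.F24
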