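import Cfsg.Agent.H10.S3Hub
import Cfsg.Agent.H94.Involves
import Cfsg.Agent.H14.FStar
import Cfsg.Agent.H1.Cocycle
import Cfsg.Agent.H5.FrobAction
import Cfsg.Agent.H5.ThompsonCond
import Cfsg.Agent.H4.HallBasic
import Cfsg.Agent.H66.SzAut
import Cfsg.Agent.H66.SzClass
import Cfsg.Agent.H61.PSLMin
import Cfsg.Agent.H61.PSLOdd
import Cfsg.Agent.H42.OddOrder
import Cfsg.Agent.H1.Glauberman
import Cfsg.Agent.S2602

/-! `S₃`-free groups with a fixed point free operator group that has a normal `p`-complement for every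
prime `p` dividing the order of the group. -/

set_option autoImplicit false
set_option linter.unusedSectionVars false

namespace H39.FP

open Cfsg Subgroup

universe u v

/-- `B` is a normal `p`-complement -/
structure NC (p : ℕ) {A : Type*} [Group A] (B : Subgroup A) : Prop where
  nor : B.Normal
  nd : ¬ p ∣ Nat.card B
  pw : ∀ a : A, ∃ k, a ^ p ^ k ∈ B

/-- the hypothesis -/
structure Hy {A G : Type*} [Group A] [Group G] (φ : A →* MulAut G) : Prop where
  fpf : ∀ g, (∀ a, φ a g = g) → g = 1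
  nc : ∀ p, p.Prime → p ∣ Nat.card G → ∃ B : Subgroup A, NC p B

variable {A A' G : Type*} [Group A] [Group A'] [Group G] {p : ℕ} {B : Subgroup A} {φ : A →* MulAut G}

theorem NC.comap [Finite A] (h : NC p B) (f : A' →* A) (hf : Function.Injective f) : NC p (B.comap f) :=
  ⟨h.nor.comap f, fun e => h.nd (e.trans (card_comap_dvd_of_injective B f hf)), fun a =>
    (h.pw (f a)).imp fun k hk => by rwa [mem_comap, map_pow]⟩

theorem NC.map (h : NC p B) (f : A →* A') (hf : Function.Surjective f) : NC p (B.map f) :=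
  ⟨h.nor.map f hf, fun e => h.nd (e.trans (card_map_dvd B f)), fun a => by
    obtain ⟨a, rfl⟩ := hf a
    exact (h.pw a).imp fun k hk => ⟨_, hk, map_pow f _ _⟩⟩

theorem NC.ext (hp : p.Prime) (K : Subgroup A) [K.Normal] (hK : ¬ p ∣ Nat.card K) {C : Subgroup (A ⧸ K)}
    (h : NC p C) : NC p (C.comap (QuotientGroup.mk' K)) :=
  ⟨h.nor.comap _, fun e => by
    have := QuotientGroup.card_preimage_mk K (C : Set (A ⧸ K))
    exact ((hp.dvd_mul).1 (this ▸ e)).elim hK h.nd, fun a =>
    (h.pw a).imp fun k hk => by rwa [mem_comap, map_pow]⟩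

theorem nc_of_nilpotent [Finite A] [Group.IsNilpotent A] (hp : p.Prime) : ∃ B : Subgroup A, NC p B := by
  have := Fact.mk hp
  obtain ⟨P, N, h1, h2⟩ := H5.hasNPC_of_isNilpotent (G := A) p
  obtain ⟨k, hk⟩ := P.isPGroup'.exists_card_eq
  refine ⟨N, h1, h2.index_eq_card ▸ P.not_dvd_index, fun a => ⟨k, ?_⟩⟩
  rw [← hk, ← h2.symm.index_eq_card]
  exact pow_index_mem N a

variable [Finite A] [Finite G]

theorem Hy.cen (h : Hy φ) (hp : p.Prime) (hB : NC p B) {g : G} (h1 : ∀ b ∈ B, φ b g = g) :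
    ¬ p ∣ orderOf g := fun e => by
  have := Fact.mk hp
  have := hB.nor
  let _ := MulDistribMulAction.compHom G φ
  have h2 : IsPGroup p (A ⧸ B) := fun a => by
    obtain ⟨a, rfl⟩ := QuotientGroup.mk_surjective a
    exact (hB.pw a).imp fun k hk => (QuotientGroup.eq_one_iff _).2 hk
  have h3 : g ∈ FixedPoints.subgroup B G := fun b => h1 b b.2
  obtain ⟨c, c1, c2⟩ := h2.exists_fixed_point_of_prime_dvd_card_of_fixed_point
    (FixedPoints.subgroup B G) (e.trans (orderOf_dvd_natCard _ h3)) (a := 1) fun a => smul_one a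
  exact c2 (Subtype.ext (h.fpf c fun a => congrArg Subtype.val (c1 (a : A ⧸ B))).symm)

theorem Hy.quot (h : Hy φ) (hp : p.Prime) (N : Subgroup G) [N.Normal] (hN : IsPGroup p N)
    (hi : ∀ a, ∀ x ∈ N, φ a x ∈ N) (hd : p ∣ Nat.card G) : Hy (H5.quotAut φ N hi) := by
  have := Fact.mk hp
  refine ⟨fun g hg => ?_, fun q hq e => h.nc q hq (e.trans (card_quotient_dvd_card N))⟩
  obtain ⟨B, hB⟩ := h.nc p hp hd
  obtain ⟨g, rfl⟩ := QuotientGroup.mk_surjective g
  have h1 : ∀ a, g⁻¹ * φ a g ∈ N := fun a => QuotientGroup.eq.1 (hg a).symm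
  obtain ⟨k, hk⟩ := hN.exists_card_eq
  have := hN.isNilpotent
  obtain ⟨n, hn, h2⟩ := H1.exists_fixed_mem_coset (φ.comp B.subtype) N (fun a => hi a)
    (hk ▸ ((hp.coprime_iff_not_dvd.2 hB.nd).symm.pow_right k)) (Or.inr inferInstance) g fun a => h1 a
  have h3 : ∀ b ∈ B, φ b (g * n) = g * n := fun b hb => h2 ⟨b, hb⟩
  have h4 := h.fpf (g * n) fun a => by
    have k1 : (g * n)⁻¹ * φ a (g * n) ∈ N := by
      have := mul_mem (mul_mem (inv_mem hn) (h1 a)) (hi a n hn)
      rwa [show n⁻¹ * (g⁻¹ * φ a g) * φ a n = (g * n)⁻¹ * φ a (g * n) by rw [map_mul]; group] at this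
    have k2 := h.cen hp hB (g := (g * n)⁻¹ * φ a (g * n)) fun b hb => by
      have k3 := h3 _ (hB.nor.conj_mem b hb a⁻¹)
      rw [map_mul (φ b), map_inv, h3 b hb, ← MulAut.mul_apply, ← map_mul φ,
        show b * a = a * (a⁻¹ * b * a⁻¹⁻¹) by group, map_mul φ, MulAut.mul_apply, k3]
    obtain ⟨j, hj⟩ := (IsPGroup.iff_orderOf.1 hN) ⟨_, k1⟩
    rw [← orderOf_coe] at hj
    cases j with
    | zero => exact (inv_mul_eq_one.1 (orderOf_eq_one_iff.1 hj)).symm
    | succ j => exact absurd (hj ▸ dvd_pow_self p j.succ_ne_zero) k2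
  rw [QuotientGroup.eq_one_iff, eq_inv_of_mul_eq_one_left h4]
  exact inv_mem hn

theorem Hy.inn {D : Subgroup (MulAut G)} (h : Hy D.subtype)
    (hZ : Function.Injective (MulAut.conj : G →* MulAut G)) {g : G} (hg : MulAut.conj g ∈ D) : g = 1 := by
  by_contra g1
  obtain ⟨p, hp, hd⟩ := Nat.exists_prime_and_dvd (mt orderOf_eq_one_iff.1 g1)
  have o1 := orderOf_pow_orderOf_div (orderOf_pos g).ne' hd
  have m1 : MulAut.conj (g ^ (orderOf g / p)) ∈ D := map_pow MulAut.conj g _ ▸ pow_mem hg _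
  generalize g ^ (orderOf g / p) = x at o1 m1
  obtain ⟨B, hB⟩ := h.nc p hp (o1 ▸ orderOf_dvd_natCard x)
  refine h.cen hp hB (g := x) (fun b hb => ?_) o1.symm.dvd
  by_contra k
  obtain ⟨q, hq, hd⟩ := Nat.exists_prime_and_dvd (mt orderOf_eq_one_iff.1 (mt mul_inv_eq_one.1 k))
  have e : ((b * ⟨_, m1⟩ * b⁻¹ * ⟨_, m1⟩⁻¹ : D) : MulAut G) = MulAut.conj (D.subtype b x * x⁻¹) := by
    ext y; simp [mul_assoc]
  have key : ∀ C : Subgroup D, NC q C → b * ⟨_, m1⟩ * b⁻¹ * ⟨_, m1⟩⁻¹ ∉ C := fun C hC m => hC.nd (by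
    refine Dvd.dvd.trans ?_ (orderOf_dvd_natCard C m)
    rwa [← orderOf_coe, e, orderOf_injective _ hZ])
  by_cases hqp : q = p
  · refine key B (hqp ▸ hB) ?_
    have := mul_mem hb (hB.nor.conj_mem _ (inv_mem hb) ⟨_, m1⟩)
    rwa [← mul_assoc, ← mul_assoc] at this
  · obtain ⟨C, hC⟩ := h.nc q hq (hd.trans (orderOf_dvd_natCard _))
    obtain ⟨j, hj⟩ := hC.pw ⟨_, m1⟩
    obtain ⟨m, hm⟩ := exists_pow_eq_self_of_coprime (x := (⟨_, m1⟩ : D)) (n := q ^ j) (by
      rw [← orderOf_coe, orderOf_injective _ hZ, o1]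
      exact ((Nat.coprime_primes hq hp).2 hqp).pow_left j)
    have := hm ▸ pow_mem hj m
    exact key C hC (mul_mem (hC.nor.conj_mem _ this b) (inv_mem this))

theorem Hy.simple (h : Hy φ) (hZ : Function.Injective (MulAut.conj : G →* MulAut G))
    (hO : IsCyclic (Out G)) {z : G} (z1 : z ≠ 1) (hz : ∀ α : MulAut G, IsConj z (α z)) : False := by
  have h1 : Hy φ.range.subtype := ⟨fun g hg => h.fpf g fun a => hg ⟨_, a, rfl⟩, fun p hp e =>
    (h.nc p hp e).elim fun B hB => ⟨_, hB.map _ φ.rangeRestrict_surjective⟩⟩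
  have : IsCyclic φ.range := isCyclic_of_injective ((QuotientGroup.mk' (Inn G)).comp φ.range.subtype)
    ((injective_iff_map_eq_one _).2 fun a ha => by
      obtain ⟨g, hg⟩ := (QuotientGroup.eq_one_iff _).1 ha
      exact Subtype.ext (hg.symm.trans (by rw [h1.inn hZ (g := g) (hg ▸ a.2), map_one]; rfl)))
  obtain ⟨α, hα⟩ := IsCyclic.exists_generator (α := φ.range)
  have h2 : MonoidHom.FixedPointFree (α : MulAut G) := fun g hg => h1.fpf g fun a =>
    (zpowers_le.2 (show α ∈ MulAction.stabilizer φ.range g from hg) (hα a) :)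
  obtain ⟨g, hg⟩ := isConj_iff.1 (hz α)
  obtain ⟨y, hy⟩ := h2.commutatorMap_surjective g⁻¹
  rw [MonoidHom.commutatorMap_apply, div_eq_iff_eq_mul] at hy
  have h3 := h2 (y⁻¹ * z * y) (by
    rw [map_mul, map_mul, map_inv, ← hg]
    conv_rhs => rw [hy]
    group)
  exact z1 (conj_eq_one_iff.1 ((congrArg _ (inv_inv y)).trans h3))

theorem Hy.congr {G' : Type*} [Group G'] (h : Hy φ) (e : G ≃* G') :
    Hy ((MulAut.congr e).toMonoidHom.comp φ) :=
  ⟨fun g hg => by
    rw [← e.apply_symm_apply g, h.fpf (e.symm g) fun a => e.eq_symm_apply.2 (hg a), map_one],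
    fun p hp d => h.nc p hp (Nat.card_congr e.toEquiv ▸ d)⟩

omit [Finite G] in
theorem conj_inj [IsSimpleGroup G] (hn : ¬ IsMulCommutative G) :
    Function.Injective (MulAut.conj : G →* MulAut G) := by
  refine (injective_iff_map_eq_one _).2 fun g hg => ?_
  rcases (inferInstance : (center G).Normal).eq_bot_or_eq_top with e | e
  · exact mem_bot.1 (e ▸ mem_center_iff.2 fun y => by
      exact (mul_inv_eq_iff_eq_mul.1 (DFunLike.congr_fun hg y)).symm)
  · exact absurd ⟨⟨fun a b => mem_center_iff.1 (e.ge (mem_top b)) a⟩⟩ hn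

theorem Hy.not_cls {G : Type u} [Group G] [Finite G] [IsSimpleGroup G] {φ : A →* MulAut G} (h : Hy φ)
    (hn : ¬ IsMulCommutative G) (hG : IsSuzukiOrPSL2OddPowerThree G) : False := by
  have ns : ¬ Group.IsSolvable G := fun s => hn ⟨⟨IsSimpleGroup.comm_iff_isSolvable.2 s⟩⟩
  obtain ⟨z, k2⟩ := exists_prime_orderOf_dvd_card' (G := G) 2
    (even_iff_two_dvd.1 (Nat.not_odd_iff_even.1 (mt H42.odd_order ns)))
  have tr : ∀ {G' : Type} [Group G'] (e : G ≃* G'), IsCyclic (Out G') →
      (∀ x y : G', orderOf x = 2 → orderOf y = 2 → IsConj x y) → False :=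
    fun e k1 k3 => by
      have := Finite.of_equiv _ e.toEquiv
      have := e.symm.isSimpleGroup
      replace k2 := (e.orderOf_eq z).trans k2
      exact (h.congr e).simple (conj_inj fun c => hn ⟨⟨fun a b => e.injective (by
        rw [map_mul, map_mul, c.is_comm.comm])⟩⟩) k1 (z := e z) (fun a => by simp [a] at k2)
        fun α => k3 _ _ k2 ((MulEquiv.orderOf_eq α _).trans k2)
  rcases hG with ⟨F, _, _, m, hm, hF, ⟨e⟩⟩ | ⟨F, _, _, n, hF, ⟨e⟩⟩
  · have hT := H66.titsOf_isFin F hm hF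
    have M := H66.modelB hT
    refine tr e ?_ fun x y hx hy => M.isConj_of_sq hT (by simpa [hx] using pow_orderOf_eq_one x)
      (fun a => by simp [a] at hx) (by simpa [hy] using pow_orderOf_eq_one y) fun a => by simp [a] at hy
    refine isCyclic_of_surjective (G' := RingAut F) ((QuotientGroup.mk' _).comp
      (MonoidHom.mk' (M.fld hT) (M.fld_mul hT))) fun α => ?_
    obtain ⟨α, rfl⟩ := QuotientGroup.mk_surjective α
    obtain ⟨x, τ, rfl⟩ := M.exists_conj_fld hT α
    exact ⟨τ, (QuotientGroup.eq_iff_div_mem.mpr (MonoidHom.mem_range.mpr ⟨x, by simp⟩)).symm⟩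
  · have o : Odd (3 ^ (2 * n + 1)) := Odd.pow (by decide)
    refine tr e ?_ fun x y => H61.psl_isConj_inv (by rwa [Nat.card_eq_fintype_card, hF])
    have := Fact.mk Nat.prime_three
    obtain ⟨f, f1, f2, f3⟩ := Cfsg.Agent.S2602.result (Nat.le_add_left 1 _) hF (by
      by_contra k
      have := H61.isSolvable_psl (F := F) (by rw [Nat.card_eq_fintype_card]; omega)
      exact ns (Group.isSolvable_of_isSolvable_injective (f := e.toMonoidHom) e.injective))
    rw [Nat.gcd_eq_left (even_iff_two_dvd.1 (Nat.Odd.sub_odd o odd_one))] at f3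
    let _ := commGroupOfCyclicCenterQuotient f fun x hx => mem_center_iff.2 fun g => by
      obtain ⟨y, -, hy⟩ := (Nat.card_eq_two_iff' (1 : f.ker)).1 f3
      by_cases x1 : x = 1
      · simp [x1]
      exact mul_inv_eq_iff_eq_mul.1 (congrArg Subtype.val ((hy ⟨_, f.normal_ker.conj_mem x hx g⟩ fun k =>
        x1 (conj_eq_one_iff.1 (congrArg Subtype.val k))).trans
        (hy ⟨x, hx⟩ fun k => x1 (congrArg Subtype.val k)).symm))
    refine Group.isCyclic_of_coprime_card_ker f ?_ f1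
    rw [f3, Nat.card_congr Multiplicative.toAdd, Nat.card_zmod]
    simp

theorem Hy.no_comp {G : Type u} [Group G] [Finite G] {φ : A →* MulAut G} (h : Hy φ)
    (hS : ¬ Involves (Equiv.Perm (Fin 3)) G) (hF : fittingSubgroup G = ⊥) {L : Subgroup G} :
    ¬ IsComponent L := fun hL => by
  classical
  have hc := (H14.comp_center_le_fitting hL).trans hF.le
  have hZ : center L = ⊥ := eq_bot_iff.2 fun x hx => Subtype.ext
    (hc ⟨x.2, fun y hy => congrArg Subtype.val (mem_center_iff.1 hx ⟨y, hy⟩)⟩)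
  have e := (QuotientGroup.quotientMulEquivOfEq hZ).trans QuotientGroup.quotientBot
  have := hL.2.2
  have := e.symm.isSimpleGroup
  have hn : ¬ IsMulCommutative L := fun c => H14.quasi_quotient_not_comm hL.2 ⟨⟨fun a b => e.injective (by
    rw [map_mul, map_mul, c.is_comm.comm])⟩⟩
  let D : Subgroup A :=
    { carrier := {a | ∀ x, φ a x ∈ L ↔ x ∈ L}
      one_mem' := fun x => by simp
      mul_mem' := fun {a b} ha hb x => by rw [map_mul, MulAut.mul_apply, ha, hb]
      inv_mem' := fun {a} ha x => by rw [← ha]; simp }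
  have key : ∀ a, a ∈ D ∨ ∀ x ∈ L, ∀ y ∈ L, Commute (φ a x) y := fun a =>
    (H14.comp_eq_or_commute (H14.comp_map_mulEquiv hL (φ a)) hL).imp (fun k x => by
      conv_lhs => rw [← k]
      exact mem_map_iff_mem (f := (φ a : G →* G)) (φ a).injective) fun k x hx y hy =>
      (commutator_eq_bot_iff_le_centralizer.1 k (mem_map_of_mem (φ a : G →* G) hx) y hy).symm
  refine Hy.not_cls (φ := H1.restrictAut (φ.comp D.subtype) L fun a x => (a.2 x).2) ⟨fun s hs => ?_,
    fun p hp d => (h.nc p hp (d.trans (card_subgroup_dvd_card L))).imp' _ fun B hB =>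
      hB.comap _ D.subtype_injective⟩ hn
    (H10.S3.simple L this hn fun k => hS (H94.involves_trans k (H94.involves_subgroup L)))
  replace hs : ∀ a ∈ D, φ a s = s := fun a ha => congrArg Subtype.val (hs ⟨a, ha⟩)
  have := Fintype.ofFinite A
  set T := Finset.univ.image fun a => φ a s with hT
  have mT : ∀ x, x ∈ T ↔ ∃ a, φ a s = x := fun x => by simp [hT]
  have cm : (T : Set G).Pairwise (Function.onFun Commute id) := fun x hx y hy xy => by
    obtain ⟨a, rfl⟩ := (mT x).1 hx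
    obtain ⟨b, rfl⟩ := (mT y).1 hy
    rcases key (b⁻¹ * a) with k | k
    · exact absurd (by simpa [MulEquiv.symm_apply_eq] using hs _ k) xy
    · simpa [Function.onFun] using (k s s.2 s s.2).map (φ b)
  have h1 := h.fpf (T.noncommProd id cm) fun a => by
    have e : T.1.map (fun i => φ a (id i)) = T.1.map id := by
      rw [Multiset.map_id]
      refine congrArg Finset.val (show T.map ⟨φ a, (φ a).injective⟩ = T from
        Finset.eq_of_subset_of_card_le (fun x hx => ?_) (Finset.card_map _).ge)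
      obtain ⟨y, hy, rfl⟩ := Finset.mem_map.1 hx
      obtain ⟨b, rfl⟩ := (mT y).1 hy
      exact (mT _).2 ⟨a * b, by simp⟩
    rw [Finset.map_noncommProd]
    simp only [Finset.noncommProd, e]
  have sT : (s : G) ∈ T := (mT s).2 ⟨1, by simp⟩
  rw [← Finset.mul_noncommProd_erase T sT id cm] at h1
  refine Subtype.ext (hc (mem_inf.2 ⟨s.2, ?_⟩))
  rw [show (s : G) = _ from eq_inv_of_mul_eq_one_left h1]
  refine inv_mem (noncommProd_mem _ _ fun x hx => ?_)
  obtain ⟨a, rfl⟩ := (mT x).1 (Finset.mem_of_mem_erase hx)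
  exact (key a).elim (fun k => absurd (hs a k) (Finset.ne_of_mem_erase hx)) fun k y hy =>
    (k s s.2 y hy).symm

theorem solvable (n : ℕ) : ∀ (G : Type u) [Group G] [Finite G] (φ : A →* MulAut G), Nat.card G < n →
    Hy φ → ¬ Involves (Equiv.Perm (Fin 3)) G → Group.IsSolvable G := by
  induction n with
  | zero => exact fun _ _ _ _ h => absurd h (Nat.not_lt_zero _)
  | succ n ih =>
    intro G _ _ φ hn h hS
    by_cases hF : fittingSubgroup G = ⊥
    · have := H14.centralizer_fitting_le_of_layer_eq_bot (G := G)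
        (H14.layer_eq_bot_iff.2 fun _ => h.no_comp hS hF)
      rw [hF, H98.centralizer_bot'] at this
      exact Group.isSolvable_of_top_eq_bot G (le_bot_iff.1 this)
    obtain ⟨p, hp, h1⟩ := H2.exists_pCore_ne_bot_of_fitting_ne_bot hF
    have := Fact.mk hp
    have h2 := H2.pCore_isPGroup p G
    have := ih _ _ ((H4.card_quotient_lt _ h1).trans_le (Nat.lt_succ_iff.1 hn))
      (h.quot hp _ h2 (fun a => characteristic_iff_le_comap.1 inferInstance (φ a))
        (((h2.card_eq_or_dvd).resolve_left (mt card_eq_one.1 h1)).trans (card_subgroup_dvd_card _)))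
      fun k => hS (H94.involves_trans k (H94.involves_quotient _))
    have := h2.isNilpotent
    exact H2.isSolvable_of_normal_of_quotient (pCore p G)

theorem main (hf : ∀ g : G, (∀ a : A, φ a g = g) → g = 1) (hS : ¬ Involves (Equiv.Perm (Fin 3)) G)
    {H K : Subgroup A} (h1 : ∀ r, r.Prime → r ∣ Nat.card G → ¬ r ∣ H.index) [Group.IsNilpotent H]
    [K.Normal] (h2 : ∀ r : ℕ, r.Prime → r ∣ Nat.card K → ¬ r ∣ Nat.card G)
    (h3 : ∀ r : ℕ, r.Prime → r ∣ K.index → r ∣ Nat.card G) : Group.IsSolvable G := by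
  have e : H ⊔ K = ⊤ := index_eq_one.1 (Nat.eq_one_iff_not_exists_prime_dvd.2 fun r hr d =>
    h1 r hr (h3 r hr (d.trans (index_dvd_of_le le_sup_right))) (d.trans (index_dvd_of_le le_sup_left)))
  have : Group.IsNilpotent (A ⧸ K) := Group.nilpotent_of_surjective ((QuotientGroup.mk' K).comp H.subtype)
    fun a => by
      obtain ⟨a, rfl⟩ := QuotientGroup.mk_surjective a
      obtain ⟨x, hx, y, hy, rfl⟩ := mem_sup_of_normal_right.1 (e.ge (mem_top a))
      exact ⟨⟨x, hx⟩, (QuotientGroup.mk_mul_of_mem x hy).symm⟩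
  exact solvable _ G φ (Nat.lt_succ_self _) ⟨hf, fun p hp d => (nc_of_nilpotent hp).elim fun C hC =>
    ⟨_, hC.ext hp K fun k => h2 p hp k d⟩⟩ hS

end H39.FP
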