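/- Tower FS: slot BlkM (maximal bad spans). -/
import Cfsg.Agent.H82.FSKit

set_option autoImplicit false
set_option linter.unusedSectionVars false
set_option linter.unusedVariables false

open Cfsg Subgroup H82.FS
open scoped commutatorElement

universe u

namespace H39.FSM

variable {G : Type u} [Group G] [Finite G] {p r : ℕ} {A N : Subgroup G}

theorem k_R (h : Geo p r A N) {H : Subgroup G} (hH : H ≠ ⊤) (hA : A ≤ H) :
    ∃ R, Sp r A R ∧ R ≤ H ∧ H ≤ normalizer (R : Set G) ∧ ∀ L, Sp r A L → L ≤ H → L ≤ R :=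
  let ⟨R, a, b, c, d, _⟩ := h.R hH hA; ⟨R, a, b, c, d⟩

theorem cen_le_norm (H : Subgroup G) : centralizer (H : Set G) ≤ normalizer (H : Set G) := fun g hg =>
  mem_normalizer_iff.2 fun x => ⟨fun hx => by rwa [← mem_centralizer_iff.1 hg x hx, mul_inv_cancel_right],
    fun hx => by
      have := mem_centralizer_iff.1 hg _ hx
      rw [inv_mul_cancel_right] at this
      rwa [mul_left_cancel this]⟩

/-! ### Two blocks -/

theorem comm_le {X : Subgroup G} : ⁅X, X⁆ ≤ X := commutator_le.2 fun a ha b hb =>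
  mul_mem (mul_mem (mul_mem ha hb) (inv_mem ha)) (inv_mem hb)
theorem cen_symm {H K : Subgroup G} (h : H ≤ centralizer (K : Set G)) : K ≤ centralizer (H : Set G) :=
  le_centralizer_iff.1 h

section Geo
variable (h : Geo p r A N) {X Y Λ : Subgroup G}
include h

theorem z_cA (hX : Sp r A X) : ⁅X, X⁆ ≤ centralizer (A : Set G) := (h.cls X hX).1.le.trans inf_le_right
theorem z_cX (hX : Sp r A X) : ⁅X, X⁆ ≤ centralizer (X : Set G) := (h.cls X hX).2.1

end Geo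

/-- a nontrivial span in two blocks -/
def Bad (r : ℕ) (A L : Subgroup G) : Prop :=
  Sp r A L ∧ L ≠ ⊥ ∧ ∃ X Y, Blk r A X ∧ Blk r A Y ∧ X ≠ Y ∧ L ≤ X ∧ L ≤ Y

theorem uniq {Λ U X Y : Subgroup G} (m : Maximal (Bad r A) Λ) (hU : Sp r A U) (lt : Λ < U)
    (hX : Blk r A X) (hY : Blk r A Y) (a : U ≤ X) (b : U ≤ Y) : X = Y := by_contra fun ne =>
  lt.not_ge (m.2 ⟨hU, fun e => m.1.2.1 (le_bot_iff.1 (e ▸ lt.le)), X, Y, hX, hY, ne, a, b⟩ lt.le)

/-- an element of `C(A)` that normalises a span normalises its only block -/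
theorem norm_blk {R X : Subgroup G} (hX : Blk r A X) (a : R ≤ X) (u : ∀ W, Blk r A W → R ≤ W → W = X)
    {P : Subgroup G} (h1 : P ≤ centralizer (A : Set G)) (h2 : P ≤ normalizer (R : Set G)) :
    P ≤ normalizer (X : Set G) := fun c hc =>
  cj_eq_iff.1 (u _ (hX.cj (h1 hc)) (by rw [← cj_eq_iff.2 (h2 hc)]; exact map_mono a))

/-- the group `T` -/
def TT (Λ X Y : Subgroup G) : Subgroup G :=
  Λ ⊔ ⁅X, X⁆ ⊓ normalizer (Y : Set G) ⊔ ⁅Y, Y⁆ ⊓ normalizer (X : Set G)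

theorem TT_comm (Λ X Y : Subgroup G) : TT Λ X Y = TT Λ Y X := sup_right_comm _ _ _

/-- `Y` grows -/
def Gr (r : ℕ) (A Λ T Y : Subgroup G) : Prop :=
  ∃ U, Sp r A U ∧ Λ < U ∧ U ≤ Y ∧ U ≤ normalizer (T : Set G)

section Max
variable (g : JobBlkG.{u}) (h : Geo p r A N) {X Y Λ : Subgroup G} (m : Maximal (Bad r A) Λ)
  (hX : Blk r A X) (hY : Blk r A Y) (ne : X ≠ Y) (a : Λ ≤ X) (b : Λ ≤ Y)
include h m hX hY ne a b

theorem lam_eq : ⁅X ⊓ Y, A⁆ = Λ := by
  have n : A ≤ normalizer ((X ⊓ Y : Subgroup G) : Set G) := le_norm_inf hX.1.2.1 hY.1.2.1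
  have k : Λ ≤ ⁅X ⊓ Y, A⁆ := m.1.1.2.2.ge.trans (commutator_mono (le_inf a b) le_rfl)
  exact le_antisymm (m.2 ⟨sp_comm h.lin (hX.1.1.to_le inf_le_left) n, fun e => m.1.2.1 (le_bot_iff.1 (e ▸ k)),
    X, Y, hX, hY, ne, (comm_le_left n).trans inf_le_left, (comm_le_left n).trans inf_le_right⟩ k) k

theorem exists_RT : ∃ R, Sp r A R ∧ normalizer (TT Λ X Y : Set G) ≤ normalizer (R : Set G) ∧
    ∀ L, Sp r A L → L ≤ normalizer (TT Λ X Y : Set G) → L ≤ R := by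
  have n : ∀ W V : Subgroup G, Sp r A W → A ≤ normalizer ((⁅W, W⁆ ⊓ V : Subgroup G) : Set G) := fun W V hW =>
    (cen_symm (inf_le_left.trans (z_cA h hW))).trans (cen_le_norm _)
  obtain ⟨R, hR, -, k⟩ := k_R h (H := normalizer (TT Λ X Y : Set G)) (Geo.norm_ne_top h
    (((hY.1.1.to_le (inf_le_left.trans comm_le)).to_sup_of_normal_right' hX.1.1 inf_le_right).to_le
      (sup_le ((sup_le a (inf_le_left.trans comm_le)).trans le_sup_right) le_sup_left))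
    fun e => m.1.2.1 (le_bot_iff.1 (e ▸ le_sup_left.trans le_sup_left)))
    (le_norm_sup (le_norm_sup m.1.1.2.1 (n X _ hX.1)) (n Y _ hY.1))
  exact ⟨R, hR, k⟩

theorem not_both (gX : Gr r A Λ (TT Λ X Y) X) (gY : Gr r A Λ (TT Λ X Y) Y) : False := by
  obtain ⟨R, hR, -, k⟩ := exists_RT h m hX hY ne a b
  obtain ⟨W, hW, c⟩ := exists_blk hR
  obtain ⟨U, u1, u2, u3, u4⟩ := gX
  obtain ⟨V, v1, v2, v3, v4⟩ := gY
  exact ne ((uniq m u1 u2 hX hW u3 ((k U u1 u4).trans c)).trans (uniq m v1 v2 hW hY ((k V v1 v4).trans c) v3))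

theorem gr_full (v : ⁅X, X⁆ ⊓ normalizer (Y : Set G) = ⊥) (w : ⁅Y, Y⁆ ≤ normalizer (X : Set G)) :
    Gr r A Λ (TT Λ X Y) Y := by
  refine ⟨Y, hY.1, lt_of_le_of_ne b fun e => ne (hY.2 X hX.1 (e ▸ a)), le_rfl, fun y hy => ?_⟩
  rw [TT, v, sup_bot_eq, inf_eq_left.2 w]
  have k : ∀ y ∈ Y, ∀ t ∈ Λ ⊔ ⁅Y, Y⁆, y * t * y⁻¹ ∈ Λ ⊔ ⁅Y, Y⁆ := fun y hy t ht => by
    have := mul_mem (mem_sup_right (S := Λ) (commutator_mem_commutator hy (sup_le b comm_le ht))) ht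
    simpa [commutatorElement_def] using this
  exact mem_normalizer_iff.2 fun t => ⟨k y hy t, fun ht => by simpa [mul_assoc] using k _ (inv_mem hy) _ ht⟩

theorem not_gr (gX : Gr r A Λ (TT Λ X Y) X) (v : ⁅X, X⁆ ⊓ normalizer (Y : Set G) = ⊥) : False := by
  refine not_both h m hX hY ne a b gX (gr_full h m hX hY ne a b v ?_)
  obtain ⟨R, hR, n, k⟩ := exists_RT h m hX hY ne a b
  obtain ⟨U, u1, u2, u3, u4⟩ := gX
  obtain ⟨W, hW, c⟩ := exists_blk hR
  obtain rfl := uniq m u1 u2 hX hW u3 ((k U u1 u4).trans c)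
  refine norm_blk hX c (fun W' hW' c' => uniq m u1 u2 hW' hX ((k U u1 u4).trans c') u3) (z_cA h hY.1)
    (le_trans ?_ n)
  refine le_trans ((z_cX h hY.1).trans (centralizer_le ?_)) (cen_le_norm _)
  rw [TT, v, sup_bot_eq]
  exact sup_le b (inf_le_left.trans comm_le)

include g

theorem gr_of (v : ⁅X, X⁆ ⊓ normalizer (Y : Set G) ≠ ⊥) : Gr r A Λ (TT Λ X Y) Y := by
  have := (g G p r A N h X Y hX hY ne v).2
  rwa [lam_eq h m hX hY ne a b] at this

theorem v_bot : ⁅Y, Y⁆ ⊓ normalizer (X : Set G) = ⊥ := by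
  by_contra v
  have gX := gr_of g h m hY hX ne.symm b a v
  rw [TT_comm] at gX
  by_cases w : ⁅X, X⁆ ⊓ normalizer (Y : Set G) = ⊥
  · exact not_gr h m hX hY ne a b gX w
  · exact not_both h m hX hY ne a b gX (gr_of g h m hX hY ne a b w)

theorem not_norm : ¬ ⁅X, X⁆ ≤ normalizer (Y : Set G) := fun w => by
  have gX := gr_full h m hY hX ne.symm b a (v_bot g h m hX hY ne a b) w
  rw [TT_comm] at gX
  exact not_gr h m hX hY ne a b gX (v_bot g h m hY hX ne.symm b a)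

end Max

section Top
variable (g : JobBlkG.{u}) (h : Geo p r A N) {Λ : Subgroup G} (m : Maximal (Bad r A) Λ)
include g h m

theorem m2 {L : Subgroup G} (hL : Sp r A L) (h0 : L ≠ ⊥) (le : L ≤ Λ) :
    (∀ M, Sp r A M → M ≤ normalizer (L : Set G) → M ≤ Λ) ∧
      normalizer (L : Set G) ≤ normalizer (Λ : Set G) := by
  obtain ⟨R, hR, -, n, k⟩ := k_R h (Geo.norm_ne_top h hL.1 h0) hL.2.1
  obtain ⟨X, Y, hX, hY, ne, a, b⟩ := m.1.2.2
  have c : Λ ≤ R := k Λ m.1.1 (le_trans (le_trans ?_ (centralizer_le le)) (cen_le_norm _))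
  · suffices e : R = Λ from e ▸ ⟨k, n⟩
    by_contra e
    have lt := lt_of_le_of_ne c (Ne.symm e)
    obtain ⟨W, hW, d⟩ := exists_blk hR
    have key : ∀ X, Blk r A X → Λ ≤ X → X = W := fun X hX a => by_contra fun ne =>
      not_norm g h m hX hW ne a (c.trans d) (norm_blk hW d (fun W' hW' d' => uniq m hR lt hW' hW d' d)
        (z_cA h hX.1) ((((z_cX h hX.1).trans (centralizer_le (le.trans a))).trans (cen_le_norm _)).trans n))
    exact ne ((key X hX a).trans (key Y hY b).symm)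
  · rw [← commutator_eq_bot_iff_le_centralizer, eq_bot_iff, ← Blk.Z_inf h hX hY ne]
    exact le_inf (commutator_mono a a) (commutator_mono b b)

end Top

/-- the action on the blocks over `Λ` -/
@[reducible] def act (r : ℕ) {Λ P : Subgroup G} (h1 : P ≤ centralizer (A : Set G))
    (h2 : P ≤ normalizer (Λ : Set G)) : MulAction P {W // Blk r A W ∧ Λ ≤ W} where
  smul c W := ⟨cj c W.1, W.2.1.cj (h1 c.2), by
    have := map_mono (f := (MulAut.conj (c : G)).toMonoidHom) W.2.2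
    rwa [← cj, cj_eq_iff.2 (h2 c.2)] at this⟩
  one_smul W := Subtype.ext (cj_one _)
  mul_smul c d W := Subtype.ext (cj_mul _ _ _)

theorem m3 (g : JobBlkG.{u}) (h : Geo p r A N) {Λ P : Subgroup G} (m : Maximal (Bad r A) Λ)
    (hP : IsPGroup r P) (h1 : P ≤ centralizer (A : Set G)) (h2 : P ≤ normalizer (Λ : Set G)) :
    ∃ W, Blk r A W ∧ Λ ≤ W ∧ P ≤ normalizer (W : Set G) := by
  have := Fact.mk h.lin.hr
  have hd : ¬ r ∣ Nat.card {W // Blk r A W ∧ Λ ≤ W} := by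
    obtain ⟨Y, -, hY, -, -, b, -⟩ := m.1.2.2
    let _ := act r (z_cA h hY.1) (((z_cX h hY.1).trans (centralizer_le b)).trans (cen_le_norm _))
    have e := (hY.1.1.to_le comm_le).card_modEq_card_fixedPoints {W // Blk r A W ∧ Λ ≤ W}
    have e1 : MulAction.fixedPoints (⁅Y, Y⁆ : Subgroup G) {W // Blk r A W ∧ Λ ≤ W} = {⟨Y, hY, b⟩} := by
      ext W
      refine ⟨fun k => Subtype.ext (by_contra fun ne => not_norm g h m hY W.2.1 (Ne.symm ne) b W.2.2
        fun c hc => cj_eq_iff.1 (congrArg Subtype.val (k ⟨c, hc⟩))), ?_⟩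
      rintro rfl c
      exact Subtype.ext (cj_eq_iff.2 (le_normalizer (comm_le c.2)))
    rw [e1, Nat.card_unique (α := ({_} : Set _))] at e
    exact fun k => h.lin.hr.one_lt.ne' (Nat.dvd_one.1 ((e.dvd_iff dvd_rfl).1 k))
  let _ := act r h1 h2
  obtain ⟨W, k⟩ := hP.nonempty_fixed_point_of_prime_not_dvd_card _ hd
  exact ⟨W.1, W.2.1, W.2.2, fun c hc => cj_eq_iff.1 (congrArg Subtype.val (k ⟨c, hc⟩))⟩

theorem jobBlkM : JobBlkM.{u} := fun g G _ _ p r A N h => by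
  refine ⟨fun M P hM h0 hP h1 h2 => ?_, fun L X Y hL h0 hX hY ne a b => ?_⟩
  · by_cases k : Bad r A M
    · obtain ⟨Λ, le, m⟩ := Finite.exists_le_maximal k
      obtain ⟨W, hW, a, b⟩ := m3 g h m hP h1 (h2.trans (m2 g h m hM h0 le).2)
      exact ⟨W, hW, le.trans a, b⟩
    · obtain ⟨W, hW, a⟩ := exists_blk hM
      exact ⟨W, hW, a, norm_blk hW a (fun W' hW' a' => by_contra fun ne =>
        k ⟨hM, h0, W', W, hW', hW, ne, a', a⟩) h1 h2⟩
  · obtain ⟨Λ, le, m⟩ := Finite.exists_le_maximal (p := Bad r A) ⟨hL, h0, X, Y, hX, hY, ne, a, b⟩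
    exact ⟨Λ, m.1.1, le, (m2 g h m hL h0 le).1, (m2 g h m hL h0 le).2, m.1.2.2⟩

end H39.FSM
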