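import Cfsg.Agent.H39.FiE
import Cfsg.Agent.H38.FiFr
import Cfsg.Agent.H38.FiK
import Cfsg.Agent.S1714
import Cfsg.Agent.S0815
/-! The centre of order eight: the centralizers of the elements of `Z`. -/
set_option autoImplicit false
set_option linter.unusedSectionVars false
set_option maxRecDepth 100000
namespace H39.Fi
open H71 H78 H59.U6 Cfsg H98
open scoped commutatorElement

/-- The refined form of the characterization of `Fi₂₂`. -/
def Spec.{u} : Prop := ∀ {G : Type u} [Group G] [Finite G] {z a : G}, H38.Fi.XZ z a →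
  Subgroup.centralizer ({z} : Set G) ⊔ oddCore G = ⊤ ∨
  (∃ y, (y = a ∨ y = z * a) ∧ y ∈ Subgroup.center G) ∨
  (Spor.IsoFi22 G ∧ ¬ Subgroup.centralizer ({z} : Set G) ≤ Subgroup.centralizer {a} ∧
    a ∈ ⁅Subgroup.centralizer ({z} : Set G) ⊓ Subgroup.centralizer {a},
      Subgroup.centralizer ({z} : Set G) ⊓ Subgroup.centralizer {a}⁆)

universe u
variable {G : Type u} [Group G] {z x y a b c g h j k v w : G} {qc : ℕ} {cd : G → ℕ} {ρ : G → MG}
  {V : Subgroup G}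

/-- The matrices as a homomorphism. -/
noncomputable def Fz.hom (F : Fz z qc cd ρ) : Subgroup.centralizer ({z} : Set G) →* MG :=
  MonoidHom.mk' (fun c => ρ c) fun c d => F.ρ_mul (Subgroup.mem_centralizer_singleton_iff.mp c.2)
    (Subgroup.mem_centralizer_singleton_iff.mp d.2)

theorem GA.two (F : GA z cd ρ) {K : Subgroup G} (h1 : ∀ k ∈ K, k * z = z * k)
    (h2 : ∀ k ∈ K, ρ k ∈ WM) (h3 : IsPGroup 2 K) (h4 : ∀ c ∈ YC z, ∀ k ∈ K, c * k * c⁻¹ ∈ K)
    (hk : k ∈ K) : ρ k = 1 := by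
  have m := fun k hk => Subgroup.mem_centralizer_singleton_iff.mpr (h1 k hk)
  refine eq_one_of_two (K := (K.subgroupOf _).map F.toFz.hom) ?_ ?_ ?_ ⟨⟨k, m k hk⟩, hk, rfl⟩
  · rintro _ ⟨k, hk, rfl⟩; exact h2 k hk
  · rintro _ ⟨k, hk, rfl⟩
    obtain ⟨n, e⟩ := isPGroup_iff_forall.mp h3 k hk
    exact ⟨n, by rw [← map_pow, show k ^ 2 ^ n = 1 from Subtype.ext e, map_one]⟩
  · rintro g hg _ ⟨k, hk, rfl⟩
    obtain ⟨c, hc, rfl⟩ := F.onto g hg
    exact ⟨⟨_, m _ (h4 c hc k hk)⟩, h4 c hc k hk, F.toFz.ρ_conj (cmYz hc) (h1 k hk)⟩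

theorem Fz.triv (F : Fz z qc cd ρ) (hc : c * z = z * c) :
    ρ c = 1 ↔ ∀ a ∈ O2C z, c * a * c⁻¹ * a⁻¹ ∈ ZC z := by
  have key : ∀ a ∈ O2C z, (c * a * c⁻¹ * a⁻¹ ∈ ZC z ↔ app (ρ c) (cd a) = cd a) := fun a ha => by
    rw [← F.ker _ (mul_mem (normO hc ha) (inv_mem ha)), F.mul _ (normO hc ha) _ (inv_mem ha),
      F.act c hc a ha, F.cd_inv ha, xor_eq_zero]
  exact ⟨fun e a ha => (key a ha).mpr (by rw [e, app_one (F.lt a)]), fun e => F.ρ_ext hc
    fun a ha => by rw [F.act c hc a ha, (key a ha).mp (e a ha), app_one (F.lt a)]⟩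

theorem Fz.xz [Finite G] (F : Fz z qc cd ρ) (ha : a ∈ ZC z) (a1 : a ≠ 1) (az : a ≠ z)
    (h4 : ∀ y ∈ ZC z, H38.Fi.V4 z a y) (hk : ∀ c, c * z = z * c → ρ c = 1 → c ∈ O2C z)
    (hr : F.hom.range = WM) : H38.Fi.XZ z a := by
  have key : ∀ y, y ∈ ZC z ↔ H38.Fi.V4 z a y := fun y => ⟨h4 y, by
    rintro (rfl | rfl | rfl | rfl)
    exacts [one_mem _, z_memZ, ha, mul_mem z_memZ ha]⟩
  have cm : Commute z a := (F.toPX.Z_cm ha).symm
  refine ⟨F.toPX.z_sq, F.ne, F.zsq a ha, a1, az, F.toPX.z_mem, F.le ha, fun g => ?_, F.sq,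
    fun i hi j hj => F.toPX.comm hi hj, ?_, F.hom, fun c => ⟨hk c
      (Subgroup.mem_centralizer_singleton_iff.mp c.2), F.ρ_of_mem⟩, hr⟩
  · rw [← key]; exact ⟨fun h j hj => (h j hj).symm, fun h j hj => (h j hj).symm⟩
  · rw [F.card, show ZC z = Subgroup.closure {z, a} from Subgroup.ext fun y => by
      rw [key, H38.mem_closure_two F.toPX.z_sq (F.zsq a ha) cm]; rfl,
      H38.card_closure_two F.toPX.z_sq (F.zsq a ha) cm F.ne a1 az.symm]

theorem iso_of_sup [Finite G] (z2 : z * z = 1)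
    (h : Subgroup.centralizer ({z} : Set G) ⊔ oddCore G = ⊤) : Iso z 1 := fun g _ e => by
  obtain ⟨o, ho, c, hc, rfl⟩ := Subgroup.mem_sup_of_normal_left.mp
    (show g ∈ oddCore G ⊔ Subgroup.centralizer ({z} : Set G) by rw [sup_comm, h]; trivial)
  have e1 : o * c * z * (o * c)⁻¹ = o * z * o⁻¹ := by
    conv_rhs => rw [← conj_eq_of_cm (Subgroup.mem_centralizer_singleton_iff.mp hc)]
    group
  rw [e1] at e ⊢
  have h1 : o * z * o⁻¹ * z⁻¹ ∈ oddCore G := by
    have := mul_mem ho (Subgroup.Normal.conj_mem inferInstance _ (inv_mem ho) z)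
    rwa [← mul_assoc, ← mul_assoc] at this
  refine mul_inv_eq_one.mp (eq_one_of_odd' (K := ⊥) IsPGroup.of_bot ?_
    ((H2.odd_card_oddCore G).of_dvd_nat (Subgroup.orderOf_dvd_natCard _ h1)))
  rw [inv_eq_of_mul_self z2, Subgroup.mem_bot]
  calc _ = o * z * o⁻¹ * (z * (o * z * o⁻¹)) * z := by group
    _ = o * (z * z) * o⁻¹ * (z * z) := by rw [← e]; group
    _ = 1 := by rw [z2]; group

theorem comm_le_self {A B : Subgroup G} (h : A ≤ B) : ⁅A, A⁆ ≤ B :=
  Subgroup.commutator_le.mpr fun a ha b hb => by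
    rw [commutatorElement_def]
    exact h (mul_mem (mul_mem (mul_mem ha hb) (inv_mem ha)) (inv_mem hb))

theorem conj_mem_comm {A : Subgroup G} (h : ∀ a ∈ A, g * a * g⁻¹ ∈ A) (ha : a ∈ ⁅A, A⁆) :
    g * a * g⁻¹ ∈ ⁅A, A⁆ :=
  (Subgroup.commutator_le (H₃ := ⁅A, A⁆.comap (MulAut.conj g).toMonoidHom)).mpr
    (fun a ha b hb => by
      rw [Subgroup.mem_comap, map_commutatorElement]
      exact Subgroup.commutator_mem_commutator (h a ha) (h b hb)) ha

variable [Finite G]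

theorem PF.iso {Q : Type*} [Group Q] [Finite Q] {X U : Subgroup G} {f : G → Q}
    (P : PF X U f z qc cd ρ) (h : Iso (f z) 1) (hg : g ∈ X)
    (e : g * z * g⁻¹ * z = z * (g * z * g⁻¹)) : g * z * g⁻¹ = z := by
  by_contra ne
  have := P.nb hg e ne
  rw [P.toQT.conj hg P.zX] at this
  exact this.ne (h _ (by simp) this.comm)

namespace W8
variable (W : W8 z V)
include W

theorem pf {Q : Type*} [Group Q] {X U : Subgroup G} {f : G → Q} (T : QT X U f) (F : GA z cd ρ)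
    (hY : YC z ≤ X) (UZ : U ≤ ZC z) (zU : z ∉ U) (hW : ∀ c ∈ X, c * z = z * c → ρ c ∈ WM) :
    PF X U f z qa cd ρ where
  toQT := T
  F := F.toFz
  zX := hY (F.toPX.Z_le_Y z_memZ)
  UZ := UZ
  zU := zU
  nf := W.nf
  cov := fun v hv => by
    obtain ⟨a, ha, e⟩ := F.surj v hv
    exact ⟨a, hY (O_le_Y ha), ha, e⟩
  hk := fun c _ hc e => W.faith c hc ((F.toFz.triv hc).mp e)
  two := fun K h0 h1 h2 h3 k hk => W.faith k (h1 k hk) ((F.toFz.triv (h1 k hk)).mp
    (F.two h1 (fun k hk => hW k (h0 hk) (h1 k hk)) h2 (fun c hc => h3 c (hY hc) (cmYz hc)) hk))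

theorem swap (hv : v ∈ V) (hw : w ∈ V) (v1 : v ≠ 1) (w1 : w ≠ 1) (vw : w ≠ v) :
    ∃ t, t * z = z * t ∧ t * v = v * t ∧ t * w * t⁻¹ = w * v := by
  obtain ⟨cd, ρ, F, hX, -, t, tz, tv, e⟩ := W.fr v hv v1
  exact ⟨t, tz, tv, (W.move hv hw v1 w1 vw tv (W.Vn t tz w hw)).resolve_left fun h =>
    σ_not_mem (e ▸ hX t (W.memY tz fun _ => W.cV hv hw v1 w1 vw tv h))⟩

theorem quot (hv : v ∈ V) (hw : w ∈ V) (v1 : v ≠ 1) (w1 : w ≠ 1) (vw : w ≠ v)
    (hy : y = v ∨ y = v * z) {Q : Type*} [Group Q] [Finite Q] {f : G → Q}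
    (T : QT (Subgroup.centralizer {y}) (Subgroup.zpowers y) f) :
    ∃ cd ρ, PF (Subgroup.centralizer {y}) (Subgroup.zpowers y) f z qa cd ρ ∧
      H38.Fi.XZ (f z) (f w) := by
  obtain ⟨cd, ρ, F, -, hW, t, tz, tv, e⟩ := W.fr v hv v1
  have yZ : y ∈ ZC z := by
    rcases hy with rfl | rfl
    exacts [W.VZ hv, mul_mem (W.VZ hv) z_memZ]
  have mU := mem_zpowers_invol (F.zsq y yZ)
  have hY : YC z ≤ Subgroup.centralizer {y} := fun c hc =>
    Subgroup.mem_centralizer_singleton_iff.mpr (cmY hc yZ)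
  have cv : ∀ c, c * z = z * c → (c ∈ Subgroup.centralizer {y} ↔ c * v = v * c) := fun c hc => by
    rw [Subgroup.mem_centralizer_singleton_iff]
    rcases hy with rfl | rfl
    · rfl
    · rw [mul_assoc, ← hc, ← mul_assoc, ← mul_assoc, mul_left_inj]
  have zz := F.toPX.z_sq
  have P := W.pf T F hY (Subgroup.zpowers_le.mpr yZ) (fun h => by
    rcases (mU z).mp h with h | h
    · exact F.ne h
    · rcases hy with rfl | rfl
      exacts [W.zV (h ▸ hv), v1 (by simpa using h)]) fun c hc cz => hW c cz ((cv c cz).mp hc)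
  obtain ⟨cd', ρ', F', -, e2⟩ := P.frame
  have hZ : ∀ a ∈ ZC z, a ∈ Subgroup.centralizer {y} := fun a ha => hY (F.toPX.Z_le_Y ha)
  have mw := hZ w (W.VZ hw)
  have mv := hZ v (W.VZ hv)
  have fv : f v = 1 ∨ f v = f z := by
    have := (T.ker y (hZ y yZ)).mpr (Subgroup.mem_zpowers y)
    rcases hy with rfl | rfl
    · exact Or.inl this
    · rw [T.mul v mv z P.zX, mul_eq_one_iff_eq_inv, F'.toPX.z_inv] at this
      exact Or.inr this
  have wz : f w * f z = f z * f w := T.cm mw P.zX (W.cz hw)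
  have hV : ∀ a ∈ V, H38.Fi.V4 (f z) (f w) (f a) := fun a ha => by
    rcases W.cases hv hw v1 w1 vw ha with rfl | rfl | rfl | rfl
    · exact Or.inl T.one
    · exact fv.imp_right Or.inl
    · exact H38.Fi.V4.a
    · rw [T.mul w mw v mv]
      rcases fv with h | h <;> rw [h]
      exacts [by rw [mul_one]; exact H38.Fi.V4.a, wz ▸ H38.Fi.V4.za]
  refine ⟨cd, ρ, P, F'.xz ((P.mem_Z mw).mpr (W.VZ hw)) (fun h => ?_) (fun h => ?_)
    (fun q hq => ?_) (fun q hq h => ?_) (le_antisymm ?_ fun g hg => ?_)⟩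
  · rcases (mU w).mp ((T.ker w mw).mp h) with h | h
    · exact w1 h
    · rcases hy with rfl | rfl
      exacts [vw h, W.zV ((mul_mem_cancel_left hv).mp (h ▸ hw))]
  · obtain ⟨s, hs, h⟩ := (T.eq_iff mw P.zX).mp h
    rcases (mU s).mp hs with rfl | rfl
    · exact W.zV (by rwa [h, mul_one] at hw)
    · rcases hy with rfl | rfl
      · exact W.zV ((mul_mem_cancel_right hv).mp (h ▸ hw))
      · exact vw (by rw [h, W.cz hv, ← mul_assoc, zz, one_mul])
  · obtain ⟨a, ha, h1, rfl⟩ := P.exZ hq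
    rcases W.Zd a h1 with h | h
    · exact hV a h
    · have := hV _ h
      rw [T.mul a ha z P.zX] at this
      rw [← F'.toPX.mul_z_z (f a)]
      rcases this with h | h | h | h <;> rw [h]
      · exact Or.inr (Or.inl (one_mul _))
      · exact Or.inl F'.toPX.z_sq
      · exact wz ▸ H38.Fi.V4.za
      · rw [← wz, F'.toPX.mul_z_z]; exact H38.Fi.V4.a
  · obtain ⟨c, hc, rfl⟩ := T.surj q
    have cz := (P.cm_iff hc).mp hq
    exact (P.mem_O hc).mpr (P.hk c hc cz (e2 c hc cz ▸ h))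
  · rintro _ ⟨⟨q, hq⟩, rfl⟩
    obtain ⟨c, hc, rfl⟩ := T.surj q
    have cz := (P.cm_iff hc).mp (Subgroup.mem_centralizer_singleton_iff.mp hq)
    exact (e2 c hc cz ▸ hW c cz ((cv c cz).mp hc) : ρ' (f c) ∈ WM)
  · have key : ∀ c ∈ Subgroup.centralizer {y}, c * z = z * c → ρ c ∈ F'.hom.range :=
      fun c hc cz => ⟨⟨f c, Subgroup.mem_centralizer_singleton_iff.mpr (T.cm hc P.zX cz)⟩,
        e2 c hc cz⟩
    have hX : XM ≤ F'.hom.range := fun g hg => by
      obtain ⟨c, hc, rfl⟩ := F.onto g hg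
      exact key c (hY hc) (cmYz hc)
    rcases WM_cases hg with h | ⟨k, hk, rfl⟩
    exacts [hX h, mul_mem (hX hk) (e ▸ key t ((cv t tz).mpr tv) tz)]

theorem d_case (S : Spec.{u}) (hv : v ∈ V) (v1 : v ≠ 1) : Spor.IsoFi23 G ∨ Iso z (v * z) := by
  obtain ⟨w, hw, w1, vw⟩ := exists_third W.card v
  have := normal_zp (v * z)
  have dZ := mul_mem (W.VZ hv) z_memZ
  have d2 := W.px.zsq _ dZ
  have mU := mem_zpowers_invol d2
  have T := qt_qf (X := Subgroup.centralizer {v * z}) (U := Subgroup.zpowers (v * z))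
    (Subgroup.zpowers_le.mpr (Subgroup.mem_centralizer_singleton_iff.mpr rfl))
  generalize qf (Subgroup.centralizer {v * z}) (Subgroup.zpowers (v * z)) = f at T
  obtain ⟨cd, ρ, P, X⟩ := W.quot hv hw v1 w1 vw (Or.inr rfl) T
  have hY : YC z ≤ Subgroup.centralizer {v * z} := fun c hc =>
    Subgroup.mem_centralizer_singleton_iff.mpr (cmY hc dZ)
  have mw := hY (W.px.Z_le_Y (W.VZ hw))
  have key : ∀ c ∈ Subgroup.centralizer {v * z}, c * z = z * c → f c * f w = f w * f c →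
      c * w = w * c := fun c hc cz e => by
    obtain ⟨s, hs, e1⟩ := (T.eq_iff (mul_mem (mul_mem hc mw) (inv_mem hc)) mw).mp (by
      rw [T.conj hc mw, conj_eq_of_cm e])
    rcases (mU s).mp hs with rfl | rfl
    · exact mul_inv_eq_iff_eq_mul.mp (e1.trans (mul_one w))
    · exact absurd ((mul_mem_cancel_left hv).mp ((mul_mem_cancel_left hw).mp
        (e1 ▸ W.Vn c cz w hw))) W.zV
  rcases S X with h | ⟨y, hy, hc⟩ | ⟨⟨e⟩, -, h0⟩
  · exact Or.inr fun g hg => P.iso (iso_of_sup X.zz h)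
      (Subgroup.mem_centralizer_singleton_iff.mpr hg)
  · obtain ⟨t, tz, tv, e⟩ := W.swap hv hw v1 w1 vw
    have mt := Subgroup.mem_centralizer_singleton_iff.mpr (cm_mul tv.symm tz.symm).symm
    have h1 := Subgroup.mem_center_iff.mp hc (f t)
    rw [conj_eq_of_cm (key t mt tz (by
      rcases hy with rfl | rfl
      · exact h1
      · rwa [← mul_assoc, T.cm mt P.zX tz, mul_assoc, mul_assoc, mul_right_inj] at h1))] at e
    exact absurd (by simpa using e) v1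
  left
  have hN : ⁅YC z, YC z⁆ ≤ Subgroup.centralizer {v * z} := comm_le_self hY
  obtain ⟨n, -, n2, n3⟩ := T.mem_im.mp ((Subgroup.commutator_le (H₃ := T.im ⁅YC z, YC z⁆)).mpr
    (fun q hq r hr => by
      have key2 : ∀ q ∈ Subgroup.centralizer {f z} ⊓ Subgroup.centralizer {f w},
          ∃ c ∈ YC z, f c = q := fun q hq => by
        obtain ⟨c, hc, rfl⟩ := T.surj q
        have cz := (P.cm_iff hc).mp (Subgroup.mem_centralizer_singleton_iff.mp hq.1)
        have cv := Subgroup.mem_centralizer_singleton_iff.mp hc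
        rw [mul_assoc, ← cz, ← mul_assoc, ← mul_assoc, mul_left_inj] at cv
        exact ⟨c, W.memY cz fun _ => W.cV hv hw v1 w1 vw cv
          (key c hc cz (Subgroup.mem_centralizer_singleton_iff.mp hq.2)), rfl⟩
      obtain ⟨a, ha, rfl⟩ := key2 q hq
      obtain ⟨b, hb, rfl⟩ := key2 r hr
      have := Subgroup.commutator_mem_commutator ha hb
      refine T.mem_im.mpr ⟨_, hN this, this, ?_⟩
      rw [commutatorElement_def, commutatorElement_def, T.mul _ (hY (mul_mem (mul_mem ha hb)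
        (inv_mem ha))) _ (hY (inv_mem hb)), T.conj (hY ha) (hY hb), T.inv (hY hb)]) h0)
  have zN : z ∈ ⁅YC z, YC z⁆ := by
    obtain ⟨a, ha, e1⟩ := P.F.surj 1 (by omega)
    obtain ⟨b, hb, e2⟩ := P.F.surj 2 (by omega)
    have := Subgroup.commutator_mem_commutator (O_le_Y ha) (O_le_Y hb)
    rwa [commutatorElement_def, W.px.conj_mul_z ha hb fun e => absurd
      ((P.F.comm_iff ha hb).mp e) (by rw [e1, e2]; decide +kernel),
      conj_eq_of_cm (cmO hb)] at this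
  have dN : v * z ∈ ⁅YC z, YC z⁆ := by
    obtain ⟨s, hs, rfl⟩ := (T.eq_iff (hN n2) mw).mp n3
    rcases (mU s).mp hs with rfl | rfl
    · obtain ⟨h, hz, rfl⟩ := W.trans w hw w1 v hv v1
      exact mul_mem (conj_mem_comm (fun _ => normY hz) (mul_one w ▸ n2)) zN
    · obtain ⟨h, hz, e⟩ := W.trans _ (mul_mem hw hv) (fun e => vw (by
        rw [eq_inv_of_mul_eq_one_left e, inv_eq_of_mul_self (W.sq hv)])) v hv v1
      have := conj_mem_comm (fun _ => normY hz) n2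
      rwa [← mul_assoc w, ← conj_mul, e, conj_eq_of_cm hz] at this
  have hp : Group.IsPerfect (Subgroup.centralizer ({v * z} : Set G)) := by
    have := H71.Fi22.simple
    have := e.isSimpleGroup
    have hC := Subgroup.commutator_mono hY hY
    refine Subgroup.isPerfect_iff.mpr (le_antisymm (comm_le_self le_rfl) fun a ha => ?_)
    generalize Subgroup.centralizer ({v * z} : Set G) = C at *
    have hn : (T.im ⁅C, C⁆).Normal := ⟨fun q hq r => by
      obtain ⟨n, n1, n2, rfl⟩ := T.mem_im.mp hq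
      obtain ⟨c, hc, rfl⟩ := T.surj r
      have := fun a (ha : a ∈ C) => mul_mem (mul_mem hc ha) (inv_mem hc)
      exact T.mem_im.mpr ⟨_, this n n1, conj_mem_comm this n2, T.conj hc n1⟩⟩
    have h1 := (hn.eq_bot_or_eq_top).resolve_left fun e => P.fz_ne (Subgroup.mem_bot.mp
      (e ▸ T.mem_im.mpr ⟨z, P.zX, hC zN, rfl⟩))
    obtain ⟨n, n1, n2, n3⟩ := T.mem_im.mp (h1 ▸ Subgroup.mem_top (f a))
    obtain ⟨s, hs, rfl⟩ := (T.eq_iff ha n1).mp n3.symm
    exact mul_mem n2 (Subgroup.zpowers_le.mpr (hC dN) hs)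
  obtain ⟨h, hz, e1⟩ := W.trans v hv v1 w hw w1
  obtain ⟨Θ, F⟩ := H6.isFi23_of_cent (orderOf_eq_two (fun e => W.zV
      ((mul_mem_cancel_left hv).mp (by rw [e]; exact one_mem _))) d2) hp ⟨h, by
    rw [← conj_mul, e1, conj_eq_of_cm hz]
    exact ⟨hY (W.px.Z_le_Y (mul_mem (W.VZ hw) z_memZ)), by simpa using vw⟩⟩
    (H80.isFi22_spor.choose_spec.1.map e.symm)
  exact ⟨F.iso23.choose⟩

end W8
end H39.Fi
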