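import Cfsg.Agent.H39.FiF
/-! The centre of order eight: the trichotomy. -/
set_option autoImplicit false
set_option linter.unusedSectionVars false
set_option maxRecDepth 100000
namespace H39.Fi
open H71 H78 H59.U6 Cfsg H98

universe u
variable {G : Type u} [Group G] {z x y a b c g h j k v w : G} {qc : ℕ} {cd : G → ℕ} {ρ : G → MG}
  {V : Subgroup G}

/-- The action on a section `X / U` with `X` and `U` normal. -/
theorem QT.exists_act {Q : Type*} [Group Q] {X U : Subgroup G} {f : G → Q} (T : QT X U f)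
    (hX : X.Normal) (hU : U.Normal) :
    ∃ θ : G →* MulAut Q, ∀ g, ∀ a ∈ X, θ g (f a) = f (g * a * g⁻¹) := by
  choose s s1 s2 using T.surj
  have key : ∀ g, ∀ a ∈ X, f (g * s (f a) * g⁻¹) = f (g * a * g⁻¹) := fun g a ha => by
    obtain ⟨u, hu, e⟩ := (T.eq_iff (s1 _) ha).mp (s2 (f a))
    exact (T.eq_iff (hX.conj_mem _ (s1 _) g) (hX.conj_mem _ ha g)).mpr
      ⟨_, hU.conj_mem u hu g, by rw [e, conj_mul]⟩
  let _ : MulDistribMulAction G Q :=
    { smul := fun g q => f (g * s q * g⁻¹)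
      one_smul := fun q => by
        show f (1 * s q * 1⁻¹) = q
        rw [one_mul, inv_one, mul_one, s2]
      mul_smul := fun g h q => by
        show f _ = f (g * s (f (h * s q * h⁻¹)) * g⁻¹)
        rw [key g _ (hX.conj_mem _ (s1 q) h)]
        congr 1; group
      smul_one := fun g => by
        show f (g * s 1 * g⁻¹) = 1
        rw [← T.one, key g 1 (one_mem _)]
        congr 1; group
      smul_mul := fun g q r => by
        show f (g * s (q * r) * g⁻¹) = f (g * s q * g⁻¹) * f (g * s r * g⁻¹)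
        rw [← T.mul _ (hX.conj_mem _ (s1 q) g) _ (hX.conj_mem _ (s1 r) g), conj_mul,
          ← key g _ (mul_mem (s1 q) (s1 r)), T.mul _ (s1 q) _ (s1 r), s2, s2] }
  exact ⟨MulDistribMulAction.toMulAut G Q, key⟩

theorem Fz.card_cent [Finite G] (F : Fz z qc cd ρ) (hk : ∀ c, c * z = z * c → ρ c = 1 → c ∈ O2C z) :
    Nat.card (Subgroup.centralizer ({z} : Set G)) = Nat.card (O2C z) * Nat.card F.hom.range := by
  rw [← F.hom.ker.card_mul_index, Subgroup.index_ker, show F.hom.ker = (O2C z).subgroupOf _ from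
    Subgroup.ext fun c => ⟨hk c (Subgroup.mem_centralizer_singleton_iff.mp c.2), F.ρ_of_mem⟩,
    Nat.card_congr (Subgroup.subgroupOfEquivOfLe (pCoreIn_le 2 _)).toEquiv]

variable [Finite G]

namespace W8
variable (W : W8 z V)
include W

theorem v_case (S : Spec.{u}) (hd : ∀ v ∈ V, v ≠ 1 → Iso z (v * z)) (hv : v ∈ V) (v1 : v ≠ 1) :
    Iso z v ∨ ∀ g, g * v = v * g → g ∈ Subgroup.normalizer (V : Set G) := by
  obtain ⟨w, hw, w1, vw⟩ := exists_third W.card v
  have := normal_zp v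
  have mU := mem_zpowers_invol (W.sq hv)
  have T := qt_qf (X := Subgroup.centralizer {v}) (U := Subgroup.zpowers v)
    (Subgroup.zpowers_le.mpr (Subgroup.mem_centralizer_singleton_iff.mpr rfl))
  generalize qf (Subgroup.centralizer {v}) (Subgroup.zpowers v) = f at T
  obtain ⟨cd, ρ, P, X⟩ := W.quot hv hw v1 w1 vw (Or.inl rfl) T
  have m : ∀ {g : G}, g * v = v * g → g ∈ Subgroup.centralizer {v} :=
    Subgroup.mem_centralizer_singleton_iff.mpr
  have mw := m (W.cm hw hv)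
  have key : ∀ y g, g * v = v * g → y * v = v * y → f y ∈ Subgroup.center _ →
      g * y * g⁻¹ = y ∨ g * y * g⁻¹ = y * v := fun y g hg hy hc => by
    obtain ⟨s, hs, e⟩ := (T.eq_iff (mul_mem (mul_mem (m hg) (m hy)) (inv_mem (m hg))) (m hy)).mp
      (by rw [T.conj (m hg) (m hy), conj_eq_of_cm (Subgroup.mem_center_iff.mp hc _)])
    rcases (mU s).mp hs with rfl | rfl
    exacts [Or.inl (e.trans (mul_one y)), Or.inr e]
  rcases S X with h | ⟨y, rfl | rfl, hc⟩ | ⟨-, h, -⟩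
  · exact Or.inl fun g hg => P.iso (iso_of_sup X.zz h) (m hg)
  · refine Or.inr fun g hg => mem_normalizer_of_conj_mem fun u hu => ?_
    have h1 : g * w * g⁻¹ ∈ V := by
      rcases key w g hg (W.cm hw hv) hc with e | e <;> rw [e]
      exacts [hw, mul_mem hw hv]
    rcases W.cases hv hw v1 w1 vw hu with rfl | rfl | rfl | rfl
    · simp
    · rwa [conj_eq_of_cm hg]
    · exact h1
    · rw [← conj_mul, conj_eq_of_cm hg]; exact mul_mem h1 hv
  · rw [← T.cm mw P.zX (W.cz hw), ← T.mul w mw z P.zX] at hc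
    refine Or.inl fun g hg e => ?_
    have c1 := cm_mul (W.cm hw hv) (W.cz hv).symm
    rcases key _ g hg c1 hc with e1 | e1
    · exact hd w hw w1 g (mul_inv_eq_iff_eq_mul.mp e1) e
    obtain ⟨t, tz, tv, e2⟩ := W.swap hv hw v1 w1 vw
    have e3 : g * t * z * (g * t)⁻¹ = g * z * g⁻¹ := by
      conv_rhs => rw [← conj_eq_of_cm tz]
      group
    rw [← e3] at e ⊢
    refine hd w hw w1 _ (mul_inv_eq_iff_eq_mul.mp ?_) e
    rw [show g * t * (w * z) * (g * t)⁻¹ = g * (t * (w * z) * t⁻¹) * g⁻¹ by group,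
      ← conj_mul (b := t), e2, conj_eq_of_cm tz, mul_assoc w, W.cz hv, ← mul_assoc w, ← conj_mul, e1, conj_eq_of_cm hg,
      mul_assoc, W.sq hv, mul_one]
  · refine absurd (fun q hq => ?_) h
    obtain ⟨c, hc, rfl⟩ := T.surj q
    have cz := (P.cm_iff hc).mp (Subgroup.mem_centralizer_singleton_iff.mp hq)
    refine Subgroup.mem_centralizer_singleton_iff.mpr ?_
    rcases W.move hv hw v1 w1 vw (Subgroup.mem_centralizer_singleton_iff.mp hc) (W.Vn c cz w hw)
      with e | e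
    · exact T.cm hc mw e
    · rw [← mul_inv_eq_iff_eq_mul, ← T.conj hc mw, e, T.mul w mw v (m rfl),
        (T.ker v (m rfl)).mpr (Subgroup.mem_zpowers v), mul_one]

theorem v_cases (S : Spec.{u}) (hd : ∀ v ∈ V, v ≠ 1 → Iso z (v * z)) :
    (∀ v ∈ V, v ≠ 1 → Iso z v) ∨
      ∀ v ∈ V, v ≠ 1 → ∀ g, g * v = v * g → g ∈ Subgroup.normalizer (V : Set G) := by
  obtain ⟨v, hv, v1, -⟩ := exists_third W.card 1
  refine (W.v_case S hd hv v1).imp (fun i w hw w1 => ?_) fun i w hw w1 g hg => ?_ <;>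
    obtain ⟨h, hz, rfl⟩ := W.trans v hv v1 w hw w1
  · have := i.conj h
    rwa [conj_eq_of_cm hz] at this
  · have := mul_mem (mul_mem (W.H_le hz) (i _ (comm_conj' hg))) (inv_mem (W.H_le hz))
    convert this using 1; group

theorem V_le : V ≤ Subgroup.centralizer (V : Set G) := fun _ hv _ hw => W.cm hw hv

theorem Y_le : YC z ≤ Subgroup.centralizer (V : Set G) := fun _ hc _ hw => hc _ (W.VZ hw)

theorem adj (hv : v ∈ V) (v1 : v ≠ 1) (h1 : g * v = v * g)
    (h2 : g ∈ Subgroup.normalizer (V : Set G)) :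
    ∃ k ∈ Subgroup.centralizer (V : Set G), k * z * k⁻¹ = g * z * g⁻¹ := by
  obtain ⟨w, hw, w1, vw⟩ := exists_third W.card v
  rcases W.move hv hw v1 w1 vw h1 (H78.conj_mem_of_mem_normalizer h2 hw) with e | e
  · exact ⟨g, fun _ hu => (W.cV hv hw v1 w1 vw h1 e hu).symm, rfl⟩
  obtain ⟨t, tz, tv, e2⟩ := W.swap hv hw v1 w1 vw
  refine ⟨g * t, fun _ hu => (W.cV hv hw v1 w1 vw (cm_mul h1 tv) (mul_inv_eq_iff_eq_mul.mp ?_)
    hu).symm, ?_⟩
  · rw [show g * t * w * (g * t)⁻¹ = g * (t * w * t⁻¹) * g⁻¹ by group, e2, ← conj_mul, e,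
      conj_eq_of_cm h1, mul_assoc, W.sq hv, mul_one]
  · conv_rhs => rw [← conj_eq_of_cm tz]
    group

theorem sect {Q : Type*} [Group Q] [Finite Q] {f : G → Q}
    (T : QT (Subgroup.centralizer (V : Set G)) V f) :
    (∃ cd ρ, PF (Subgroup.centralizer (V : Set G)) V f z qa cd ρ) ∧ Ok (f z) ∧
      Nat.card (Subgroup.centralizer ({f z} : Set Q)) = 512 * 25920 := by
  obtain ⟨cd, ρ, F, hX⟩ := W.ga
  have mY : ∀ c ∈ Subgroup.centralizer (V : Set G), c * z = z * c → c ∈ YC z := fun c hc cz =>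
    W.memY cz fun u hu => (hc u hu).symm
  have P := W.pf T F W.Y_le W.VZ W.zV fun c hc cz => XM_le_WM (hX c (mY c hc cz))
  obtain ⟨cd', ρ', F', -, e⟩ := P.frame
  have R := F'.toFr fun q hq => by
    obtain ⟨a, ha, h1, rfl⟩ := P.exZ hq
    refine (W.Zd a h1).imp (T.ker a ha).mpr fun h => ?_
    have := (T.ker _ (W.V_le h)).mpr h
    rwa [T.mul a ha z P.zX, mul_eq_one_iff_eq_inv, F'.toPX.z_inv] at this
  have h1 : ∀ q, q * f z = f z * q → ρ' q ∈ XM := fun q hq => by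
    obtain ⟨c, hc, rfl⟩ := T.surj q
    have cz := (P.cm_iff hc).mp hq
    exact e c hc cz ▸ hX c (mY c hc cz)
  have h2 : ∀ g ∈ XM, ∃ q, q * f z = f z * q ∧ ρ' q = g := fun g hg => by
    obtain ⟨c, hc, rfl⟩ := F.onto g hg
    exact ⟨f c, T.cm (W.Y_le hc) P.zX (cmYz hc), e c (W.Y_le hc) (cmYz hc)⟩
  refine ⟨⟨cd, ρ, P⟩, ⟨cd', ρ', R, fun q hq => XM_le_WM (h1 q hq), h2⟩, ?_⟩
  rw [F'.card_cent (fun _ => R.mem_of_ρ), R.card, ← cardXM, show F'.hom.range = XM from le_antisymm (by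
    rintro _ ⟨q, rfl⟩
    exact h1 q (Subgroup.mem_centralizer_singleton_iff.mp q.2)) fun g hg => by
      obtain ⟨q, hq, rfl⟩ := h2 g hg
      exact ⟨⟨q, Subgroup.mem_centralizer_singleton_iff.mpr hq⟩, rfl⟩]

theorem six : 6 ≤ (Subgroup.centralizer (V : Set G)).index := by
  obtain ⟨v, hv, v1, -⟩ := exists_third W.card 1
  obtain ⟨w, hw, w1, vw⟩ := exists_third W.card v
  obtain ⟨t, -, tv, e⟩ := W.swap hv hw v1 w1 vw
  have wv : w * v ≠ 1 := fun e =>
    vw (by rw [eq_inv_of_mul_eq_one_left e, inv_eq_of_mul_self (W.sq hv)])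
  have c : ∀ u ∈ V, u ≠ 1 → IsConj v u := fun u hu u1 => by
    obtain ⟨h, -, e⟩ := W.trans v hv v1 u hu u1
    exact isConj_iff.mpr ⟨h, e⟩
  have h3 := H59.length_le_card (α := {x // IsConj v x})
    (L := [⟨v, c v hv v1⟩, ⟨w, c w hw w1⟩, ⟨w * v, c _ (mul_mem hw hv) wv⟩])
    (by simp [vw.symm, v1, w1])
  have le : Subgroup.centralizer (V : Set G) ≤ Subgroup.centralizer {v} :=
    Subgroup.centralizer_le (Set.singleton_subset_iff.mpr hv)
  have h1 := Subgroup.relIndex_eq_one.not.mpr fun h : _ ≤ Subgroup.centralizer (V : Set G) => by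
    rw [conj_eq_of_cm (h (Subgroup.mem_centralizer_singleton_iff.mpr tv) w hw).symm] at e
    exact v1 (by simpa using e)
  have h0 : (Subgroup.centralizer (V : Set G)).index ≠ 0 := Subgroup.index_ne_zero_of_finite
  rw [← Subgroup.relIndex_mul_index le, ← H28.card_isConj_eq_index] at h0 ⊢
  have := left_ne_zero_of_mul h0
  exact Nat.mul_le_mul (show 2 ≤ _ by omega) h3

theorem aut {K : Type*} [Field K] [Fintype K] (hK : Fintype.card K = 4) [V.Normal]
    {Q : Type*} [Group Q] [Finite Q] {f : G → Q} (T : QT (Subgroup.centralizer (V : Set G)) V f)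
    {q : Q} (hq : Nb (f z) q) : Nonempty ((G ⧸ V) ≃* MulAut (PSU 6 K 2)) := by
  obtain ⟨⟨cd, ρ, P⟩, ok, hc⟩ := W.sect T
  obtain ⟨e⟩ := ok.equiv_PSU hq hK
  have cQ : Nat.card Q = 9196830720 := by
    rw [← (Subgroup.centralizer ({f z} : Set Q)).card_mul_index, hc, ok.index_cent hq]
  have e1 : Q ≃* PSU 6 K 2 := (Subgroup.topEquiv.symm.trans (MulEquiv.subgroupCongr
    (Subgroup.eq_top_of_card_eq _ (by rw [Nat.card_congr e.toEquiv, card_PSU6 hK, cQ])).symm)).trans e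
  obtain ⟨θ, hθ⟩ := T.exists_act inferInstance inferInstance
  have hk : V = θ.ker := Subgroup.ext fun g => ⟨fun hg => MulEquiv.ext fun r => by
    obtain ⟨a, ha, rfl⟩ := T.surj r
    rw [hθ g a ha, conj_eq_of_cm (ha g hg)]; rfl, fun hg => by
    have h1 : ∀ a ∈ Subgroup.centralizer (V : Set G), f (g * a * g⁻¹) = f a := fun a ha => by
      rw [← hθ g a ha, show θ g = 1 from hg]; rfl
    have h2 : ∀ a ∈ Subgroup.centralizer (V : Set G), g * a * g⁻¹ * a⁻¹ ∈ ZC z := fun a ha => by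
      obtain ⟨u, hu, e⟩ := (T.eq_iff (Subgroup.Normal.conj_mem inferInstance a ha g) ha).mp
        (h1 a ha)
      rw [e, conj_eq_of_cm (ha u hu).symm]
      exact W.VZ hu
    have h3 := W.Y_le (O_le_Y (W.faith g (mul_inv_eq_iff_eq_mul.mp (W.nf g
      ((mul_mem_cancel_right (inv_mem z_memZ)).mp (h2 z P.zX)))) fun a ha =>
      h2 a (W.Y_le (O_le_Y ha))))
    exact (T.ker g h3).mp (ok.eq_one hq fun d _ => by
      obtain ⟨a, ha, rfl⟩ := T.surj d
      rw [← mul_inv_eq_iff_eq_mul, ← T.conj h3 ha, h1 a ha])⟩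
  have cA := Agent.S0815.result (F := K) 2 1 le_rfl (q := 2) rfl hK 6 (by omega) (by omega)
  rw [card_PSU6 hK, ← Nat.card_congr (MulAut.congr e1).toEquiv] at cA
  have cX := T.card_pre ⊤
  rw [show T.pre ⊤ = _ from Subgroup.ext fun a => T.mem_pre.trans (and_iff_left trivial),
    Subgroup.card_top, cQ, W.card] at cX
  have c1 := (Subgroup.centralizer (V : Set G)).card_mul_index
  have c2 := θ.ker.card_mul_index
  have c3 := W.six
  rw [Subgroup.index_ker, ← hk, W.card, ← c1, cX] at c2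
  have : Finite (MulAut Q) := Nat.finite_of_card_ne_zero (by rw [cA]; decide)
  exact ⟨((QuotientGroup.quotientMulEquivOfEq hk).trans
    (QuotientGroup.quotientKerEquivOfSurjective θ (MonoidHom.range_eq_top.mp
      (Subgroup.eq_top_of_le_card _ (by
        rw [cA, show Nat.gcd 6 (2 + 1) = 3 by decide]; omega))))).trans (MulAut.congr e1)⟩

theorem main (S : Spec.{u}) {K : Type*} [Field K] [Fintype K] (hK : Fintype.card K = 4) :
    Subgroup.centralizer ({z} : Set G) ⊔ oddCore G = ⊤ ∨ Spor.IsoFi23 G ∨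
      ∃ _ : V.Normal, Nonempty ((G ⧸ V) ≃* MulAut (PSU 6 K 2)) := by
  by_contra hn
  rw [not_or, not_or] at hn
  obtain ⟨g, h1, h2⟩ := H49.exists_conj_comm_of_ne_top (orderOf_eq_two W.px.ne W.px.z_sq) hn.1
  have hd : ∀ v ∈ V, v ≠ 1 → Iso z (v * z) := fun v hv v1 =>
    (W.d_case S hv v1).resolve_left hn.2.1
  have ni : ¬ ∀ v ∈ V, v ≠ 1 → Iso z v := fun hv =>
    h2 (W.isolated hd hv g (by simp) h1.symm)
  have hB := (W.v_cases S hd).resolve_left ni
  have : (V.subgroupOf (Subgroup.centralizer (V : Set G))).Normal := ⟨fun v hv g => by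
    have := Subgroup.mem_subgroupOf.mp hv
    rwa [← conj_eq_of_cm (g.2 v this).symm] at this⟩
  have T := qt_qf W.V_le
  generalize qf (Subgroup.centralizer (V : Set G)) V = f at T
  obtain ⟨⟨cd, ρ, P⟩, ⟨cd', ρ', F⟩, -⟩ := W.sect T
  have := W.normal hd (fun v hv v1 g hg e => by
    obtain ⟨k, hk, e1⟩ := W.adj hv v1 hg (hB v hv v1 g hg)
    rw [← e1] at e ⊢
    exact P.conj_eq hk (F.weak (isConj_iff.mpr ⟨f k, (T.conj hk P.zX).symm⟩)
      ((P.mem_O (W.Y_le (O_le_Y e))).mpr e))) hB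
  refine ni fun v hv v1 g hg e => ?_
  obtain ⟨k, hk, e1⟩ := W.adj hv v1 hg (hB v hv v1 g hg)
  rw [← e1] at e ⊢
  by_contra ne
  exact hn.2.2 ⟨this, W.aut hK T (P.nb hk e ne)⟩

end W8
end H39.Fi
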