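import Cfsg.Agent.H39.FiG
import Cfsg.Agent.H39.FiB
/-! The centre of order eight: the local structure from an element of order three. -/
set_option autoImplicit false
set_option linter.unusedSectionVars false
set_option maxRecDepth 100000
namespace H39.Fi
open H71 H78 H59.U6 Cfsg H98

variable {G : Type*} [Group G] {z a b c d g h j n u v w x y : G} {qc : ℕ} {cd : G → ℕ}
  {p ρ : G → MG}

theorem mem_zp3 (h : c * c * c = 1) (hx : x ∈ Subgroup.zpowers c) : x = 1 ∨ x = c ∨ x = c⁻¹ := by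
  obtain ⟨n, e⟩ := hx
  have e1 := zpow_eq_zpow_emod' n (show c ^ 3 = 1 by rw [pow_three', h])
  have e2 : c ^ (2 : ℤ) = c⁻¹ := eq_inv_of_mul_eq_one_left (by rw [← h, zpow_two])
  obtain f | f | f : n % (3 : ℕ) = 0 ∨ n % (3 : ℕ) = 1 ∨ n % (3 : ℕ) = 2 := by omega
  all_goals rw [f, show c ^ n = x from e] at e1; simp [e1, e2]

theorem card_half [Finite G] {A B : Subgroup G} (le : A ≤ B) (hz : z ∈ B) (h1 : z ∉ A)
    (h2 : ∀ y ∈ B, y ∈ A ∨ y * z ∈ A) : Nat.card B = Nat.card A * 2 := by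
  rw [← Subgroup.relIndex_eq_two_iff.mpr ⟨z, hz, fun y hy => (h2 y hy).elim
    (fun e => Or.inr ⟨e, fun e' => h1 ((mul_mem_cancel_left e).mp e')⟩)
    fun e => Or.inl ⟨e, fun e' => h1 ((mul_mem_cancel_left e').mp e)⟩⟩,
    ← Nat.card_congr (Subgroup.subgroupOfEquivOfLe le).toEquiv]
  exact (A.subgroupOf B).card_mul_index.symm

/-- The norm for an element of order three. -/
def nrm (c y : G) : G := y * (c * y * c⁻¹) * (c⁻¹ * y * c)

/-- The hypotheses of the characterization of `Fi₂₃`. -/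
structure H8 (z c : G) (p : G → MG) : Prop extends PX z where
  c8 : Nat.card (ZC z) = 8
  cz : c * z = z * c
  c3 : c * c * c = 1
  mul : ∀ a, a * z = z * a → ∀ b, b * z = z * b → p (a * b) = p a * p b
  mem : ∀ a, a * z = z * a → p a ∈ WM
  onto : ∀ g ∈ WM, ∃ a, a * z = z * a ∧ p a = g
  ker : ∀ a, a * z = z * a → (p a = 1 ↔ a ∈ O2C z ∨ a * c⁻¹ ∈ O2C z ∨ a * c ∈ O2C z)
  cJ : ∀ j ∈ O2C z, c * j = j * c → j = 1 ∨ j = z
  cX : ∀ h, h * z = z * h → h * c = c * h → p h ∈ XM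

theorem act_eq (hb : b * z = z * b) (e : a * b⁻¹ ∈ O2C z) (hy : y ∈ ZC z) :
    a * y * a⁻¹ = b * y * b⁻¹ := by
  rw [← conj_eq_of_cm (cmZ (normZ hb hy) e)]; group

theorem act_eq' (hb : b * z = z * b) (e : a * b⁻¹ ∈ O2C z) (hy : y ∈ ZC z) :
    a⁻¹ * y * a = b⁻¹ * y * b := by
  have := act_eq (a := a⁻¹) (cm_inv hb) (by
    convert normO' hb (inv_mem e) using 1; group) hy
  rwa [inv_inv, inv_inv] at this

namespace H8
variable (H : H8 z c p)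
include H

/-- The map as a homomorphism. -/
noncomputable def hom : Subgroup.centralizer ({z} : Set G) →* MG :=
  MonoidHom.mk' (fun c => p c) fun c d => H.mul _ (Subgroup.mem_centralizer_singleton_iff.mp c.2)
    _ (Subgroup.mem_centralizer_singleton_iff.mp d.2)

theorem p_J (hj : j ∈ O2C z) : p j = 1 := (H.ker j (cmO hj)).mpr (Or.inl hj)

theorem p_c : p c = 1 := (H.ker c H.cz).mpr (Or.inr (Or.inl (by simp)))

theorem p_inv (ha : a * z = z * a) : p a⁻¹ = (p a)⁻¹ :=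
  eq_inv_of_mul_eq_one_left (by rw [← H.mul _ (cm_inv ha) _ ha, inv_mul_cancel, H.p_J (one_mem _)])

theorem p_conj (ha : a * z = z * a) (hb : b * z = z * b) :
    p (a * b * a⁻¹) = p a * p b * (p a)⁻¹ := by
  rw [H.mul _ (cm_mul ha hb) _ (cm_inv ha), H.mul _ ha _ hb, H.p_inv ha]

theorem cc : c * c = c⁻¹ := eq_inv_of_mul_eq_one_left H.c3

theorem Zcm (hu : u ∈ ZC z) (hw : w ∈ ZC z) : u * w = w * u := cmZ hw (H.le hu)

theorem normZ' (hy : y ∈ ZC z) : c⁻¹ * y * c ∈ ZC z := by simpa using normZ (cm_inv H.cz) hy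

theorem nrm_cases (ha : a ∈ O2C z) (h1 : c * a * c⁻¹ * a = a * (c * a * c⁻¹))
    (h2 : c⁻¹ * a * c * a = a * (c⁻¹ * a * c)) : nrm c a = 1 ∨ nrm c a = z := by
  refine H.cJ _ (mul_mem (mul_mem ha (normO H.cz ha)) (normO' H.cz ha))
    (mul_inv_eq_iff_eq_mul.mp ?_)
  calc _ = c * a * c⁻¹ * (c * c * a * (c * c)⁻¹ * a) := by unfold nrm; group
    _ = _ := by rw [H.cc, inv_inv, h2, ← mul_assoc _ a, h1]; rfl

theorem nrm_mul (hu : u ∈ ZC z) (hw : w ∈ ZC z) : nrm c (u * w) = nrm c u * nrm c w := by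
  have e1 := H.Zcm hw (mul_mem (normZ H.cz hu) (H.normZ' hu))
  have e2 := H.Zcm (normZ H.cz hw) (H.normZ' hu)
  calc _ = u * (w * (c * u * c⁻¹) * (c * w * c⁻¹ * (c⁻¹ * u * c))) * (c⁻¹ * w * c) := by
        unfold nrm; group
    _ = u * (w * (c * u * c⁻¹ * (c⁻¹ * u * c))) * (c * w * c⁻¹) * (c⁻¹ * w * c) := by
        rw [e2]; group
    _ = _ := by rw [e1]; unfold nrm; group

theorem nrm_z : nrm c z = z := by
  rw [nrm, conj_eq_of_cm H.cz, mul_assoc c⁻¹, ← H.cz, inv_mul_cancel_left, H.toPX.mul_z_z]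

/-- The commutator of `Z` with `c`. -/
def V : Subgroup G where
  carrier := {y | y ∈ ZC z ∧ nrm c y = 1}
  one_mem' := ⟨one_mem _, by simp [nrm]⟩
  mul_mem' := fun hu hw => ⟨mul_mem hu.1 hw.1, by rw [H.nrm_mul hu.1 hw.1, hu.2, hw.2, mul_one]⟩
  inv_mem' := fun {y} hy => by rwa [inv_eq_of_mul_self (H.zsq y hy.1)]

theorem VZ : H.V ≤ ZC z := fun _ h => h.1

theorem zV : z ∉ H.V := fun h => H.ne (H.nrm_z.symm.trans h.2)

theorem Zd (hy : y ∈ ZC z) : y ∈ H.V ∨ y * z ∈ H.V :=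
  (H.nrm_cases (H.le hy) (H.Zcm (normZ H.cz hy) hy) (H.Zcm (H.normZ' hy) hy)).imp
    (fun e => ⟨hy, e⟩) fun e => ⟨mul_mem hy z_memZ, by
      rw [H.nrm_mul hy z_memZ, e, H.nrm_z, H.toPX.z_sq]⟩

theorem nc (hv : v ∈ H.V) (v1 : v ≠ 1) : c * v ≠ v * c := fun e =>
  (H.cJ v (H.le hv.1) e).elim v1 fun e => H.zV (e ▸ hv)

theorem kerJ (hv : v ∈ H.V) (v1 : v ≠ 1) (ha : a * z = z * a) (av : a * v = v * a)
    (e : p a = 1) : a ∈ O2C z := by
  rcases (H.ker a ha).mp e with h | h | h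
  · exact h
  · exact absurd (mul_inv_eq_iff_eq_mul.mp ((act_eq H.cz h hv.1).symm.trans (conj_eq_of_cm av)))
      (H.nc hv v1)
  · have := (act_eq (cm_inv H.cz) (by rwa [inv_inv]) hv.1).symm.trans (conj_eq_of_cm av)
    exact absurd (by simpa using cm_inv (mul_inv_eq_iff_eq_mul.mp this)) (H.nc hv v1)

variable [Finite G]

theorem cardV : Nat.card H.V = 4 := by
  have := card_half H.VZ z_memZ H.zV fun _ => H.Zd
  rw [H.c8] at this
  omega

theorem Vn (hz : h * z = z * h) (hw : w ∈ H.V) : h * w * h⁻¹ ∈ H.V := by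
  refine ⟨normZ hz hw.1, ?_⟩
  obtain ⟨v, hv, v1, -⟩ := exists_third H.cardV 1
  have e : nrm c (h * w * h⁻¹) = h * nrm (h⁻¹ * c * h⁻¹⁻¹) w * h⁻¹ := by unfold nrm; group
  have dz := cm_conj (cm_inv hz) H.cz
  rw [e, conj_eq_one_iff]
  rcases (H.ker _ dz).mp (by rw [H.p_conj (cm_inv hz) H.cz, H.p_c]; simp) with h1 | h1 | h1
  · have := normO hz h1
    exact absurd (cmZ hv.1 (by convert this using 1; group)) (H.nc hv v1)
  · rw [nrm, act_eq H.cz h1 hw.1, act_eq' H.cz h1 hw.1]; exact hw.2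
  · rw [← inv_inv c] at h1
    rw [nrm, act_eq (cm_inv H.cz) (by simpa using h1) hw.1, act_eq' (cm_inv H.cz)
      (by simpa using h1) hw.1, inv_inv, mul_assoc w, H.Zcm (H.normZ' hw.1) (normZ H.cz hw.1),
      ← mul_assoc w]
    exact hw.2

theorem cases (hv : v ∈ H.V) (hw : w ∈ H.V) (v1 : v ≠ 1) (w1 : w ≠ 1) (vw : w ≠ v)
    (hu : u ∈ H.V) : u = 1 ∨ u = v ∨ u = w ∨ u = w * v :=
  four_cases H.cardV (fun v hv => H.zsq v hv.1) hv hw v1 w1 vw hu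

theorem tri (hv : v ∈ H.V) (v1 : v ≠ 1) (hu : u ∈ H.V) (u1 : u ≠ 1) :
    ∃ d, d * z = z * d ∧ p d = 1 ∧ d * v * d⁻¹ = u := by
  have hw := H.Vn H.cz hv
  rcases H.cases hv hw v1 (by simpa using v1)
    (fun e => H.nc hv v1 (mul_inv_eq_iff_eq_mul.mp e)) hu with rfl | rfl | rfl | rfl
  · exact absurd rfl u1
  · exact ⟨1, by simp, H.p_J (one_mem _), by simp⟩
  · exact ⟨c, H.cz, H.p_c, rfl⟩
  · refine ⟨c⁻¹, cm_inv H.cz, by rw [H.p_inv H.cz, H.p_c, inv_one], ?_⟩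
    rw [inv_inv, eq_inv_of_mul_eq_one_right hv.2, H.Zcm hv.1 hw.1,
      inv_eq_of_mul_self (H.zsq _ hu.1)]

theorem split (hv : v ∈ H.V) (v1 : v ≠ 1) (hz : h * z = z * h) :
    ∃ d a, d * z = z * d ∧ p d = 1 ∧ a * z = z * a ∧ a * v = v * a ∧ h = d * a := by
  obtain ⟨d, dz, pd, e⟩ := H.tri hv v1 (H.Vn hz hv) (by simpa using v1)
  exact ⟨d, d⁻¹ * h, dz, pd, cm_mul (cm_inv dz) hz, mul_inv_eq_iff_eq_mul.mp (by
    rw [show d⁻¹ * h * v * (d⁻¹ * h)⁻¹ = d⁻¹ * (h * v * h⁻¹) * d by group, ← e]; group), by group⟩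

theorem onto0 (hv : v ∈ H.V) (v1 : v ≠ 1) {g : MG} (hg : g ∈ WM) :
    ∃ a, a * z = z * a ∧ a * v = v * a ∧ p a = g := by
  obtain ⟨h, hz, rfl⟩ := H.onto g hg
  obtain ⟨d, a, dz, pd, az, av, rfl⟩ := H.split hv v1 hz
  exact ⟨a, az, av, by rw [H.mul d dz a az, pd, one_mul]⟩

theorem sq_memY (hv : v ∈ H.V) (v1 : v ≠ 1) (az : a * z = z * a) (av : a * v = v * a) :
    a * a ∈ YC z := by
  have key : ∀ w ∈ H.V, a * a * w * (a * a)⁻¹ = w := fun w hw => by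
    rw [show a * a * w * (a * a)⁻¹ = a * (a * w * a⁻¹) * a⁻¹ by group]
    by_cases w1 : w = 1
    · simp [w1]
    by_cases vw : w = v
    · rw [vw, conj_eq_of_cm av, conj_eq_of_cm av]
    rcases H.cases hv hw v1 w1 vw (H.Vn az hw) with e | e | e | e
    · exact absurd (by simpa using e) w1
    · rw [← conj_eq_of_cm av] at e
      exact absurd (by simpa using e) vw
    · rw [e, e]
    · rw [e, ← conj_mul, e, conj_eq_of_cm av, mul_assoc, H.zsq v hv.1, mul_one]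
  intro y hy
  rcases H.Zd hy with e | e
  · exact (mul_inv_eq_iff_eq_mul.mp (key y e)).symm
  · rw [← H.toPX.mul_z_z y]
    exact cm_mul (mul_inv_eq_iff_eq_mul.mp (key _ e)).symm (cm_mul az az).symm

theorem ontoY {g : MG} (hg : g ∈ XM) : ∃ y ∈ YC z, p y = g := by
  obtain ⟨v, hv, v1, -⟩ := exists_third H.cardV 1
  obtain ⟨y, hy, e⟩ := XM_le_of_sq (K := ((YC z).subgroupOf _).map H.hom) (fun g hg => by
    obtain ⟨a, az, av, rfl⟩ := H.onto0 hv v1 (XM_le_WM hg)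
    exact ⟨⟨a * a, Subgroup.mem_centralizer_singleton_iff.mpr (cm_mul az az)⟩,
      H.sq_memY hv v1 az av, H.mul a az a az⟩) hg
  exact ⟨y, hy, e⟩

theorem YX (hy : y ∈ YC z) : p y ∈ XM := by
  obtain ⟨v, hv, v1, -⟩ := exists_third H.cardV 1
  have mK : ∀ {a}, a ∈ H.hom.ker.map (Subgroup.subtype _) ↔ a * z = z * a ∧ p a = 1 :=
    ⟨by rintro ⟨a, ha, rfl⟩; exact ⟨Subgroup.mem_centralizer_singleton_iff.mp a.2, ha⟩,
      fun h => ⟨⟨_, Subgroup.mem_centralizer_singleton_iff.mpr h.1⟩, h.2, rfl⟩⟩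
  generalize H.hom.ker.map (Subgroup.subtype _) = K at mK
  have : Fact (Nat.Prime 3) := ⟨by norm_num⟩
  have hc := Subgroup.mem_zpowers c
  have S : IsSyl 3 (Subgroup.zpowers c) K := ⟨Subgroup.zpowers_le.mpr (mK.mpr ⟨H.cz, H.p_c⟩),
    isPGroup_zpowers (k := 1) (by rw [pow_one, pow_three', H.c3]), fun Q hQ h1 h2 =>
    le_antisymm (fun q hq => by
      have key : ∀ q ∈ Q, q ∈ O2C z → q ∈ Subgroup.zpowers c := fun q h3 h4 =>
        Subgroup.disjoint_def.mp (IsPGroup.disjoint_of_ne 3 2 (by omega) _ _ hQ isP_O) h3 h4 ▸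
          one_mem _
      rcases (H.ker q (mK.mp (h2 hq)).1).mp (mK.mp (h2 hq)).2 with h | h | h
      · exact key q hq h
      · exact (mul_mem_cancel_right (inv_mem hc)).mp (key _ (mul_mem hq (inv_mem (h1 hc))) h)
      · exact (mul_mem_cancel_right hc).mp (key _ (mul_mem hq (h1 hc)) h)) h1⟩
  have yz := cmYz hy
  obtain ⟨a, ha, n, hn, e⟩ := S.frattini_mem (g := y) (mem_normalizer_of_conj_mem fun k hk =>
    mK.mpr ⟨cm_conj yz (mK.mp hk).1, by rw [H.p_conj yz (mK.mp hk).1, (mK.mp hk).2]; simp⟩)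
  obtain ⟨nz, pn⟩ := mK.mp hn
  have az : a * z = z * a := by
    have := cm_mul yz (cm_inv nz)
    rwa [e, mul_inv_cancel_right] at this
  rcases mem_zp3 H.c3 (H78.conj_mem_of_mem_normalizer ha hc) with e1 | e1 | e1
  · exact absurd (by rw [conj_eq_one_iff.mp e1]; simp) (H.nc hv v1)
  · rw [e, H.mul a az n nz, pn, mul_one]
    exact H.cX a az (mul_inv_eq_iff_eq_mul.mp e1)
  obtain ⟨d, dz, dc, hd⟩ : ∃ d, d * z = z * d ∧ d * c = c * d ∧ n * d⁻¹ ∈ O2C z := by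
    rcases (H.ker n nz).mp pn with h | h | h
    exacts [⟨1, by simp, by simp, by simpa using h⟩, ⟨c, H.cz, rfl, h⟩,
      ⟨c⁻¹, cm_inv H.cz, by simp, by simpa using h⟩]
  have key : ∀ u ∈ ZC z, a * (d * u * d⁻¹) * a⁻¹ = u := fun u hu => by
    rw [← act_eq dz hd hu]
    conv_rhs => rw [← conj_eq_of_cm (cmY hy hu), e]
    group
  refine absurd ?_ (H.nc hv v1)
  have e2 : c * v * c⁻¹ = c⁻¹ * v * c := by
    calc _ = a * (d * c * v * (d * c)⁻¹) * a⁻¹ := by rw [← key _ (normZ H.cz hv.1)]; group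
      _ = a * c * a⁻¹ * (a * (d * v * d⁻¹) * a⁻¹) * (a * c * a⁻¹)⁻¹ := by rw [dc]; group
      _ = _ := by rw [key v hv.1, e1, inv_inv]
  have e3 : c * c * v = v * (c * c) := by
    calc _ = c * (c * v * c⁻¹) * c := by group
      _ = _ := by rw [e2]; group
  rw [H.cc] at e3
  simpa using cm_inv e3

theorem memY (hv : v ∈ H.V) (v1 : v ≠ 1) (az : a * z = z * a) (av : a * v = v * a)
    (e : p a ∈ XM) : a ∈ YC z := by
  obtain ⟨y, hy, e1⟩ := H.ontoY e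
  exact (mul_mem_cancel_left (inv_mem hy)).mp (O_le_Y (H.kerJ hv v1 (cm_mul (cm_inv (cmYz hy)) az)
    (cm_mul (cm_inv (cmY hy hv.1)) av) (by
      rw [H.mul _ (cm_inv (cmYz hy)) a az, H.p_inv (cmYz hy), e1, inv_mul_cancel])))

theorem fpf (F : Fz z qc cd ρ) {s : ℕ} (hs : s < 256) (e : app (ρ c) s = s) : s = 0 := by
  obtain ⟨a, ha, rfl⟩ := F.surj s hs
  have e' : app (ρ c⁻¹) (cd a) = cd a := by
    rw [F.ρ_inv H.cz]
    conv_lhs => rw [← e, app_inv_app _ hs]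
  obtain ⟨y, hy, e1⟩ := F.fix_mod H.cz ha e
  obtain ⟨y', hy', e2⟩ := F.fix_mod (cm_inv H.cz) ha e'
  rw [inv_inv] at e2
  have := H.nrm_cases ha (by rw [e1, mul_assoc, ← cmZ hy ha]) (by rw [e2, mul_assoc, ← cmZ hy' ha])
  have e3 : cd (nrm c a) = 0 := by
    rcases this with h | h <;> rw [h]
    exacts [F.cd_one, F.cd_z]
  rwa [nrm, F.mul _ (mul_mem ha (normO H.cz ha)) _ (normO' H.cz ha), F.mul _ ha _ (normO H.cz ha),
    e1, e2, F.cd_mul_Z ha hy, F.cd_mul_Z ha hy', Nat.xor_self, Nat.zero_xor] at e3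

theorem ρ_cm (F : Fz z qc cd ρ) (dz : d * z = z * d) (pd : p d = 1) (hy : y ∈ YC z) :
    ρ d * ρ y = ρ y * ρ d := by
  obtain ⟨v, hv, v1, -⟩ := exists_third H.cardV 1
  have h1 := mul_mem (normY dz hy) (inv_mem hy)
  have yz := cmYz hy
  have := F.ρ_of_mem (H.kerJ hv v1 (cmYz h1) (cmY h1 hv.1) (by
    rw [H.mul _ (cm_conj dz yz) _ (cm_inv yz), H.p_conj dz yz, H.p_inv yz, pd]; simp))
  rwa [F.ρ_mul (cm_conj dz yz) (cm_inv yz), F.ρ_conj dz yz, F.ρ_inv yz, mul_inv_eq_one,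
    mul_inv_eq_iff_eq_mul] at this

theorem fr (hv : v ∈ H.V) (v1 : v ≠ 1) :
    ∃ cd ρ, GA z cd ρ ∧ ∀ a, a * z = z * a → a * v = v * a → ρ a = p a := by
  have m : ∀ {a}, a ∈ Subgroup.centralizer ({z} : Set G) ⊓ Subgroup.centralizer {v} ↔
      a * z = z * a ∧ a * v = v * a := by
    simp [Subgroup.mem_centralizer_singleton_iff]
  rcases exists_fz H.toPX (fun a ha => (m.mp ha).1) p
    (fun a ha b hb => H.mul a (m.mp ha).1 b (m.mp hb).1)
    (fun a ha => ⟨H.kerJ hv v1 (m.mp ha).1 (m.mp ha).2, H.p_J⟩) (fun a ha => H.mem a (m.mp ha).1)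
    (fun g hg => by
      obtain ⟨y, hy, e⟩ := H.ontoY hg
      exact ⟨y, m.mpr ⟨cmYz hy, cmY hy hv.1⟩, hy, e⟩) with ⟨cd, ρ, F, e⟩ |
    ⟨qc, -, cd, ρ, F, -, -, e⟩
  · exact ⟨cd, ρ, ⟨F, fun g hg => by
      obtain ⟨y, hy, rfl⟩ := H.ontoY hg
      exact ⟨y, hy, e y (m.mpr ⟨cmYz hy, cmY hy hv.1⟩)⟩⟩, fun a h1 h2 => e a (m.mpr ⟨h1, h2⟩)⟩
  · obtain ⟨s, hs, s0, e1⟩ := e c H.cz fun a ha h =>
      H.ρ_cm F H.cz H.p_c (H.memY hv v1 (m.mp ha).1 (m.mp ha).2 h)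
    exact absurd (H.fpf F hs e1) s0

theorem faith (hz : h * z = z * h) (e : ∀ a ∈ O2C z, h * a * h⁻¹ * a⁻¹ ∈ ZC z) : h ∈ O2C z := by
  obtain ⟨v, hv, v1, -⟩ := exists_third H.cardV 1
  obtain ⟨cd, ρ, F, hρ⟩ := H.fr hv v1
  have e1 := (F.toFz.triv hz).mpr e
  obtain ⟨d, a, dz, pd, az, av, rfl⟩ := H.split hv v1 hz
  rw [F.toFz.ρ_mul dz az, mul_eq_one_iff_eq_inv] at e1
  have e2 : ρ d = 1 := eq_one_of_comm_TL (by rw [e1, hρ a az av]; exact inv_mem (H.mem a az))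
    fun g hg => by
      obtain ⟨y, hy, rfl⟩ := F.onto g (TL_mem_XM hg)
      exact H.ρ_cm F.toFz dz pd hy
  have nc : ρ c ≠ 1 := fun h =>
    absurd (H.fpf F.toFz (s := 1) (by omega) (by rw [h, app_one (by omega)])) one_ne_zero
  refine mul_mem ?_ (H.kerJ hv v1 az av (by rw [← hρ a az av, ← inv_eq_one, ← e1, e2]))
  rcases (H.ker d dz).mp pd with h | h | h
  · exact h
  · have := F.toFz.ρ_of_mem h
    rw [F.toFz.ρ_mul dz (cm_inv H.cz), e2, one_mul, F.toFz.ρ_inv H.cz, inv_eq_one] at this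
    exact absurd this nc
  · have := F.toFz.ρ_of_mem h
    rw [F.toFz.ρ_mul dz H.cz, e2, one_mul] at this
    exact absurd this nc

theorem nf : NF z := fun g hg => by
  by_contra ne
  obtain ⟨v, hv, v1, hx⟩ : ∃ v ∈ H.V, v ≠ 1 ∧ ∀ a, a * z = z * a → a * v = v * a →
      a * (g * z * g⁻¹) = g * z * g⁻¹ * a := by
    rcases H.Zd hg with h | h
    · exact ⟨_, h, (H.toPX.conj g).ne, fun _ _ h => h⟩
    · exact ⟨_, h, fun e => ne (by rw [eq_inv_of_mul_eq_one_left e, H.toPX.z_inv]), fun a h1 h2 =>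
        H.toPX.mul_z_z (g * z * g⁻¹) ▸ (cm_mul h2.symm h1.symm).symm⟩
  obtain ⟨S, hS⟩ := exists_isSyl 2 (Subgroup.centralizer ({z} : Set G))
  obtain ⟨u, hu, u1, e⟩ := exists_fix4 hS.isPGroup H.cardV fun t ht _ =>
    H.Vn (Subgroup.mem_centralizer_singleton_iff.mp (hS.le ht))
  obtain ⟨d, dz, -, rfl⟩ := H.tri hu u1 hv v1
  have h1 := hS.cj_of_mem (Subgroup.mem_centralizer_singleton_iff.mpr dz)
  have h2 : ∀ s ∈ cj d S, s * z = z * s := fun s hs =>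
    Subgroup.mem_centralizer_singleton_iff.mp (h1.le hs)
  have h3 : ∀ s ∈ cj d S, s * (g * z * g⁻¹) = g * z * g⁻¹ * s := fun s hs => hx s (h2 s hs) (by
    obtain ⟨s, hs, rfl⟩ := hs
    exact comm_conj'' (e s hs))
  have h4 := (hS.cj g).of_card_ge h1.isPGroup (fun s hs => mem_cj.mpr
    (Subgroup.mem_centralizer_singleton_iff.mpr (comm_conj' (h3 s hs)))) (by
      rw [Subgroup.card_map_of_injective (MulAut.conj g).injective,
        Subgroup.card_map_of_injective (MulAut.conj d).injective])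
  have h5 := h4.le_of_le_normalizer (Q := O2C (g * z * g⁻¹)) isP_O (fun s hs => mem_cj.mpr
    (Subgroup.mem_centralizer_singleton_iff.mpr (comm_conj' (cmO hs))))
    fun s hs => mem_normalizer_of_conj_mem fun _ => normO (h3 s hs)
  obtain ⟨cd, ρ, F, hρ⟩ := H.fr hv v1
  have h6 : ∀ k ∈ O2C (g * z * g⁻¹), k * z = z * k := fun k hk => h2 k (h5 hk)
  have h7 : ∀ k ∈ O2C (g * z * g⁻¹), k * (d * u * d⁻¹) = d * u * d⁻¹ * k := fun k hk => by
    obtain ⟨s, hs, rfl⟩ := h5 hk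
    exact comm_conj'' (e s hs)
  obtain ⟨a, ha, e1⟩ := F.surj 1 (by omega)
  have h8 := conj_mem_O2C (g := g) ha
  have := H.sq _ (H.kerJ hv v1 (h6 _ h8) (h7 _ h8) (hρ _ (h6 _ h8) (h7 _ h8) ▸ F.two h6
    (fun k hk => hρ k (h6 k hk) (h7 k hk) ▸ H.mem k (h6 k hk)) isP_O
    (fun y hy _ => normO (cmY hy hg)) h8))
  rw [conj_mul, F.toFz.sq_eq_z ha (by rw [e1]; decide +kernel)] at this
  exact this.elim (H.toPX.conj g).ne ne

theorem w8 : W8 z H.V where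
  nf := H.nf
  VZ := H.VZ
  zV := H.zV
  Zd := fun _ => H.Zd
  Vn := fun _ hz _ => H.Vn hz
  card := H.cardV
  trans := fun v hv v1 w hw w1 => (H.tri hv v1 hw w1).imp fun _ h => ⟨h.1, h.2.2⟩
  fr := fun v hv v1 => by
    obtain ⟨cd, ρ, F, e⟩ := H.fr hv v1
    obtain ⟨t, tz, tv, e1⟩ := H.onto0 hv v1 σ_mem
    exact ⟨cd, ρ, F, fun y hy => e y (cmYz hy) (cmY hy hv.1) ▸ H.YX hy,
      fun a h1 h2 => e a h1 h2 ▸ H.mem a h1, t, tz, tv, (e t tz tv).trans e1⟩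
  faith := fun _ => H.faith

end H8
end H39.Fi
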