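import Cfsg.Agent.H39.FiH
/-! The characterization of `Fi₂₃` by a 2-central involution. -/
set_option autoImplicit false
set_option linter.unusedSectionVars false
set_option maxRecDepth 100000
namespace H39.Fi
open H71 H78 H59.U6 Cfsg H98

section
variable {H : Type*} [Group H] [Finite H] {J : Subgroup H} [J.Normal] {z c : H}
  (hJ : IsPGroup 2 J) (zJ : z ∈ J) (z2 : z * z = 1) (zc : ∀ h, h * z = z * h)
  (c3 : c * c * c = 1) {φ : Subgroup.centralizer ({c} : Set H) →* MG} (hr : φ.range = XM)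
  (hk : ∀ a, φ a = 1 ↔ (a : H) ∈ Subgroup.zpowers c ⊔ Subgroup.zpowers z)
include hJ zJ z2 zc c3 hr hk

theorem cJ_aux {j : H} (hj : j ∈ J) (e : j * c = c * j) : j = 1 ∨ j = z := by
  have : (Subgroup.zpowers z).Normal := ⟨fun n hn g => by
    rcases (mem_zpowers_invol z2 n).mp hn with rfl | rfl
    · simp
    · rwa [conj_eq_of_cm (zc g)]⟩
  obtain ⟨a, ha, b, hb, rfl⟩ := Subgroup.mem_sup_of_normal_right.mp ((hk
    ⟨j, Subgroup.mem_centralizer_singleton_iff.mpr e⟩).mp (eq_one_of_two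
      (K := (J.subgroupOf _).map φ) ((Subgroup.map_le_range _ _).trans (hr ▸ XM_le_WM)) (by
        rintro _ ⟨k, hk, rfl⟩
        obtain ⟨n, e⟩ := isPGroup_iff_forall.mp hJ k hk
        exact ⟨n, by rw [← map_pow, show k ^ 2 ^ n = 1 from Subtype.ext e, map_one]⟩) (by
        rintro g hg _ ⟨k, hk, rfl⟩
        obtain ⟨a, rfl⟩ := hr.ge hg
        exact ⟨a * k * a⁻¹, Subgroup.Normal.conj_mem ‹J.Normal› k hk a, by simp⟩) ⟨_, hj, rfl⟩))
  have : Fact (Nat.Prime 3) := ⟨by norm_num⟩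
  rw [Subgroup.disjoint_def.mp (IsPGroup.disjoint_of_ne 3 2 (by omega) _ _
    (isPGroup_zpowers (k := 1) (by rw [pow_one, pow_three', c3])) hJ) ha
    ((mul_mem_cancel_right (Subgroup.zpowers_le.mpr zJ hb)).mp hj), one_mul]
  exact (mem_zpowers_invol z2 b).mp hb

omit hJ z2 zc c3 in
theorem cX_aux {π : H →* MG} (hW : ∀ a, π a ∈ WM) (hπ : ∀ a ∈ J ⊔ Subgroup.zpowers c, π a = 1)
    {h : H} (e : h * c = c * h) : π h ∈ XM := by
  have mh := Subgroup.mem_centralizer_singleton_iff.mpr e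
  obtain ⟨d, hd, e1⟩ := XM_le_of_sq (K := ((XM.comap π).subgroupOf _).map φ) (fun g hg => by
    obtain ⟨a, rfl⟩ := hr.ge hg
    refine ⟨a * a, ?_, map_mul _ _ _⟩
    show π (a * a) ∈ XM
    rw [map_mul]
    rcases mul_mem_XM (hW a) (hW a) with h | h | h
    exacts [mul_mem h h, mul_mem h h, h]) (hr.le ⟨⟨h, mh⟩, rfl⟩)
  have := hπ _ (sup_le le_sup_right ((Subgroup.zpowers_le.mpr zJ).trans le_sup_left)
    ((hk (d⁻¹ * ⟨h, mh⟩)).mp (by rw [map_mul, map_inv, e1, inv_mul_cancel])))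
  rw [Subgroup.coe_mul, Subgroup.coe_inv, map_mul, map_inv, inv_mul_eq_one] at this
  exact this ▸ hd

end

theorem dp_aux {H : Type*} [Group H] [Finite H] {V E J : Subgroup H} {y : H}
    (h : IsInternalDirectProduct V E J) (X : XS E y) (hV2 : ∀ v ∈ V, v * v = 1) :
    (∀ a ∈ J, ∃ v ∈ V, ∃ e ∈ E, a = v * e) ∧ Nat.card J = Nat.card V * Nat.card E ∧
    (∀ a ∈ J, a * a = 1 ∨ a * a = y) ∧ (∃ a ∈ J, a * a = y) ∧
    ∀ a ∈ J, (∀ b ∈ J, b * a = a * b) ↔ a ∈ V ∨ a * y ∈ V := by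
  obtain ⟨h1, h2, h3, h4, h5⟩ := h
  have hf := (MonoidHom.noncommCoprod_injective V.subtype E.subtype fun a b => h3 a a.2 b b.2).mpr
    ⟨V.subtype_injective, E.subtype_injective, by simpa [disjoint_iff] using h4⟩
  have hr := MonoidHom.noncommCoprod_range V.subtype E.subtype fun a b => h3 a a.2 b b.2
  rw [Subgroup.range_subtype, Subgroup.range_subtype, h5] at hr
  have k1 : ∀ a ∈ J, ∃ v ∈ V, ∃ e ∈ E, a = v * e := fun a ha => by
    obtain ⟨⟨v, e⟩, rfl⟩ := hr.ge ha
    exact ⟨v, v.2, e, e.2, rfl⟩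
  have k2 : ∀ v ∈ V, ∀ b ∈ J, b * v = v * b := fun v hv b hb => by
    obtain ⟨w, hw, e, he, rfl⟩ := k1 b hb
    exact cm_mul (comm_of_sq3 (hV2 w hw) (hV2 v hv) (hV2 _ (mul_mem hw hv))) (h3 v hv e he).symm
  refine ⟨k1, by rw [← hr, ← Nat.card_congr (MonoidHom.ofInjective hf).toEquiv, Nat.card_prod],
    fun a ha => ?_, ?_, fun a ha => ⟨fun h => ?_, fun h b hb => h.elim (k2 a · b hb) fun h => ?_⟩⟩
  · obtain ⟨v, hv, e, he, rfl⟩ := k1 a ha
    rw [mul_assoc, ← mul_assoc e, ← h3 v hv e he, ← mul_assoc, ← mul_assoc, hV2 v hv, one_mul]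
    exact X.sq e he
  · obtain ⟨a, ha, b, hb, e⟩ := X.nonab
    by_contra hn
    have : ∀ a ∈ E, a * a = 1 := fun a ha => (X.sq a ha).resolve_right fun e => hn ⟨a, h2 ha, e⟩
    exact e (comm_of_sq3 (this a ha) (this b hb) (this _ (mul_mem ha hb)))
  · obtain ⟨v, hv, e, he, rfl⟩ := k1 a ha
    rcases X.center e he (fun b hb => by
      have := h b (h2 hb)
      rw [← mul_assoc, ← h3 v hv b hb, mul_assoc, mul_assoc, mul_right_inj] at this
      exact this.symm) with rfl | rfl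
    · exact Or.inl (by rwa [mul_one])
    · exact Or.inr (by rwa [mul_assoc, X.z_sq, mul_one])
  · have := k2 _ h _ hb
    obtain ⟨w, hw, e, he, rfl⟩ := k1 b hb
    rwa [mul_assoc a, ← cm_mul (h3 w hw y X.z_mem) (X.z_comm e he).symm, ← mul_assoc,
      ← mul_assoc a, mul_left_inj] at this

theorem fi23.{u} (S : Spec.{u}) {G : Type u} [Group G] [Finite G] (z : G) (hz : orderOf z = 2)
    {F : Type*} [Field F] [Fintype F] (hF : Fintype.card F = 3) {K : Type*} [Field K] [Fintype K]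
    (hK : Fintype.card K = 4) (V E : Subgroup ↥(Subgroup.centralizer ({z} : Set G)))
    (hVE : IsInternalDirectProduct V E (pCore 2 ↥(Subgroup.centralizer ({z} : Set G))))
    (hV : Nat.card ↥V = 4) (hV2 : ∀ v ∈ V, v ^ 2 = 1)
    (hE : IsExtraspecial 2 ↥E) (hEc : Nat.card ↥E = 2 ^ 9)
    (hCJ : Subgroup.centralizer ((pCore 2 ↥(Subgroup.centralizer ({z} : Set G))) :
      Set ↥(Subgroup.centralizer ({z} : Set G))) ≤ pCore 2 ↥(Subgroup.centralizer ({z} : Set G)))
    (zc c : ↥(Subgroup.centralizer ({z} : Set G))) (hzc : (zc : G) = z) (hc : orderOf c = 3)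
    [(pCore 2 ↥(Subgroup.centralizer ({z} : Set G)) ⊔ Subgroup.zpowers c).Normal]
    (e : (↥(Subgroup.centralizer ({z} : Set G)) ⧸ (pCore 2 ↥(Subgroup.centralizer ({z} : Set G)) ⊔
      Subgroup.zpowers c)) ≃* MulAut (PSp 2 F))
    [((Subgroup.zpowers c ⊔ Subgroup.zpowers zc).subgroupOf (Subgroup.centralizer
      ({c} : Set ↥(Subgroup.centralizer ({z} : Set G))))).Normal]
    (e' : (↥(Subgroup.centralizer ({c} : Set ↥(Subgroup.centralizer ({z} : Set G)))) ⧸
      (Subgroup.zpowers c ⊔ Subgroup.zpowers zc).subgroupOf (Subgroup.centralizer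
        ({c} : Set ↥(Subgroup.centralizer ({z} : Set G))))) ≃* PSp 2 F) :
    Subgroup.centralizer ({z} : Set G) ⊔ oddCore G = ⊤ ∨ Spor.IsoFi23 G ∨
      (∃ (W : Subgroup G) (_ : W.Normal), Nat.card ↥W = 4 ∧ (∀ w ∈ W, w ^ 2 = 1) ∧
        Nonempty ((G ⧸ W) ≃* MulAut (PSU 6 K 2))) := by
  classical
  have m := @Subgroup.mem_centralizer_singleton_iff G _ z
  have mO := @mem_O2C_iff G _ z
  obtain ⟨eA⟩ := exists_equivA hF
  obtain ⟨eF⟩ := exists_equivF hF
  let π := WM.subtype.comp ((e.trans eA).toMonoidHom.comp (QuotientGroup.mk' _))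
  let φ := XM.subtype.comp ((e'.trans eF).toMonoidHom.comp (QuotientGroup.mk' _))
  have πk : ∀ a, π a = 1 ↔ a ∈ pCore 2 _ ⊔ Subgroup.zpowers c := fun a => by
    rw [← QuotientGroup.eq_one_iff, ← (e.trans eA).map_eq_one_iff, Subtype.ext_iff]; rfl
  have φk : ∀ a, φ a = 1 ↔ a.1 ∈ Subgroup.zpowers c ⊔ Subgroup.zpowers zc := fun a => by
    rw [← Subgroup.mem_subgroupOf, ← QuotientGroup.eq_one_iff, ← (e'.trans eF).map_eq_one_iff,
      Subtype.ext_iff]; rfl
  have φr : φ.range = XM := by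
    rw [MonoidHom.range_comp, MonoidHom.range_eq_top.mpr
      ((e'.trans eF).surjective.comp (QuotientGroup.mk'_surjective _)), ← MonoidHom.range_eq_map,
      Subgroup.range_subtype]
  have z2 : z * z = 1 := by rw [← pow_two, ← hz, pow_orderOf_eq_one]
  have c3 : c * c * c = 1 := by rw [← pow_three', ← hc, pow_orderOf_eq_one]
  have zcm : ∀ h, h * zc = zc * h := fun h => Subtype.ext (by simpa [hzc] using m.mp h.2)
  have zJ := hCJ fun h _ => zcm h
  have hJ := isPGroup_pCore 2 (Subgroup.centralizer ({z} : Set G))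
  have cJ := fun j => @cJ_aux _ _ _ _ _ _ _ hJ zJ (Subtype.ext (by simpa [hzc] using z2)) zcm c3
    φ φr φk j
  obtain ⟨y, X⟩ := exists_XS hE
  obtain ⟨k1, k2, k3, ⟨a, ha, k4⟩, k5⟩ := dp_aux hVE X fun v hv => pow_two v ▸ hV2 v hv
  have k6 := k3 _ (Subgroup.Normal.conj_mem inferInstance a ha c)
  rw [conj_mul, k4] at k6
  obtain rfl : y = zc := (cJ y (hVE.2.1 X.z_mem) (mul_inv_eq_iff_eq_mul.mp
    (k6.resolve_left (by simpa using X.z_ne))).symm).resolve_left X.z_ne
  have kZ : ∀ a : Subgroup.centralizer ({z} : Set G), (a : G) ∈ ZC z ↔ a ∈ V ∨ a * y ∈ V :=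
    fun a => ⟨fun h => (k5 a (hCJ fun b hb => Subtype.ext (h b ((mO b).mpr hb)))).mp
      fun b hb => Subtype.ext (h b ((mO b).mpr hb)), fun h => by
      rintro _ ⟨b, hb, rfl⟩
      exact congrArg Subtype.val ((k5 a (h.elim (hVE.1 ·) fun h =>
        (mul_mem_cancel_right zJ).mp (hVE.1 h))).mpr h b hb)⟩
  have ZH : ZC z ≤ Subgroup.centralizer ({z} : Set G) := fun a ha =>
    m.mpr (ha z ⟨y, zJ, hzc⟩).symm
  have c8 : Nat.card (ZC z) = 8 := by
    rw [← Nat.card_congr (Subgroup.subgroupOfEquivOfLe ZH).toEquiv, card_half (A := V) (z := y)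
      (B := (ZC z).subgroupOf _) (fun a ha => (kZ a).mpr (Or.inl ha))
      ((kZ y).mpr (Or.inr (X.z_sq ▸ one_mem V)))
      (fun h => X.z_ne (Subgroup.mem_bot.mp (hVE.2.2.2.1 ▸ ⟨h, X.z_mem⟩))) fun a => (kZ a).mp, hV]
  let p : G → MG := fun a => if h : a ∈ Subgroup.centralizer ({z} : Set G) then π ⟨a, h⟩ else 1
  have hp : ∀ a (h : a * z = z * a), p a = π ⟨a, m.mpr h⟩ := fun a h => dif_pos _
  have H : H8 z c p :=
    { ne := fun h => by simp [h] at hz
      le := fun a ha => (mO ⟨a, ZH ha⟩).mpr (hCJ fun b hb => Subtype.ext (ha b ((mO b).mpr hb)))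
      zsq := fun a ha => by
        rcases (kZ ⟨a, ZH ha⟩).mp ha with h | h
        · exact pow_two a ▸ congrArg Subtype.val (hV2 _ h)
        · have := congrArg Subtype.val (hV2 _ h)
          rwa [Subgroup.coe_pow, Subgroup.coe_mul, hzc, Commute.mul_pow (m.mp (ZH ha)), pow_two z,
            z2, mul_one, pow_two] at this
      sq := by
        rintro _ ⟨a, ha, rfl⟩
        exact (k3 a ha).imp (congrArg Subtype.val) fun h => (congrArg Subtype.val h).trans hzc
      card := by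
        rw [Subgroup.card_map_of_injective (Subgroup.subtype_injective _), k2, hV, hEc, c8]; rfl
      c8 := c8
      cz := m.mp c.2
      c3 := congrArg Subtype.val c3
      mul := fun a ha b hb => by rw [hp a ha, hp b hb, hp _ (cm_mul ha hb), ← map_mul]; rfl
      mem := fun a ha => by rw [hp a ha]; exact Subtype.property _
      onto := fun g hg => by
        obtain ⟨a, e⟩ := ((e.trans eA).surjective.comp (QuotientGroup.mk'_surjective _)) ⟨g, hg⟩
        exact ⟨a, m.mp a.2, (hp a (m.mp a.2)).trans (congrArg Subtype.val e)⟩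
      ker := fun a ha => by
        rw [hp a ha, πk]
        have hc := Subgroup.mem_sup_right (S := pCore 2 _) (Subgroup.mem_zpowers c)
        refine ⟨fun h => ?_, ?_⟩
        · obtain ⟨j, hj, k, hk, e⟩ := Subgroup.mem_sup_of_normal_left.mp h
          obtain rfl : (j : G) * k = a := congrArg Subtype.val e
          rcases mem_zp3 c3 hk with rfl | rfl | rfl <;> simp [mO, hj]
        · rintro (h | h | h)
          · exact Subgroup.mem_sup_left ((mO _).mp h)
          · exact (mul_mem_cancel_right (inv_mem hc)).mp (Subgroup.mem_sup_left ((mO _).mp h))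
          · exact (mul_mem_cancel_right hc).mp (Subgroup.mem_sup_left ((mO _).mp h))
      cJ := by
        rintro _ ⟨j, hj, rfl⟩ h
        exact (cJ j hj (Subtype.ext h.symm)).imp (congrArg Subtype.val)
          fun h => (congrArg Subtype.val h).trans hzc
      cX := fun h hz e => by
        rw [hp h hz]
        exact cX_aux zJ φr φk (fun a => Subtype.property _) (fun a => (πk a).mpr) (Subtype.ext e) }
  exact (H.w8.main S hK).imp_right (Or.imp_right fun ⟨h1, h2⟩ =>
    ⟨H.V, h1, H.cardV, fun w hw => pow_two w ▸ H.w8.sq hw, h2⟩)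

end H39.Fi
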