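import Cfsg.Agent.H73.GSSpec

/-! S3275, chapter C4, part II, slot G2. -/

set_option autoImplicit false

namespace H39.GsG2

open Subgroup Cfsg H98 H48.DP H57.DPC H48.DP2 H98.DP0C H73.GS
open scoped commutatorElement

universe u

theorem no_bar {G X : Type u} [Group G] [Group X] {H S : Subgroup G} (π : H →* X) {g : G}
    (hg : g ∈ H) (h : g ∈ No S) : π ⟨g, hg⟩ ∈ No (bar π S) :=
  map_le_normalizer_map π (comap_le_normalizer_comap H.subtype le_rfl) ⟨⟨g, hg⟩, h, rfl⟩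

theorem no_pre {G X : Type u} [Group G] [Group X] {H : Subgroup G} (π : H →* X) {A : Subgroup X}
    {g : G} (hg : g ∈ H) (h : π ⟨g, hg⟩ ∈ No A) : g ∈ No ((A.comap π).map H.subtype) :=
  map_le_normalizer_map H.subtype (comap_le_normalizer_comap π le_rfl) ⟨⟨g, hg⟩, h, rfl⟩

theorem jobG2 : JobG2.{u} := fun tx s2 G _ _ M Q Y T y x u s h d out T2 yT YT hq => by
  have : Fact (Nat.Prime 2) := ⟨Nat.prime_two⟩
  have : Fact (Nat.Prime 3) := ⟨Nat.prime_three⟩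
  obtain ⟨yY, xY, sY, -⟩ := d.xx
  have sT : s ∈ T := YT (mem_sup_right (mem_zpowers s))
  replace hq : (⨆ q : T, cj (q : G) ⁅Y, zpowers x⁆) ≤ Y := iSup_le fun q => hq q q.2
  have hI : ∀ q ∈ T, cj q ⁅Y, zpowers x⁆ ≤ ⨆ q : T, cj (q : G) ⁅Y, zpowers x⁆ := fun q hq =>
    le_iSup (fun q : T => cj (q : G) ⁅Y, zpowers x⁆) ⟨q, hq⟩
  have h1 := (cj_one _).ge.trans (hI 1 (one_mem T))
  have nI : ∀ g ∈ No T, (g ∈ T ∨ g ∈ No ⁅Y, zpowers x⁆) →
      g ∈ No (⨆ q : T, cj (q : G) ⁅Y, zpowers x⁆) := by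
    refine fun g hg h2 => mem_normalizer_of_cj_le (cj_le_iff.2 (iSup_le fun q => cj_le_iff.1 ?_))
    rw [cj_cj]
    rcases h2 with h2 | h2
    · exact hI _ (mul_mem h2 q.2)
    · rw [show g * q = g * q * g⁻¹ * g by group, ← cj_cj, cj_eq_self h2]
      exact hI _ (conj_mem_of_mem_normalizer hg q.2)
  have yI : y ∈ No ⁅Y, zpowers x⁆ := le_normalizer_commutator (H := zpowers y) (zpowers_le.2 yY)
    (le_normalizer_of_le_centralizer (by
      rintro _ ⟨i, rfl⟩ _ ⟨j, rfl⟩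
      exact (d.yx.zpow_zpow i j).symm.eq)) (mem_zpowers y)
  have TH := fun t ht => nI t (le_normalizer ht) (.inl ht)
  have yH := nI y yT (.inr yI)
  have xH : x ∈ No (⨆ q : T, cj (q : G) ⁅Y, zpowers x⁆) :=
    le_normalizer_of_commutator_le (A := Y) h1 hq (mem_zpowers x)
  generalize (⨆ q : T, cj (q : G) ⁅Y, zpowers x⁆) = I at hq h1 TH yH xH
  have YT' : Y ≤ T := le_sup_left.trans YT
  have I2 : IsPGroup 2 I := T2.to_le (hq.trans YT')
  have IO : I ≤ O2 (No I) := le_pCoreOf I2 le_normalizer le_rfl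
  have OM : ¬ O2 (No I) ≤ M := fun e => out (h1.trans (IO.trans e))
  have hH : No I ≠ ⊤ := no_ne_top h.toHyp I2 fun e => out (h1.trans (e.le.trans bot_le))
  generalize No I = H at TH yH xH IO OM hH
  have nO := self_le_normalizer_pCoreOf (p := 2) H
  have nS : ∀ g ∈ H, g ∈ No Y → g ∈ No (O2 H ⊔ Y) := fun g h1 h2 =>
    le_normalizer_sup (H := zpowers g) (zpowers_le.2 (nO h1)) (zpowers_le.2 h2) (mem_zpowers g)
  have OY : O2 H ≤ Y := le_sup_left.trans (d.mx _ ⟨nS y yH yY, nS x xH xY, nS s (TH s sT) sY,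
    (IsPGroup.to_sup_of_normal_left' (isPGroup_pCoreOf H) T2 fun t ht => nO (TH t ht)).to_le
      (by rw [sup_assoc]; exact sup_le_sup_left YT _)⟩ le_sup_right).le
  obtain ⟨N, _, pj⟩ := exists_pj H
  generalize QuotientGroup.mk' N = π at pj
  have k2 : IsPGroup 2 π.ker := pj.ker ▸ isPGroup_subgroupOf (isPGroup_pCoreOf H) H
  have T2' : IsPGroup 2 (bar π T) := (isPGroup_subgroupOf T2 H).map π
  have le1 : ∀ S : Subgroup G, Y ⊔ zpowers s ≤ S → bar π Y ⊔ zpowers (π ⟨s, TH s sT⟩) ≤ bar π S :=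
    fun S hS => sup_le (map_mono (comap_mono (le_sup_left.trans hS)))
      (zpowers_le.2 ⟨_, hS (mem_sup_right (mem_zpowers s)), rfl⟩)
  have key := s2 _ (bar π Y) (bar π T) (π ⟨y, yH⟩) (π ⟨x, xH⟩) (π ⟨s, TH s sT⟩)
    (tx G _ M Q H π y x u xH ⊥ h hH (fun e => OM ((pCoreOf_le H).trans e)) pj fun e => (OM e).elim)
    ⟨⟨no_bar π _ yY, no_bar π _ xY, no_bar π _ sY, T2'.to_le (le1 T YT)⟩, ?_, ?_, ?_, ?_, ?_⟩ ?_ T2'
    (no_bar π _ yT) (le1 T YT)
  · intro t ht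
    obtain ⟨w, hw, e⟩ := le1 _ le_rfl (key ⟨⟨t, TH t ht⟩, ht, rfl⟩)
    have : w⁻¹ * ⟨t, TH t ht⟩ ∈ π.ker := by rw [MonoidHom.mem_ker, map_mul, map_inv, e, inv_mul_cancel]
    rw [pj.ker] at this
    exact (mul_mem_cancel_left (inv_mem hw)).1 (mem_sup_left (OY this))
  · refine orderOf_eq_prime ?_ fun e => ?_
    · rw [← map_pow, show (⟨y, yH⟩ : H) ^ 3 = 1 from Subtype.ext (d.y3 ▸ pow_orderOf_eq_one y), map_one]
    · obtain ⟨k, hk⟩ := isPGroup_iff_forall.1 (isPGroup_pCoreOf (p := 2) H) y (pj.ker.le e)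
      have := orderOf_dvd_of_pow_eq_one hk
      rw [d.y3] at this
      exact absurd (Nat.prime_three.dvd_of_dvd_pow this) (by norm_num)
  · exact Commute.map (Subtype.ext d.yx : Commute (⟨y, yH⟩ : H) ⟨x, xH⟩) π
  · rw [← map_inv, ← map_inv, ← map_mul, ← map_mul]
    exact congrArg π (Subtype.ext d.sx)
  · exact Commute.map (Subtype.ext d.sy : Commute (⟨s, TH s sT⟩ : H) ⟨y, yH⟩) π
  · rintro A ⟨a1, a2, a3, a4⟩ hA
    have e := d.mx _ ⟨no_pre π _ a1, no_pre π _ a2, no_pre π _ a3,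
      ((a4.comap_of_ker_isPGroup π k2).map H.subtype).to_le (sup_le
        (map_mono (comap_mono le_sup_left))
        (zpowers_le.2 ⟨⟨s, TH s sT⟩, mem_sup_right (mem_zpowers _), rfl⟩))⟩
      fun a ha => ⟨⟨a, TH a (YT' ha)⟩, hA ⟨_, ha, rfl⟩, rfl⟩
    refine le_antisymm (fun a ha => ?_) hA
    obtain ⟨b, rfl⟩ := pj.surj a
    exact ⟨b, e.le ⟨b, ha, rfl⟩, rfl⟩
  · rintro _ ⟨a, ha, rfl⟩
    rw [mem_centralizer_singleton_iff, ← commutatorElement_eq_one_iff_mul_comm,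
      ← map_commutatorElement]
    exact pj.ker.ge (IO (h1 (commutator_mem_commutator ha (mem_zpowers x))))

end H39.GsG2
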