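import Cfsg.Agent.H63.KgvSpec

/-! # Tower KGV: slot JH3 (trace identities) -/

set_option autoImplicit false

namespace H39.KgvH3

open Finset H63.Kgv

theorem sum_shift {K : Type} [Field K] (p d : ℕ) (u : K) (h : u ^ p ^ (d * 2) = u) :
    ∑ i ∈ range (d * 2), (u ^ p ^ d) ^ p ^ i = ∑ i ∈ range (d * 2), u ^ p ^ i := by
  rw [mul_two] at h ⊢
  rw [sum_range_add, sum_range_add, add_comm]
  congr 1
  · refine sum_congr rfl fun i _ => ?_
    rw [← pow_mul, ← pow_add, ← add_assoc, pow_add, pow_mul, h]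
  · refine sum_congr rfl fun i _ => ?_
    rw [← pow_mul, ← pow_add]

theorem sum_two {K : Type} [Field K] (p d : ℕ) (v : K) (h : v ^ p ^ d = v) :
    ∑ i ∈ range (d * 2), v ^ p ^ i = 2 * ∑ i ∈ range d, v ^ p ^ i := by
  rw [mul_two, sum_range_add, two_mul]
  congr 1
  refine sum_congr rfl fun i _ => ?_
  rw [pow_add, pow_mul, h]

theorem sum_fix {K : Type} [Field K] (p : ℕ) [Fact p.Prime] [CharP K p] (d : ℕ) (v : K)
    (h : v ^ p ^ d = v) : (∑ i ∈ range d, v ^ p ^ i) ^ p = ∑ i ∈ range d, v ^ p ^ i := by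
  rw [sum_pow_char]
  have h1 := sum_range_succ (fun i => v ^ p ^ i) d
  rw [sum_range_succ'] at h1
  simp only [pow_zero, pow_one, h] at h1
  rw [← add_right_cancel h1]
  refine sum_congr rfl fun i _ => ?_
  rw [← pow_mul, ← pow_succ]

theorem job : JH3 := by
  intro p hp M K _ _ _ g θ s
  have hp1 : 1 < p := hp.out.one_lt
  have hinj : Function.Injective (algebraMap (ZMod p) K) := (algebraMap (ZMod p) K).injective
  have : CharP K p := charP_of_injective_algebraMap hinj p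
  have hg : g ^ (p ^ M - 1) = 1 := by
    classical
    rw [← s.card, ← Fintype.card_units]
    exact pow_card_eq_one
  have key : ∀ D : ℕ, D ∣ M → ∀ j : ℕ,
      ((g ^ ((p ^ M - 1) / (p ^ D - 1) * j) : Kˣ) : K) ^ p ^ D =
        ((g ^ ((p ^ M - 1) / (p ^ D - 1) * j) : Kˣ) : K) := by
    intro D hD j
    have h1 : (g ^ ((p ^ M - 1) / (p ^ D - 1) * j)) ^ (p ^ D - 1) = 1 := by
      rw [← pow_mul, mul_right_comm, Nat.div_mul_cancel (Nat.pow_sub_one_dvd_pow_sub_one p hD),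
        pow_mul, hg, one_pow]
    have h2 : p ^ D = p ^ D - 1 + 1 := (Nat.sub_add_cancel (Nat.one_le_pow _ _ hp.out.pos)).symm
    rw [← Units.val_pow_eq_pow_val]
    congr 1
    conv_lhs => rw [h2, pow_succ]
    rw [← h2, h1, one_mul]
  refine ⟨fun d j hd => ?_, fun d i hd => ?_⟩
  · have h1 : (g ^ ((p ^ M - 1) / (p ^ (d * 2) - 1))) ^ (p ^ (d * 2) - 1) = 1 := by
      rw [← pow_mul, Nat.div_mul_cancel (Nat.pow_sub_one_dvd_pow_sub_one p hd), hg]
    have h2 : g ^ ((p ^ M - 1) / (p ^ (d * 2) - 1) * (p ^ d * j % (p ^ (d * 2) - 1))) =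
        (g ^ ((p ^ M - 1) / (p ^ (d * 2) - 1) * j)) ^ p ^ d := by
      rw [pow_mul, ← pow_eq_pow_mod _ h1, pow_mul g, ← pow_mul _ j, mul_comm j]
    unfold tr
    rw [h2, Units.val_pow_eq_pow_val, sum_shift p d _ (key _ hd j)]
  · have hd0 : 0 < d := Nat.pos_of_ne_zero fun e => by
      rw [e, zero_mul, zero_dvd_iff] at hd
      exact s.pos.ne' hd
    have hpd : 1 < p ^ d := Nat.one_lt_pow hd0.ne' hp1
    have h1 : (p ^ M - 1) / (p ^ (d * 2) - 1) * (p ^ d + 1) = (p ^ M - 1) / (p ^ d - 1) := by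
      have e : p ^ (d * 2) - 1 = (p ^ d + 1) * (p ^ d - 1) := by
        rw [pow_mul, ← Nat.sq_sub_sq, one_pow]
      refine (Nat.div_eq_of_eq_mul_left (by omega) ?_).symm
      rw [mul_assoc, ← e, Nat.div_mul_cancel (Nat.pow_sub_one_dvd_pow_sub_one p hd)]
    have hk := key d (Dvd.dvd.trans (Dvd.intro 2 rfl) hd) i
    unfold tr
    rw [← mul_assoc, h1, sum_two p d _ hk]
    obtain ⟨n, hn⟩ := (mem_bot_iff_intCast p K).1
      ((Subfield.mem_bot_iff_pow_eq_self K p).2 (sum_fix p d _ hk))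
    have e1 : (n : K) = algebraMap (ZMod p) K (n : ZMod p) := (map_intCast _ n).symm
    have e2 : (2 : K) * algebraMap (ZMod p) K (n : ZMod p) = algebraMap (ZMod p) K (2 * (n : ZMod p)) := by
      rw [map_mul, map_ofNat]
    rw [← hn, e1, e2, Function.leftInverse_invFun hinj, Function.leftInverse_invFun hinj]

end H39.KgvH3
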