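import Cfsg.Agent.H89.ON2Spec
import Cfsg.Agent.S0215
import Cfsg.Agent.H14.PElem
import Cfsg.Agent.H14.Quasi
import Cfsg.Agent.H98.Core

/-! Tower ON2, slot Kev: even two-point stabilisers. -/

set_option autoImplicit false
set_option linter.unusedSectionVars false

namespace H39.ON

open MulAction Cfsg Subgroup H89.K H98 H89.ON2
open scoped commutatorElement

universe u

section Gen

variable {G : Type*} [Group G] [Finite G]

theorem zstar {P Y : Subgroup G} {w : G} (hP : IsSyl 2 P Y) (hw : w ∈ P) (h2 : w * w = 1)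
    (h : ∀ g ∈ Y, g * w * g⁻¹ ∈ P → g * w * g⁻¹ = w) :
    ∃ N : Subgroup G, Y ≤ normalizer (N : Set G) ∧ Odd (Nat.card N) ∧ ∀ g ∈ Y, ⁅w, g⁆ ∈ N := by
  by_cases h1 : w = 1
  · exact ⟨⊥, fun g _ => mem_normalizer_iff.2 fun x => by simp [mul_inv_eq_one], by simp,
      fun g _ => by simp [h1]⟩
  obtain ⟨Q, hQ⟩ := hP.exists_sylow
  obtain ⟨N, hN, o, e⟩ := Cfsg.Agent.S0215.result Q ⟨w, hP.le hw⟩
    (orderOf_eq_prime (Subtype.ext (by simpa [sq] using h2)) fun e => h1 (congrArg Subtype.val e))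
    (by rw [← SetLike.mem_coe, ← Sylow.coe_coe, hQ]; exact hw) fun g e => Subtype.ext (h g g.2 (by
      rw [← SetLike.mem_coe, ← Sylow.coe_coe, hQ] at e; exact e))
  exact ⟨N.map Y.subtype, le_normalizer_map_subtype N,
    by rwa [card_map_of_injective Y.subtype_injective], fun g hg => ⟨_, e ⟨g, hg⟩, rfl⟩⟩

theorem inverts {K : Subgroup G} {z : G} (h2 : z * z = 1) (hz : z ∈ normalizer (K : Set G))
    (h : ∀ x ∈ K, x * z = z * x → x = 1) : ∀ x ∈ K, z * x * z⁻¹ = x⁻¹ := fun x hx => by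
  have := MonoidHom.FixedPointFree.coe_eq_inv_of_involutive (φ := K.normalizerMonoidHom ⟨z, hz⟩)
    (fun g e => Subtype.ext (h g g.2 (mul_inv_eq_iff_eq_mul.1 (congrArg Subtype.val e)).symm))
    fun g => by
      rw [← MulAut.mul_apply, ← map_mul, show (⟨z, hz⟩ * ⟨z, hz⟩ : normalizer (K : Set G)) = 1 from
        Subtype.ext h2, map_one, MulAut.one_apply]
  exact congrArg Subtype.val (congrFun this ⟨x, hx⟩)

theorem exists_inv {K : Subgroup G} (h : Even (Nat.card K)) : ∃ k ∈ K, k * k = 1 ∧ k ≠ 1 := by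
  obtain ⟨k, hk⟩ := exists_prime_orderOf_dvd_card' (G := K) 2 h.two_dvd
  refine ⟨k, k.2, ?_, fun e => ?_⟩
  · have := pow_orderOf_eq_one k
    rw [hk, sq] at this
    exact congrArg Subtype.val this
  · rw [show k = 1 from Subtype.ext e, orderOf_one] at hk
    exact absurd hk (by decide)

theorem pow_card {K : Subgroup G} {c : G} (hc : c ∈ K) : c ^ Nat.card K = 1 :=
  congrArg Subtype.val (pow_card_eq_one' (x := (⟨c, hc⟩ : K)))

theorem odd_sq {K : Subgroup G} (h : Odd (Nat.card K)) {c : G} (hc : c ∈ K) :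
    ∃ f ∈ K, f * f = c := by
  obtain ⟨n, hn⟩ := h
  refine ⟨c ^ (n + 1), pow_mem hc _, ?_⟩
  rw [← pow_add, show n + 1 + (n + 1) = 2 * n + 1 + 1 by ring, pow_succ, ← hn, pow_card hc, one_mul]

theorem odd_inv {K : Subgroup G} (h : Odd (Nat.card K)) {c : G} (hc : c ∈ K) (h2 : c * c = 1) :
    c = 1 := by
  obtain ⟨n, hn⟩ := h
  have := pow_card hc
  rwa [hn, pow_succ, pow_mul, sq, h2, one_pow, one_mul] at this

omit [Finite G] in
theorem le_norm {S M : Subgroup G} (h : ∀ g ∈ S, ∀ x ∈ M, g * x * g⁻¹ ∈ M) :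
    S ≤ normalizer (M : Set G) := fun g hg => mem_normalizer_iff.2 fun x =>
  ⟨h g hg x, fun hx => by simpa [mul_assoc] using h g⁻¹ (inv_mem hg) _ hx⟩

omit [Finite G] in
theorem of_norm {M : Subgroup G} {g x : G} (hg : g ∈ normalizer (M : Set G)) (hx : x ∈ M) :
    g * x * g⁻¹ ∈ M := (mem_normalizer_iff.1 hg x).1 hx

omit [Finite G] in
theorem zpowers_inv {z x : G} (h2 : z * z = 1) (hx : x ∈ zpowers z) : x = 1 ∨ x = z := by
  obtain ⟨n, rfl⟩ := mem_zpowers_iff.1 hx
  have e : ∀ k : ℤ, z ^ (2 * k) = 1 := fun k => by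
    rw [zpow_mul, zpow_two, h2, one_zpow]
  obtain ⟨k, rfl | rfl⟩ := Int.even_or_odd' n
  · exact Or.inl (e k)
  · exact Or.inr (by rw [zpow_add, e, one_mul, zpow_one])

end Gen

variable {G Ω : Type*} [Group G] [Finite G] [MulAction G Ω] {N F : Ω → Subgroup G}

theorem other (h : TI N) (a : Ω) : ∃ b, a ≠ b := by
  obtain ⟨x, y, -, hxy, -⟩ := h.t2.big
  by_cases e : a = x
  · exact ⟨y, e ▸ hxy⟩
  · exact ⟨x, e⟩

theorem fstab (h : Base N F) {a : Ω} {g x : G} (hg : g • a = a) (hx : x ∈ F a) :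
    g * x * g⁻¹ ∈ F a := by simpa [hg] using h.fconj g a x hx

theorem fnorm (h : Base N F) (a : Ω) : stabilizer G a ≤ normalizer (F a : Set G) :=
  le_norm fun _ hg _ hx => fstab h hg hx

theorem oddF (h : Base N F) (he : ∀ a b, a ≠ b → Even (Nat.card (X N a b))) (a : Ω) :
    Odd (Nat.card (F a)) := by
  obtain ⟨b, hab⟩ := other h.toTI a
  exact Nat.coprime_two_right.1 ((h.cop hab).coprime_dvd_right (he a b hab).two_dvd)

theorem left_all (h : Base N F) {a : Ω} (hl : N a ⊓ centralizer (F a : Set G) ≤ F a) (b : Ω) :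
    N b ⊓ centralizer (F b : Set G) ≤ F b := by
  obtain ⟨g, rfl⟩ := h.t2.trans a b
  intro u hu
  have h1 : g⁻¹ * u * g ∈ F a := by
    refine hl ⟨(h.toTI.conj_iff g a).1 (by simpa [mul_assoc] using hu.1), fun f hf => ?_⟩
    have := hu.2 _ (h.fconj g a f hf)
    calc f * (g⁻¹ * u * g) = g⁻¹ * (g * f * g⁻¹ * u) * g := by group
      _ = g⁻¹ * u * g * f := by rw [this]; group
  simpa [mul_assoc] using h.fconj g a _ h1

section Left

variable (h : Base N F) (he : ∀ a b, a ≠ b → Even (Nat.card (X N a b)))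
  (hl : ∀ a, N a ⊓ centralizer (F a : Set G) ≤ F a)

include h hl in
theorem fne (a : Ω) : F a ≠ ⊥ := fun e => by
  obtain ⟨b, hab⟩ := other h.toTI a
  obtain ⟨k, hk, k1⟩ := h.toTI.exists_ne hab
  have := hl a (x := k) ⟨hk.1, fun f hf => by
    have : f ∈ F a := hf
    rw [e, mem_bot] at this
    simp [this]⟩
  exact k1 (mem_bot.1 (e ▸ this))

include h in
theorem invF {a b : Ω} (hab : a ≠ b) {l : G} (hl : l ∈ X N b a) (h2 : l * l = 1) (h1 : l ≠ 1) :
    ∀ x ∈ F a, l * x * l⁻¹ = x⁻¹ :=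
  inverts h2 (fnorm h a hl.2) fun x hx hc =>
    h.reg hab.symm x hx ((h.toTI.cent hab hl h1 (h.le a hx)).1 hc)

include h hl in
theorem uniq {a b : Ω} (hab : a ≠ b) {k k' : G} (hk : k ∈ X N a b) (h2 : k * k = 1) (h1 : k ≠ 1)
    (hk' : k' ∈ X N a b) (h2' : k' * k' = 1) (h1' : k' ≠ 1) : k' = k := by
  obtain ⟨x, hx, x1⟩ := (bot_or_exists_ne_one _).resolve_left (fne h hl b)
  by_contra hn
  have e : k * k' ≠ 1 := fun e => hn (mul_left_cancel (e.trans h2.symm))
  refine x1 (h.reg hab x hx (h.toTI.fixc (mul_mem hk.1 hk'.1) e ?_))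
  have e1 := invF h hab.symm hk h2 h1 _ (inv_mem hx)
  have e2 := invF h hab.symm hk' h2' h1' _ hx
  calc x * (k * k') = k * x⁻¹ * k⁻¹ * (k * k') := by rw [e1, inv_inv]
    _ = k * k' * x := by rw [← e2]; group

include h he hl in
theorem dec {a b : Ω} (hab : a ≠ b) : ∀ g ∈ N a, ∃ f ∈ F a, ∃ k ∈ X N a b, g = f * k := by
  intro g hg
  obtain ⟨l, hL, h2, h1⟩ := exists_inv (he b a hab.symm)
  have iv := invF h hab hL h2 h1
  have ga : g • a = a := h.fix a g hg
  have hc : l * g * l⁻¹ * g⁻¹ ∈ F a := by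
    refine hl a ⟨(N a).mul_mem (h.toTI.conj_of_fix hL.2 hg) ((N a).inv_mem hg), fun x hx => ?_⟩
    have e1 := iv _ (inv_mem (show x ∈ F a from hx))
    have e2 := iv _ (inv_mem (fstab h (inv_smul_eq_iff.2 ga.symm) (show x ∈ F a from hx)))
    simp only [inv_inv] at e1 e2
    calc x * (l * g * l⁻¹ * g⁻¹) = l * x⁻¹ * l⁻¹ * (l * g * l⁻¹ * g⁻¹) := by rw [e1]
      _ = l * g * l⁻¹ * (l * (g⁻¹ * x * g)⁻¹ * l⁻¹) * g⁻¹ := by group
      _ = l * g * l⁻¹ * g⁻¹ * x := by rw [e2]; group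
  obtain ⟨f, hf, e⟩ := odd_sq (oddF h he a) hc
  have hN : f * g ∈ N a := mul_mem (h.le a hf) hg
  refine ⟨f⁻¹, inv_mem hf, f * g, ⟨hN, (h.toTI.cent hab hL h1 hN).1 ?_⟩, by group⟩
  have e1 := iv f hf
  calc f * g * l = f⁻¹ * (f * f) * g * l := by group
    _ = l * (f * g) := by rw [e, ← e1]; group

include h he hl in
theorem card_two {a b : Ω} (hab : a ≠ b) : Nat.card (X N a b) = 2 := by
  obtain ⟨k, hk, h2, h1⟩ := exists_inv (he a b hab)
  have ka : k • a = a := h.fix a k hk.1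
  have hn : zpowers k ≤ normalizer (F a : Set G) := zpowers_le.2 (fnorm h a ka)
  have hM : F a ⊔ zpowers k = N a := by
    refine (h.max a _ (sup_le (h.le a) (zpowers_le.2 hk.1)) (le_norm fun g hg x hx => ?_)).resolve_right
      fun e => h1 (h.reg hab.symm k (e (mem_sup_right (mem_zpowers k))) hk.2)
    obtain ⟨f, hf, y, hy, rfl⟩ := (mem_sup_right_norm hn).1 hx
    rw [show g * (f * y) * g⁻¹ = g * f * g⁻¹ * (g * y * g⁻¹) by group]
    refine mul_mem (mem_sup_left (fstab h hg hf)) ?_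
    rcases zpowers_inv h2 hy with rfl | rfl
    · simp
    obtain ⟨f', hf', k', hk', e⟩ := dec h he hl hab _ (h.toTI.conj_of_fix hg hk.1)
    rw [e]
    refine mul_mem (mem_sup_left hf') (mem_sup_right ?_)
    have e1 : f' * k' * (f' * k') = 1 := by
      rw [← e, show g * y * g⁻¹ * (g * y * g⁻¹) = g * (y * y) * g⁻¹ by group, h2]; group
    have e2 : k' * k' = 1 := by
      refine h.reg hab.symm _ ?_ (mul_mem hk'.2 hk'.2)
      have := inv_mem (mul_mem hf' (fstab h (h.fix a k' hk'.1) hf'))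
      rwa [show (f' * (k' * f' * k'⁻¹))⁻¹ = k' * k' * (f' * k' * (f' * k'))⁻¹ by group, e1, inv_one,
        mul_one] at this
    by_cases k1 : k' = 1
    · rw [k1]; exact one_mem _
    · rw [uniq h hl hab hk h2 h1 hk' e2 k1]; exact mem_zpowers _
  have : X N a b = zpowers k := by
    refine le_antisymm (fun x hx => ?_) (zpowers_le.2 hk)
    obtain ⟨f, hf, y, hy, rfl⟩ := (mem_sup_right_norm hn).1 (hM.ge hx.1)
    have hb : f ∈ stabilizer G b := by
      simpa using (stabilizer G b).mul_mem hx.2 ((stabilizer G b).inv_mem ((zpowers_le.2 hk) hy).2)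
    rwa [h.reg hab.symm f hf hb, one_mul]
  rw [this, Nat.card_zpowers, orderOf_eq_prime (by rw [sq, h2]) h1]

include h he hl in
theorem left : FZ N F 2 :=
  { h.toTI with
    prime := Nat.prime_two
    card := card_two h he hl
    le := h.le
    fconj := h.fconj
    nil := h.nil
    reg := h.reg
    odd := oddF h he
    cop := fun a => Nat.two_dvd_ne_zero.2 (Nat.odd_iff.1 (oddF h he a))
    fne := fne h hl
    dec := dec h he hl }

end Left

section Right

variable (h : Base N F) (he : ∀ a b, a ≠ b → Even (Nat.card (X N a b)))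
  (hr : ∀ a, N a ≤ centralizer (F a : Set G) ∧ ⁅N a, N a⁆ = N a)

include h he hr in
theorem oc (a : Ω) (O : Subgroup G) (h1 : O ≤ N a) (h2 : N a ≤ normalizer (O : Set G))
    (h3 : Odd (Nat.card O)) : ∀ o ∈ O, ∀ g ∈ N a, o * g = g * o := by
  intro o ho g hg
  have e : O ≤ H14.opp 2 (N a) := H14.le_opp h1 h2 (Nat.coprime_two_right.2 h3)
  rcases h.max a (H14.opp 2 (N a)) (H14.opp_le _)
    ((h.toTI.stab_le a).trans (H14.normalizer_le_normalizer_opp _)) with e' | e'
  · obtain ⟨b, hab⟩ := other h.toTI a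
    have := Nat.coprime_two_right.1 (H14.coprime_card_opp (p := 2) (N a))
    rw [e'] at this
    exact absurd ((he a b hab).two_dvd.trans (card_dvd_of_le inf_le_left))
      (Nat.two_dvd_ne_zero.2 (Nat.odd_iff.1 this))
  · exact (hr a).1 hg o (e' (e ho))

include h he in
theorem o2 (a : Ω) (r : G) (hr : r ∈ N a) (h2 : r * r = 1) (h1 : r ≠ 1) :
    ∃ g ∈ N a, r * (g * r * g⁻¹) ≠ g * r * g⁻¹ * r := by
  by_contra hn
  push Not at hn
  let S : Set G := {x | ∃ g ∈ N a, x = g * r * g⁻¹}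
  have c0 : ∀ x ∈ S, ∀ y ∈ S, x * y = y * x := by
    rintro _ ⟨g, hg, rfl⟩ _ ⟨g', hg', rfl⟩
    have := hn _ (mul_mem (inv_mem hg) hg')
    calc g * r * g⁻¹ * (g' * r * g'⁻¹) = g * (r * (g⁻¹ * g' * r * (g⁻¹ * g')⁻¹)) * g⁻¹ := by group
      _ = g' * r * g'⁻¹ * (g * r * g⁻¹) := by rw [this]; group
  have c1 : closure S ≤ centralizer S := (closure_le _).2 fun y hy x hx => c0 x hx y hy
  have c2 : closure S ≤ centralizer (closure S : Set G) :=
    (closure_le _).2 fun y hy x hx => (c1 hx y hy).symm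
  have sq1 : ∀ x ∈ closure S, x * x = 1 := fun x hx => by
    induction hx using closure_induction with
    | mem x hx =>
      obtain ⟨g, -, rfl⟩ := hx
      rw [show g * r * g⁻¹ * (g * r * g⁻¹) = g * (r * r) * g⁻¹ by group, h2]; group
    | one => simp
    | mul x y hx hy ex ey =>
      rw [show x * y * (x * y) = x * (y * x) * y by group, c2 hx y hy,
        show x * (x * y) * y = x * x * (y * y) by group, ex, ey, one_mul]
    | inv x _ ex => rw [← mul_inv_rev, ex, inv_one]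
  have hA : closure S ≤ pCoreOf 2 (N a) := by
    refine le_pCoreOf (isPGroup_iff_forall.2 fun x hx => ⟨1, by rw [pow_one, sq, sq1 x hx]⟩)
      ((closure_le _).2 ?_) (le_norm fun g hg x hx => ?_)
    · rintro _ ⟨g, hg, rfl⟩
      exact mul_mem (mul_mem hg hr) (inv_mem hg)
    · induction hx using closure_induction with
      | mem x hx =>
        obtain ⟨g', hg', rfl⟩ := hx
        exact subset_closure ⟨g * g', mul_mem hg hg', by group⟩
      | one => simp
      | mul x y _ _ ex ey =>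
        rw [show g * (x * y) * g⁻¹ = g * x * g⁻¹ * (g * y * g⁻¹) by group]
        exact mul_mem ex ey
      | inv x _ ex =>
        rw [show g * x⁻¹ * g⁻¹ = (g * x * g⁻¹)⁻¹ by group]
        exact inv_mem ex
  rcases h.max a (pCoreOf 2 (N a)) (pCoreOf_le _)
    ((h.toTI.stab_le a).trans (normalizer_le_normalizer_pCoreOf _)) with e | e
  · have := isPGroup_pCoreOf (p := 2) (N a)
    rw [e] at this
    exact h.nnil a this.isNilpotent
  · exact h1 (odd_inv (oddF h he a) (e (hA (subset_closure ⟨1, one_mem _, by group⟩))) h2)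

include h he hr in
theorem zc (a : Ω) (Y T : Subgroup G) (z : G) (h1 : N a ≤ Y) (h2 : Y ≤ stabilizer G a)
    (hT : IsSyl 2 T Y) (hz : z ∈ T) (z2 : z * z = 1)
    (hi : ∀ g ∈ Y, g * z * g⁻¹ ∈ T → g * z * g⁻¹ = z) : ∀ g ∈ N a, z * g = g * z := by
  obtain ⟨M, m1, m2, m3⟩ := zstar hT hz z2 hi
  have c := oc h he hr a (M ⊓ N a) inf_le_right
    (le_norm fun g hg x hx => ⟨of_norm (m1 (h1 hg)) hx.1,
      (N a).mul_mem ((N a).mul_mem hg hx.2) ((N a).inv_mem hg)⟩)
    (m2.of_dvd_nat (card_dvd_of_le inf_le_left))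
  have e : ⁅zpowers z, N a⁆ ≤ M ⊓ N a := by
    refine commutator_le.2 fun x hx g hg => ?_
    rcases zpowers_inv z2 hx with rfl | rfl
    · simp
    · exact ⟨m3 g (h1 hg),
        (N a).mul_mem (h.toTI.conj_of_fix (h2 (hT.le hz)) hg) ((N a).inv_mem hg)⟩
  exact H14.commutator_eq_bot_iff_comm.1 (H14.commutator_eq_bot_of_perfect (hr a).2
    (H14.commutator_eq_bot_iff_comm.2 fun o ho => c o (e ho))) z (mem_zpowers z)

end Right

theorem jobKev : H89.ON2.JobKev.{u} := by
  intro G Ω _ _ _ N F h he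
  by_cases hl : ∀ a, N a ⊓ centralizer (F a : Set G) ≤ F a
  · exact Or.inl (left h he hl)
  have hr : ∀ a, N a ≤ centralizer (F a : Set G) ∧ ⁅N a, N a⁆ = N a := fun a =>
    (h.cf a).resolve_left fun e => hl (left_all h e)
  exact Or.inr
    { h.toTI with
      ev := fun hab => he _ _ hab
      perf := fun a => (hr a).2
      oc := oc h he hr
      o2 := o2 h he
      zc := zc h he hr }

end H39.ON
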