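import Cfsg.Agent.H86.TP.Spec
import Cfsg.Agent.H14.FEKit

/-! # S1308, chapter TP: slot GQ0 -/

set_option autoImplicit false

namespace H39.TPGQ0

open Cfsg Subgroup MulAction H14 H98 H1.Gold H31.S2 H14.GC H14.FE H14.NF H86.TP
open scoped commutatorElement

universe u

section

variable {G : Type u} [Group G]

theorem cj_OZ (g : G) (R : Subgroup G) : cj g (OZ R) = OZ (cj g R) := by
  ext z
  rw [mem_cj, mem_OZ, mem_OZ, mem_cj]
  refine and_congr Iff.rfl (and_congr ⟨fun h => ?_, fun h => ?_⟩ ⟨fun h x hx => ?_, fun h x hx => ?_⟩)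
  · calc z * z = g * (g⁻¹ * z * g * (g⁻¹ * z * g)) * g⁻¹ := by group
      _ = 1 := by rw [h]; group
  · calc g⁻¹ * z * g * (g⁻¹ * z * g) = g⁻¹ * (z * z) * g := by group
      _ = 1 := by rw [h]; group
  · calc x * z = g * (g⁻¹ * x * g * (g⁻¹ * z * g)) * g⁻¹ := by group
      _ = z * x := by rw [h _ (mem_cj.1 hx)]; group
  · calc x * (g⁻¹ * z * g) = g⁻¹ * (g * x * g⁻¹ * z) * g := by group
      _ = g⁻¹ * z * g * x := by rw [h _ (conj_mem_cj hx)]; group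

end

theorem jGQ0 : JobGQ0.{u} := by
  intro ld0 lp0 x2 a3 zr sc nc zs f3 go G _ _ Q tq
  obtain ⟨Q', T, vx, ne, syl, nb, ns⟩ := tq.ex
  have hn : T ≤ nor Q := syl.le.trans inf_le_right
  obtain ⟨P₀, -, k2, k3⟩ := exists_inv_syl syl.isPGroup hn
  have hL := lp0 G Q Q' T _ _ ((ld0 G Q tq Q' T _ vx ne syl nb k3
    (le_normalizer_inf (le_normalizer_of_le k2) hn)).2 ns)
  generalize P₀ ⊓ Q = R at hL k3
  generalize R ⊓ cen T = E at hL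
  generalize R ⊓ nor (E ⊔ T) = P at hL
  have hE : E = OZ R := zr G Q Q' T R E P hL
  have key : ∀ e ∈ E, ∀ g ∈ Q, g * e * g⁻¹ ∈ E ⊔ opp 2 Q := by
    by_cases hP : P = R
    · subst hP
      exact go G Q Q' T P E hL (f3 G Q Q' T P E hL)
    · obtain ⟨x, hx⟩ := (x2 G Q Q' T R E P hL).1 hP
      exact zs G Q R E k3 hE (sc G Q Q' T R E P hL) (nc G Q Q' T R E P x hL hx)
  refine ⟨tq, fun R₁ R₂ h1 h2 => ?_, fun R₁ h1 => ?_, fun Q₁ T₁ R₁ E₁ P₁ h => ⟨zr G Q Q₁ T₁ R₁ E₁ P₁ h,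
    a3 G Q Q₁ T₁ R₁ E₁ P₁ h, fun hP => ?_⟩⟩
  · obtain ⟨a, ha, rfl⟩ := k3.exists_cj_eq h1
    obtain ⟨b, hb, rfl⟩ := k3.exists_cj_eq h2
    rw [← cj_OZ, ← cj_OZ, ← hE, ← cj_eq_self (self_le_normalizer_opp Q ha), ← cj_sup]
    intro z hz
    have := key _ (mem_cj.1 hz) (a⁻¹ * b) (mul_mem (inv_mem ha) hb)
    refine mem_cj.2 ?_
    convert this using 1
    group
  · obtain ⟨a, -, rfl⟩ := k3.exists_cj_eq h1
    rw [← cj_OZ, ← hE]
    exact hL.fourE.cj a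
  · obtain ⟨x, hx⟩ := (x2 G Q Q₁ T₁ R₁ E₁ P₁ h).1 hP
    exact hx.fu

end H39.TPGQ0
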